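import Cfsg.Agent.Lib.AschbacherForm.Cases.SympTensorTools

/-!
Coordinates with respect to a family of vectors of known Gram matrix.
-/

set_option autoImplicit false
set_option linter.unusedSectionVars false

namespace CfsgLib.AschbacherForm.Cases

open Cfsg Cfsg.Geo CfsgLib.Aschbacher
open scoped Matrix MatrixGroups

universe u
variable {F : Type u} [Field F] {ι κ : Type} [Fintype ι] [DecidableEq ι] [Fintype κ] [DecidableEq κ]
  {σ : F ≃+* F} {f : (ι → F) → (ι → F) → F} {J : GL ι F} {ε : F}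

/-- The group isomorphism given by coordinates. -/
def frameEquiv (e : ι ≃ κ) (P : GL ι F) : GL κ F ≃* GL ι F :=
  (glReindex e.symm).trans (MulAut.conj P)

theorem coordR_frame (e : ι ≃ κ) (P : GL ι F) (k : GL κ F) :
    coordR e P ((frameEquiv e P k : GL ι F) : Matrix ι ι F) = (k : Matrix κ κ F) := by
  rw [coordR_gl]
  refine congrArg Units.val (?_ : _ = k)
  show glReindex e (P⁻¹ * (P * glReindex e.symm k * P⁻¹) * P) = k
  rw [show P⁻¹ * (P * glReindex e.symm k * P⁻¹) * P = glReindex e.symm k by group]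
  refine Units.ext ?_
  ext i j
  simp [glReindex]

theorem det_frame (e : ι ≃ κ) (P : GL ι F) (g : GL ι F) :
    (coordR e P (g : Matrix ι ι F)).det = (g : Matrix ι ι F).det := by
  rw [coordR_apply, Matrix.det_submatrix_equiv_self, Matrix.det_units_conj']

/-- Coordinates along a family with an invertible Gram matrix. -/
theorem exists_coords [Fintype F] (hG : Geom σ f J ε) (e : ι ≃ κ) (z : κ → ι → F) {G : Matrix κ κ F} (hu : IsUnit G)
    (hz : ∀ p q, f (z p) (z q) = G p q) :
    ∃ P : GL ι F, (∀ p, (P : Matrix ι ι F) *ᵥ (Pi.single p 1 ∘ e) = z p) ∧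
      (coordJ σ e P J : Matrix κ κ F) = G := by
  let P₀ : Matrix ι ι F := Matrix.of fun i j => z (e j) i
  have hcol : ∀ p, P₀ *ᵥ (Pi.single p (1 : F) ∘ e) = z p := fun p => by
    funext i
    rw [show (Pi.single p (1 : F) ∘ e) = Pi.single (e.symm p) 1 from funext fun j => by
      simp [Pi.single_apply, Equiv.eq_symm_apply]]
    simp [P₀]
  have hPJ : (P₀ᵀ * (J : Matrix ι ι F) * P₀.map σ).submatrix e.symm e.symm = G := by
    ext p q
    have h1 := formOfGram_single σ ((P₀ᵀ * (J : Matrix ι ι F) * P₀.map σ).submatrix e.symm e.symm) p q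
    rw [← h1, ← hz, hG.eq_gram, ← hcol, ← hcol, formOfGram_mulVec]
    simp only [formOfGram, Function.comp_apply, Matrix.submatrix_apply]
    refine (Fintype.sum_equiv e _ _ fun i => Fintype.sum_equiv e _ _ fun j => ?_).symm
    simp
  obtain ⟨P, hP⟩ : IsUnit P₀ := by
    rw [Matrix.isUnit_iff_isUnit_det, isUnit_iff_ne_zero]
    intro e0
    have h1 := (Matrix.isUnit_iff_isUnit_det G).1 hu
    rw [← hPJ, Matrix.det_submatrix_equiv_self, Matrix.det_mul, Matrix.det_mul, Matrix.det_transpose, e0, zero_mul,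
      zero_mul] at h1
    exact h1.ne_zero rfl
  exact ⟨P, fun p => by rw [hP]; exact hcol p, by rw [coordJ_val, hP]; exact hPJ⟩

/-- The matrix of a map from the images of the family. -/
theorem coordR_of_cols (e : ι ≃ κ) (P : GL ι F) {z : κ → ι → F}
    (hcol : ∀ p, (P : Matrix ι ι F) *ᵥ (Pi.single p 1 ∘ e) = z p) {x : Matrix ι ι F} {N : Matrix κ κ F}
    (h : ∀ p, x *ᵥ z p = ∑ r, N r p • z r) : coordR e P x = N := by
  refine Matrix.toLin'.injective ((Pi.basisFun F κ).ext fun p => ?_)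
  rw [Pi.basisFun_apply, Matrix.toLin'_apply, Matrix.toLin'_apply]
  apply_fun (fun w => (P : Matrix ι ι F) *ᵥ (w ∘ e)) using fun w w' hww => by
    have h1 := congrArg (fun u => (↑P⁻¹ : Matrix ι ι F) *ᵥ u) hww
    simp only [Matrix.mulVec_mulVec, Units.inv_mul, Matrix.one_mulVec] at h1
    exact funext fun k => by simpa using congrFun h1 (e.symm k)
  beta_reduce
  have h2 : (P : Matrix ι ι F) *ᵥ ((N *ᵥ Pi.single p 1) ∘ e) = ∑ r, N r p • z r := by
    rw [show N *ᵥ Pi.single p (1 : F) = ∑ r, N r p • Pi.single r (1 : F) from by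
      funext s; simp [Matrix.mulVec_single_one, Finset.sum_apply, Pi.single_apply]]
    simp only [← hcol]
    rw [show ((∑ r, N r p • Pi.single r (1 : F)) ∘ e) = ∑ r, N r p • (Pi.single r (1 : F) ∘ e) from by
      funext i; simp [Finset.sum_apply], Matrix.mulVec_sum]
    simp only [Matrix.mulVec_smul]
  rw [h2, ← h, ← hcol p, coordR_apply, Matrix.submatrix_mulVec_equiv]
  simp only [Equiv.symm_symm, Function.comp_assoc, Equiv.symm_comp_self, Function.comp_id, Matrix.mulVec_mulVec]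
  rw [mul_assoc, Units.mul_inv_cancel_left]

/-- An isometry in coordinates comes from an isometry. -/
theorem frame_isometry [Fintype F] (hG : Geom σ f J ε) (e : ι ≃ κ) (P : GL ι F) (k : GL κ F)
    (hk : (k : Matrix κ κ F)ᵀ * (coordJ σ e P J : Matrix κ κ F) * (k : Matrix κ κ F).map σ = coordJ σ e P J)
    (u v : ι → F) :
    f (((frameEquiv e P k : GL ι F) : Matrix ι ι F) *ᵥ u) (((frameEquiv e P k : GL ι F) : Matrix ι ι F) *ᵥ v) =
      f u v := by
  obtain ⟨x, rfl⟩ : ∃ x : κ → F, (P : Matrix ι ι F) *ᵥ (x ∘ e) = u :=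
    ⟨((↑P⁻¹ : Matrix ι ι F) *ᵥ u) ∘ e.symm, by simp [Function.comp_assoc, Matrix.mulVec_mulVec]⟩
  obtain ⟨y, rfl⟩ : ∃ y : κ → F, (P : Matrix ι ι F) *ᵥ (y ∘ e) = v :=
    ⟨((↑P⁻¹ : Matrix ι ι F) *ᵥ v) ∘ e.symm, by simp [Function.comp_assoc, Matrix.mulVec_mulVec]⟩
  rw [coordR_mulVec, coordR_mulVec, coordR_frame, coord_form hG e P, coord_form hG e P, formOfGram_mulVec, hk]

end CfsgLib.AschbacherForm.Cases
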