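import Cfsg.Agent.Lib.Aschbacher.Cases.NotFull
import Cfsg.Agent.Lib.AschbacherForm.Kron

/-!
Groups with enough transvections lie in no member of the geometric classes: the form-free part.
-/

set_option autoImplicit false
set_option linter.unusedSectionVars false

namespace CfsgLib.AschbacherForm.Cases

open Cfsg Cfsg.Geo CfsgLib.Aschbacher
open CfsgLib.Maximal (tv tv_val tv_mulVec exists_ann)
open CfsgLib.Aschbacher.Cases (cj_eq_of_mul_eq kronOne slotHom)
open scoped Matrix MatrixGroups Kronecker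

universe u
variable {F : Type u} [Field F] [Fintype F] {ι : Type} [Fintype ι] [DecidableEq ι]

/-- The transvections in `Ω` commute with scalar matrices only. -/
def Rich (Ω : Subgroup (GL ι F)) : Prop :=
  ∀ x : Matrix ι ι F, (∀ (a φ : ι → F) (h : φ ⬝ᵥ a = 0), tv a φ h ∈ Ω → cj (tv a φ h) x = x) →
    ∃ c : F, x = c • 1

theorem span_two_ne_top (hn : 3 ≤ Fintype.card ι) (a b : ι → F) : Submodule.span F {a, b} ≠ ⊤ := fun h => by
  classical
  have h1 := finrank_span_le_card (R := F) ({a, b} : Set (ι → F))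
  rw [h, finrank_top, Module.finrank_fintype_fun_eq_card] at h1
  have h2 : ({a, b} : Set (ι → F)).toFinset.card ≤ 2 := by
    simp only [Set.toFinset_insert, Set.toFinset_singleton]
    exact Finset.card_le_two
  omega

theorem tv_inv_mulVec' (a φ : ι → F) (h : φ ⬝ᵥ a = 0) (v : ι → F) :
    (↑(tv a φ h)⁻¹ : Matrix ι ι F) *ᵥ v = v - (φ ⬝ᵥ v) • a := by
  rw [show (↑(tv a φ h)⁻¹ : Matrix ι ι F) = 1 + Matrix.vecMulVec (-a) φ from rfl, Matrix.add_mulVec,
    Matrix.one_mulVec, Matrix.vecMulVec_mulVec, op_smul_eq_smul, smul_neg, sub_eq_add_neg]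

/-- Conjugation by a transvection changes a matrix by one with image in a plane. -/
theorem cj_tv_sub (a φ : ι → F) (h : φ ⬝ᵥ a = 0) (x : Matrix ι ι F) (v : ι → F) :
    (cj (tv a φ h) x - x) *ᵥ v ∈ Submodule.span F {a, x *ᵥ a} := by
  refine Submodule.mem_span_pair.2 ⟨φ ⬝ᵥ (x *ᵥ (v - (φ ⬝ᵥ v) • a)), -(φ ⬝ᵥ v), ?_⟩
  rw [Matrix.sub_mulVec, cj_apply, ← Matrix.mulVec_mulVec, ← Matrix.mulVec_mulVec, tv_inv_mulVec', tv_mulVec,
    Matrix.mulVec_sub, Matrix.mulVec_smul, neg_smul]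
  abel

variable {Ω : Subgroup (GL ι F)}

theorem not_le_field (hΩ : Rich Ω) (hn : 3 ≤ Fintype.card ι) {r : ℕ} (hr : 2 ≤ r)
    {K : Subalgebra F (Matrix ι ι F)} (hK : IsFieldSubalgebra r K) : ¬ Ω ≤ subalgebraNormalizer K := by
  intro h
  haveI : Nonempty ι := Fintype.card_pos_iff.1 (by omega)
  have hscal : ∀ k ∈ K, ∃ c : F, k = c • 1 := fun k hk => hΩ k fun a φ hφ hmem => by
    have hm : cj (tv a φ hφ) k - k ∈ K := sub_mem ((h hmem k).1 hk) hk
    by_contra hne
    obtain ⟨y, -, hy⟩ := hK.inv _ hm (sub_ne_zero.2 hne)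
    refine span_two_ne_top hn a (k *ᵥ a) (eq_top_iff.2 fun w _ => ?_)
    have := cj_tv_sub a φ hφ k (y *ᵥ w)
    rwa [Matrix.mulVec_mulVec, hy, Matrix.one_mulVec] at this
  have hbot : K = ⊥ := eq_bot_iff.2 fun k hk => by
    obtain ⟨c, rfl⟩ := hscal k hk
    exact Algebra.mem_bot.2 ⟨c, by rw [Algebra.algebraMap_eq_smul_one]⟩
  have := hK.finrank_eq
  rw [hbot, Subalgebra.finrank_bot] at this
  omega

/-- An element of a copy of a matrix algebra with image in a span of few vectors. -/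
theorem card_le_of_range {d : ℕ} (φ : Matrix (Fin d) (Fin d) F →ₐ[F] Matrix ι ι F) {C : Matrix (Fin d) (Fin d) F}
    (hC : C ≠ 0) {s : ℕ} (w : Fin s → ι → F) (h : ∀ v, φ C *ᵥ v ∈ Submodule.span F (Set.range w)) :
    Fintype.card ι ≤ d * s := by
  classical
  obtain ⟨i, j, hij⟩ : ∃ i j, C i j ≠ 0 := by
    by_contra hc
    push Not at hc
    exact hC (Matrix.ext hc)
  let f : Fin d × Fin s → (ι → F) := fun p => φ (Matrix.single p.1 i (C i j)⁻¹) *ᵥ w p.2
  have htop : (⊤ : Submodule F (ι → F)) ≤ Submodule.span F (Set.range f) := by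
    intro v _
    have h1 : v = ∑ k, φ (Matrix.single k k 1) *ᵥ v := by
      rw [← Matrix.sum_mulVec, ← map_sum]
      conv_lhs => rw [← Matrix.one_mulVec v, ← map_one φ]
      congr 2
      exact (Matrix.sum_single_one).symm
    rw [h1]
    refine Submodule.sum_mem _ fun k _ => ?_
    have h2 : Matrix.single k k (1 : F) = Matrix.single k i (C i j)⁻¹ * C * Matrix.single j k 1 := by
      rw [Matrix.single_mul_mul_single, inv_mul_cancel₀ hij, one_mul]
    rw [h2, map_mul, map_mul, ← Matrix.mulVec_mulVec, ← Matrix.mulVec_mulVec]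
    obtain ⟨c, hc⟩ := (Submodule.mem_span_range_iff_exists_fun F).1 (h (φ (Matrix.single j k 1) *ᵥ v))
    rw [← hc, Matrix.mulVec_sum]
    exact Submodule.sum_mem _ fun l _ => by
      rw [Matrix.mulVec_smul]
      exact Submodule.smul_mem _ _ (Submodule.subset_span ⟨(k, l), rfl⟩)
  have h3 := finrank_range_le_card (R := F) f
  rw [Set.finrank, eq_top_iff.2 htop, finrank_top, Module.finrank_fintype_fun_eq_card] at h3
  simpa using h3

theorem not_stable_algHom (hΩ : Rich Ω) {d : ℕ} (hd : 2 ≤ d) (hdn : 2 * d < Fintype.card ι)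
    (φ : Matrix (Fin d) (Fin d) F →ₐ[F] Matrix ι ι F)
    (h : ∀ (a ψ : ι → F) (h : ψ ⬝ᵥ a = 0), tv a ψ h ∈ Ω → ∀ C, cj (tv a ψ h) (φ C) ∈ φ.range) : False := by
  haveI : Nonempty (Fin d) := ⟨⟨0, by omega⟩⟩
  haveI : Nonempty ι := Fintype.card_pos_iff.1 (by omega)
  have hinj : Function.Injective φ := RingHom.injective φ.toRingHom
  have hscal : ∀ C, ∃ c : F, φ C = c • 1 := fun C => hΩ _ fun a ψ hψ hmem => by
    obtain ⟨C', hC'⟩ := h a ψ hψ hmem C
    change φ C' = _ at hC'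
    by_contra hne
    have h1 : C' - C ≠ 0 := fun e => hne (by rw [← hC', sub_eq_zero.1 e])
    have h2 := card_le_of_range φ h1 ![a, φ C *ᵥ a] fun v => by
      rw [Matrix.range_cons_cons_empty, map_sub, hC']
      exact cj_tv_sub a ψ hψ _ v
    omega
  let z : Fin d := ⟨0, by omega⟩
  let o : Fin d := ⟨1, by omega⟩
  obtain ⟨c, hc⟩ := hscal (Matrix.single z z 1)
  have hone : Matrix.single z z (1 : F) = c • 1 := hinj (by rw [hc, map_smul, map_one])
  have h0 := congrFun (congrFun hone z) z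
  have h1 := congrFun (congrFun hone o) o
  simp [z, o] at h0 h1
  rw [← h1] at h0
  exact one_ne_zero h0

/-! ### Tensor products -/

/-- `a ↦ P (a ⊗ 1) P⁻¹`. -/
def tensorHom' {n₁ n₂ : ℕ} (e : ι ≃ Fin n₁ × Fin n₂) (P : GL ι F) :
    Matrix (Fin n₁) (Fin n₁) F →ₐ[F] Matrix ι ι F :=
  ((cj P).toAlgHom.comp (Matrix.reindexAlgEquiv F F e.symm).toAlgHom).comp (kronOne n₁ n₂)

theorem tensorHom'_conj {n₁ n₂ : ℕ} {e : ι ≃ Fin n₁ × Fin n₂} {P g : GL ι F}
    (hg : g ∈ tensorProductSubgroup n₁ n₂ e P) :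
    ∃ a : GL (Fin n₁) F, ∀ C, cj g (tensorHom' e P C) = tensorHom' e P (cj a C) := by
  obtain ⟨_, ⟨k, ⟨a, b, hk⟩, rfl⟩, rfl⟩ := hg
  refine ⟨a, fun C => ?_⟩
  show cj (P * glReindex e.symm k * P⁻¹) (cj P (Matrix.reindexAlgEquiv F F e.symm (kronOne n₁ n₂ C))) = _
  rw [cj_cj, inv_mul_cancel_right, ← cj_cj]
  show _ = cj P (Matrix.reindexAlgEquiv F F e.symm (kronOne n₁ n₂ (cj a C)))
  congr 1
  have hkc : cj k (kronOne n₁ n₂ C) = kronOne n₁ n₂ (cj a C) := by
    rw [cj_eq_of_mul_eq]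
    show (k : Matrix (Fin n₁ × Fin n₂) (Fin n₁ × Fin n₂) F) * (C ⊗ₖ 1) =
        (cj a C ⊗ₖ 1) * (k : Matrix (Fin n₁ × Fin n₂) (Fin n₁ × Fin n₂) F)
    rw [hk, ← Matrix.mul_kronecker_mul, ← Matrix.mul_kronecker_mul, mul_one, one_mul]
    simp [cj_apply, mul_assoc]
  rw [← hkc]
  simp [cj_apply, glReindex]

theorem not_le_tensor (hΩ : Rich Ω) {n₁ n₂ : ℕ} {e : ι ≃ Fin n₁ × Fin n₂} {P : GL ι F}
    (h1 : 2 ≤ n₁) (h2 : 3 ≤ n₂) : ¬ Ω ≤ tensorProductSubgroup n₁ n₂ e P := by
  intro h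
  refine not_stable_algHom hΩ h1 (by rw [Fintype.card_congr e]; simp; nlinarith) (tensorHom' e P)
    fun a ψ hψ hmem C => ?_
  obtain ⟨g, hg⟩ := tensorHom'_conj (h hmem)
  exact ⟨_, (hg C).symm⟩

/-! ### Tensor powers -/

/-- `a ↦ P (slot i a) P⁻¹`. -/
def wreathHom {d t : ℕ} (e : ι ≃ (Fin t → Fin d)) (P : GL ι F) (i : Fin t) :
    Matrix (Fin d) (Fin d) F →ₐ[F] Matrix ι ι F :=
  ((cj P).toAlgHom.comp (Matrix.reindexAlgEquiv F F e.symm).toAlgHom).comp (slotHom i)

theorem wreathHom_conj {d t : ℕ} {e : ι ≃ (Fin t → Fin d)} {P g : GL ι F}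
    (hg : g ∈ tensorWreathSubgroup d t e P) :
    ∃ π : Equiv.Perm (Fin t), ∀ i C, cj g (wreathHom e P i C) ∈ (wreathHom e P (π i)).range := by
  classical
  let Perms : Subgroup (GL ι F) :=
    { carrier := {g | ∃ π : Equiv.Perm (Fin t), (∀ i C, cj g (wreathHom e P i C) ∈ (wreathHom e P (π i)).range) ∧
        (∀ i C, cj g⁻¹ (wreathHom e P i C) ∈ (wreathHom e P (π⁻¹ i)).range)}
      one_mem' := ⟨1, fun i C => ⟨C, by simp [cj_one]⟩, fun i C => ⟨C, by simp [cj_one]⟩⟩
      mul_mem' := by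
        rintro g g' ⟨π, h1, h2⟩ ⟨π', h1', h2'⟩
        refine ⟨π * π', fun i C => ?_, fun i C => ?_⟩
        · obtain ⟨C', hC'⟩ := h1' i C
          rw [← cj_cj, ← hC']
          exact h1 _ C'
        · obtain ⟨C', hC'⟩ := h2 i C
          rw [mul_inv_rev, mul_inv_rev, ← cj_cj, ← hC']
          exact h2' _ C'
      inv_mem' := by
        rintro g ⟨π, h1, h2⟩
        exact ⟨π⁻¹, h2, by rw [inv_inv, inv_inv]; exact h1⟩ }
  have hle : tensorWreathSubgroup d t e P ≤ Perms := by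
    let f : GL (Fin t → Fin d) F →* GL ι F :=
      (MulAut.conj P).toMonoidHom.comp (glReindex e.symm).toMonoidHom
    have hf : ∀ k i C, cj (f k) (wreathHom e P i C) =
        cj P (Matrix.reindexAlgEquiv F F e.symm (cj k (slot i C))) := by
      intro k i C
      show cj (P * glReindex e.symm k * P⁻¹) (cj P (Matrix.reindexAlgEquiv F F e.symm (slot i C))) = _
      rw [cj_cj, inv_mul_cancel_right, ← cj_cj]
      simp [cj_apply, glReindex]
    rw [tensorWreathSubgroup, Subgroup.map_map, Subgroup.map_le_iff_le_comap, tensorWreathStandard,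
      Subgroup.closure_le]
    rintro k (⟨gs, hgs⟩ | ⟨σ, hσ⟩)
    · have hk : k = pureGL gs := Units.ext (Matrix.ext hgs)
      have hp : ∀ (gs' : Fin t → GL (Fin d) F) i C, cj (pureGL gs') (slot i C) = slot i (cj (gs' i) C) :=
        fun gs' i C => pure'_conj_slot gs' i C
      have hki : k⁻¹ = pureGL fun i => (gs i)⁻¹ := by
        subst hk; exact Units.ext rfl
      refine ⟨1, fun i C => ⟨cj (gs i) C, ?_⟩, fun i C => ⟨cj (gs i)⁻¹ C, ?_⟩⟩
      · show wreathHom e P i (cj (gs i) C) = cj (f k) (wreathHom e P i C)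
        rw [hf, hk, hp]; rfl
      · show wreathHom e P i (cj (gs i)⁻¹ C) = cj (f k)⁻¹ (wreathHom e P i C)
        rw [← map_inv, hf, hki, hp]; rfl
    · have hk : k = permGL σ := Units.ext (Matrix.ext hσ)
      have hki : k⁻¹ = permGL σ⁻¹ := by
        subst hk; exact Units.ext rfl
      refine ⟨σ, fun i C => ⟨C, ?_⟩, fun i C => ⟨C, ?_⟩⟩
      · show wreathHom e P (σ i) C = cj (f k) (wreathHom e P i C)
        rw [hf, hk, permGL_conj_slot]; rfl
      · show wreathHom e P (σ⁻¹ i) C = cj (f k)⁻¹ (wreathHom e P i C)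
        rw [← map_inv, hf, hki, permGL_conj_slot]; rfl
  obtain ⟨π, h1, -⟩ := hle hg
  exact ⟨π, h1⟩

theorem slot_commute {d t : ℕ} {i j : Fin t} (hij : i ≠ j) (A B : Matrix (Fin d) (Fin d) F) :
    slot i A * slot j B = slot j B * slot i A := by
  classical
  rw [slot_eq_pure, slot_eq_pure, pure'_mul, pure'_mul]
  congr 1
  funext l
  rcases eq_or_ne l i with rfl | h1
  · simp [hij]
  · simp [h1]

theorem not_le_wreath (hΩ : Rich Ω) {d t : ℕ} (hd : 2 ≤ d) (ht : 1 ≤ t) {e : ι ≃ (Fin t → Fin d)}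
    {P : GL ι F} (hn : 5 ≤ Fintype.card ι) (hn' : 2 * d < Fintype.card ι)
    {A C : Matrix (Fin d) (Fin d) F} (hD : IsUnit (A * C - C * A)) :
    ¬ Ω ≤ tensorWreathSubgroup d t e P := by
  intro h
  let i₀ : Fin t := ⟨0, ht⟩
  refine not_stable_algHom hΩ hd hn' (wreathHom e P i₀) fun a ψ hψ hmem C₁ => ?_
  obtain ⟨π, hπ⟩ := wreathHom_conj (h hmem)
  suffices hfix : π i₀ = i₀ by
    have := hπ i₀ C₁
    rwa [hfix] at this
  by_contra hne
  obtain ⟨C', hC'⟩ := hπ i₀ C
  change wreathHom e P (π i₀) C' = _ at hC'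
  set Φ := wreathHom e P i₀
  set x := cj (tv a ψ hψ) (Φ C) - Φ C with hx
  have hcomm : Φ A * wreathHom e P (π i₀) C' = wreathHom e P (π i₀) C' * Φ A := by
    show cj P (Matrix.reindexAlgEquiv F F e.symm (slot i₀ A)) * cj P (Matrix.reindexAlgEquiv F F e.symm (slot _ C')) =
      cj P (Matrix.reindexAlgEquiv F F e.symm (slot _ C')) * cj P (Matrix.reindexAlgEquiv F F e.symm (slot i₀ A))
    rw [← map_mul, ← map_mul, ← map_mul, ← map_mul, slot_commute (Ne.symm hne)]
  have hkey : Φ (A * C - C * A) = x * Φ A - Φ A * x := by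
    rw [hx, ← hC', map_sub, map_mul, map_mul, sub_mul, mul_sub, hcomm]
    abel
  let w : Fin 4 → ι → F := ![a, Φ C *ᵥ a, Φ A *ᵥ a, Φ A *ᵥ (Φ C *ᵥ a)]
  have hrange : ∀ v, Φ (A * C - C * A) *ᵥ v ∈ Submodule.span F (Set.range w) := by
    intro v
    have hw : ∀ i, w i ∈ Submodule.span F (Set.range w) := fun i => Submodule.subset_span ⟨i, rfl⟩
    obtain ⟨s, s', hs⟩ := Submodule.mem_span_pair.1 (cj_tv_sub a ψ hψ (Φ C) (Φ A *ᵥ v))
    obtain ⟨r, r', hr⟩ := Submodule.mem_span_pair.1 (cj_tv_sub a ψ hψ (Φ C) v)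
    rw [hkey, Matrix.sub_mulVec, ← Matrix.mulVec_mulVec, ← Matrix.mulVec_mulVec, hx, ← hs, ← hr,
      Matrix.mulVec_add, Matrix.mulVec_smul, Matrix.mulVec_smul]
    exact sub_mem (add_mem (Submodule.smul_mem _ _ (hw 0)) (Submodule.smul_mem _ _ (hw 1)))
      (add_mem (Submodule.smul_mem _ _ (hw 2)) (Submodule.smul_mem _ _ (hw 3)))
  obtain ⟨u, hu⟩ := hD.map Φ
  have htop : (⊤ : Submodule F (ι → F)) ≤ Submodule.span F (Set.range w) := fun v _ => by
    have := hrange ((↑u⁻¹ : Matrix ι ι F) *ᵥ v)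
    rwa [← hu, Matrix.mulVec_mulVec, Units.mul_inv, Matrix.one_mulVec] at this
  have h3 := finrank_range_le_card (R := F) w
  rw [Set.finrank, eq_top_iff.2 htop, finrank_top, Module.finrank_fintype_fun_eq_card, Fintype.card_fin] at h3
  omega

/-! ### Decompositions -/

theorem decomp_isCompl {t k : ℕ} {D : Fin t → Submodule F (ι → F)} (hD : IsMDecomposition k D) (i : Fin t) :
    IsCompl (D i) (⨆ (j) (_ : j ≠ i), D j) := by
  refine ⟨hD.indep i, codisjoint_iff.2 (top_unique ?_)⟩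
  rw [← hD.iSup_eq_top]
  refine iSup_le fun j => ?_
  rcases eq_or_ne j i with rfl | hj
  · exact le_sup_left
  · exact le_sup_of_le_right (le_iSup₂_of_le j hj le_rfl)

theorem not_le_decomposition (hΩ : Rich Ω) {t k : ℕ} (hk : 2 ≤ k) {D : Fin t → Submodule F (ι → F)}
    (hD : IsMDecomposition k D) : ¬ Ω ≤ decompositionStabilizer D := by
  intro h
  let i : Fin t := ⟨0, by have := hD.two_le; omega⟩
  let j : Fin t := ⟨1, by have := hD.two_le; omega⟩
  have hji : j ≠ i := by simp [i, j, Fin.ext_iff]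
  have hc := decomp_isCompl hD i
  let p : (ι → F) →ₗ[F] (ι → F) := (D i).subtype ∘ₗ (D i).projectionOnto _ hc
  have hfix : ∀ (a φ : ι → F) (hφ : φ ⬝ᵥ a = 0), tv a φ hφ ∈ Ω → ∀ l, ∀ v ∈ D l,
      (tv a φ hφ : Matrix ι ι F) *ᵥ v ∈ D l := by
    intro a φ hφ hmem l v hv
    obtain ⟨σ, hσ⟩ := h hmem
    have hσl : σ l = l := by
      by_contra hne
      let g : D l →ₗ[F] F := (dotProductEquiv F ι φ) ∘ₗ (D l).subtype
      obtain ⟨w, hw, hw0⟩ : ∃ w ∈ LinearMap.ker g, w ≠ 0 := by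
        refine (Submodule.ne_bot_iff _).1 fun e => ?_
        have h1 := g.finrank_range_add_finrank_ker
        rw [e, finrank_bot, hD.finrank_eq] at h1
        have h2 := (LinearMap.range g).finrank_le
        rw [Module.finrank_self] at h2
        omega
      have h3 : (w : ι → F) ∈ D (σ l) := by
        rw [← hσ l]
        refine ⟨w, w.2, ?_⟩
        rw [Matrix.toLin'_apply, tv_mulVec, show φ ⬝ᵥ (w : ι → F) = 0 from hw, zero_smul, add_zero]
      exact hw0 (Subtype.ext (Submodule.disjoint_def.1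
        ((hD.indep l).mono_right (le_iSup₂_of_le (σ l) hne le_rfl)) _ w.2 h3))
    have := hσ l
    rw [hσl] at this
    rw [← this]
    exact ⟨v, hv, Matrix.toLin'_apply _ _⟩
  obtain ⟨c, hc'⟩ := hΩ (LinearMap.toMatrix' p) fun a φ hφ hmem => by
    refine cj_eq_of_mul_eq (Matrix.toLin'.injective (LinearMap.ext fun v => ?_))
    obtain ⟨u, hu, w, hw, rfl⟩ := Submodule.mem_sup.1 (hc.sup_eq_top ▸ Submodule.mem_top :
      v ∈ D i ⊔ ⨆ (j) (_ : j ≠ i), D j)
    have hw' : (tv a φ hφ : Matrix ι ι F) *ᵥ w ∈ ⨆ (j) (_ : j ≠ i), D j := by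
      have hle : (⨆ (j) (_ : j ≠ i), D j) ≤
          (⨆ (j) (_ : j ≠ i), D j).comap (Matrix.toLin' (tv a φ hφ : Matrix ι ι F)) :=
        iSup₂_le fun l hl v hv => Submodule.mem_comap.2
          (le_iSup₂_of_le (f := fun j (_ : j ≠ i) => D j) l hl le_rfl (hfix a φ hφ hmem l v hv))
      exact hle hw
    have hu' := hfix a φ hφ hmem i u hu
    simp only [Matrix.toLin'_apply, ← Matrix.mulVec_mulVec, LinearMap.toMatrix'_mulVec, p, LinearMap.comp_apply,
      Submodule.subtype_apply, Matrix.mulVec_add, map_add]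
    rw [Submodule.projectionOnto_apply_of_mem_left hc hu,
      Submodule.projectionOnto_apply_of_mem_right hc hw,
      Submodule.projectionOnto_apply_of_mem_left hc hu',
      Submodule.projectionOnto_apply_of_mem_right hc hw']
    simp
  have happ : ∀ v, p v = c • v := fun v => by
    rw [← LinearMap.toMatrix'_mulVec, hc', Matrix.smul_mulVec, Matrix.one_mulVec]
  have hne : ∀ l, ∃ v ∈ D l, v ≠ 0 := fun l => (Submodule.ne_bot_iff _).1 fun e => by
    have := hD.finrank_eq l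
    rw [e, finrank_bot] at this
    omega
  obtain ⟨u, hu, hu0⟩ := hne i
  obtain ⟨w, hw, hw0⟩ := hne j
  have h1 := happ u
  have h2 := happ w
  simp only [p, LinearMap.comp_apply, Submodule.subtype_apply] at h1 h2
  rw [Submodule.projectionOnto_apply_of_mem_left hc hu] at h1
  rw [Submodule.projectionOnto_apply_of_mem_right hc
    (le_iSup₂_of_le (f := fun j (_ : j ≠ i) => D j) j hji le_rfl hw)] at h2
  rcases smul_eq_zero.1 h2.symm with rfl | e
  · exact hu0 (by simpa using h1)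
  · exact hw0 e

/-- A matrix commuting with an absolutely irreducible set is scalar, for groups. -/
theorem mem_scalars_of_comm [Nonempty ι] {R : Subgroup (GL ι F)} (habs : ActsAbsolutelyIrreducibly (matrixSet R))
    {y : GL ι F} (h : ∀ x ∈ R, y * x = x * y) : y ∈ scalars ι F := by
  obtain ⟨c, hc⟩ := eq_smul_one_of_commutes habs (x := (y : Matrix ι ι F)) fun g hg =>
    congrArg Units.val (h g hg)
  exact mem_scalars_of_eq_smul hc

theorem exists_perp (hn : 1 ≤ Fintype.card ι) {s : ℕ} (hs : s < Fintype.card ι) (w : Fin s → ι → F) :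
    ∃ v : ι → F, v ≠ 0 ∧ ∀ i, w i ⬝ᵥ v = 0 := by
  let L : (ι → F) →ₗ[F] (Fin s → F) := LinearMap.pi fun i => dotProductEquiv F ι (w i)
  obtain ⟨v, hv, hv0⟩ : ∃ v ∈ LinearMap.ker L, v ≠ 0 := by
    refine (Submodule.ne_bot_iff _).1 fun e => ?_
    have h1 := L.finrank_range_add_finrank_ker
    rw [e, finrank_bot, Module.finrank_fintype_fun_eq_card] at h1
    have h2 := (LinearMap.range L).finrank_le
    rw [Module.finrank_fin_fun] at h2
    omega
  exact ⟨v, hv0, fun i => congrFun (LinearMap.mem_ker.1 hv) i⟩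

/-- The class of symplectic-type normalisers: five dimensions, or an odd characteristic and commutators of order two. -/
theorem not_le_normalizer (hΩ : Rich Ω) (hn : 3 ≤ Fintype.card ι) {R : Subgroup (GL ι F)}
    (habs : ActsAbsolutelyIrreducibly (matrixSet R))
    (hcomm : ∀ x ∈ R, ∀ y ∈ R, x * y * x⁻¹ * y⁻¹ ∈ scalars ι F)
    (hcase : 5 ≤ Fintype.card ι ∨ ((2 : F) ≠ 0 ∧ ∀ x ∈ R, x ^ 2 ∈ scalars ι F)) :
    ¬ Ω ≤ subgroupNormalizer R := by
  intro h
  haveI : Nonempty ι := Fintype.card_pos_iff.1 (by omega)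
  have hcent : ∀ ρ ∈ R, ∃ c : F, (ρ : Matrix ι ι F) = c • 1 := by
    intro ρ hρ
    refine hΩ _ fun a φ hφ hmem => ?_
    set g := tv a φ hφ with hg
    set b := (ρ : Matrix ι ι F) *ᵥ a with hb
    obtain ⟨h', hconj⟩ := CfsgLib.Maximal.conj_tv ρ (-a) φ (by simp [hφ])
    set y := g * ρ * g⁻¹ * ρ⁻¹ with hy
    have hyR : y ∈ R := mul_mem ((Subgroup.mem_normalizer_iff.1 (h hmem) ρ).1 hρ) (inv_mem hρ)
    set ψ := φ ᵥ* ((ρ⁻¹ : GL ι F) : Matrix ι ι F) with hψdef
    have hψb : ψ ⬝ᵥ b = 0 := by simpa [Matrix.mulVec_neg, dotProduct_neg, hb] using h'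
    have hyv : ∀ v, (y : Matrix ι ι F) *ᵥ v = v - (ψ ⬝ᵥ v) • b + (φ ⬝ᵥ (v - (ψ ⬝ᵥ v) • b)) • a := by
      intro v
      rw [hy, show g * ρ * g⁻¹ * ρ⁻¹ = g * (ρ * g⁻¹ * ρ⁻¹) by group,
        show g⁻¹ = tv (-a) φ (by simp [hφ]) from Units.ext rfl, hconj, Units.val_mul, ← Matrix.mulVec_mulVec,
        tv_mulVec, tv_mulVec, Matrix.mulVec_neg, ← hb, smul_neg, ← sub_eq_add_neg]
    have hy1 : y = 1 → cj g (ρ : Matrix ι ι F) = ρ := fun e => by
      rw [cj_val]
      congr 1
      rw [hy, mul_inv_eq_one] at e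
      exact e
    apply hy1
    rcases hcase with h5 | ⟨h2, hsq⟩
    · have hys : y ∈ scalars ι F := by
        refine mem_scalars_of_comm habs fun x hx => ?_
        obtain ⟨z, hz⟩ := exists_sc (hcomm x hx y hyR)
        obtain ⟨v, hv0, hv⟩ := exists_perp (by omega) (show 4 < Fintype.card ι by omega)
          ![ψ, φ, ψ ᵥ* (x : Matrix ι ι F), φ ᵥ* (x : Matrix ι ι F)]
        have h0 : ψ ⬝ᵥ v = 0 := hv 0
        have h1 : φ ⬝ᵥ v = 0 := hv 1
        have h3 : ψ ⬝ᵥ ((x : Matrix ι ι F) *ᵥ v) = 0 := by rw [Matrix.dotProduct_mulVec]; exact hv 2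
        have h4 : φ ⬝ᵥ ((x : Matrix ι ι F) *ᵥ v) = 0 := by rw [Matrix.dotProduct_mulVec]; exact hv 3
        have hfix1 : (y : Matrix ι ι F) *ᵥ v = v := by simp [hyv, h0, h1]
        have hfix2 : (y : Matrix ι ι F) *ᵥ ((x : Matrix ι ι F) *ᵥ v) = (x : Matrix ι ι F) *ᵥ v := by
          simp [hyv, h3, h4]
        have e : x * y = sc z * (y * x) := by rw [hz]; group
        have e2 : (x : Matrix ι ι F) *ᵥ ((y : Matrix ι ι F) *ᵥ v) =
            (z : F) • ((y : Matrix ι ι F) *ᵥ ((x : Matrix ι ι F) *ᵥ v)) := by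
          rw [Matrix.mulVec_mulVec, ← Units.val_mul, e, sc_mul_val, Matrix.smul_mulVec, Units.val_mul,
            ← Matrix.mulVec_mulVec]
        rw [hfix1, hfix2] at e2
        have hxv : (x : Matrix ι ι F) *ᵥ v ≠ 0 := fun e' => hv0 (by
          rw [← Matrix.one_mulVec v, ← Units.inv_mul x, ← Matrix.mulVec_mulVec, e', Matrix.mulVec_zero])
        have hz1 : z = 1 := Units.ext (by
          have e3 : ((z : F) - 1) • ((x : Matrix ι ι F) *ᵥ v) = 0 := by rw [sub_smul, one_smul, ← e2, sub_self]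
          exact sub_eq_zero.1 ((smul_eq_zero.1 e3).resolve_right hxv))
        rw [e, hz1, sc_one, one_mul]
      obtain ⟨c, hc⟩ := exists_sc hys
      obtain ⟨v, hv0, hv⟩ := exists_perp (by omega) (show 2 < Fintype.card ι by omega) ![ψ, φ]
      have h0 : ψ ⬝ᵥ v = 0 := hv 0
      have h1 : φ ⬝ᵥ v = 0 := hv 1
      have hfix : (y : Matrix ι ι F) *ᵥ v = v := by simp [hyv, h0, h1]
      rw [← hc, sc_val, Matrix.smul_mulVec, Matrix.one_mulVec] at hfix
      have hc1 : c = 1 := Units.ext (by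
        have e3 : ((c : F) - 1) • v = 0 := by rw [sub_smul, one_smul, hfix, sub_self]
        exact sub_eq_zero.1 ((smul_eq_zero.1 e3).resolve_right hv0))
      rw [← hc, hc1, sc_one]
    · obtain ⟨c, hc⟩ := exists_sc (hsq y hyR)
      obtain ⟨v, hv0, hv⟩ := exists_perp (by omega) (show 2 < Fintype.card ι by omega) ![ψ, φ]
      have h0 : ψ ⬝ᵥ v = 0 := hv 0
      have h1 : φ ⬝ᵥ v = 0 := hv 1
      have hfix : (y : Matrix ι ι F) *ᵥ v = v := by simp [hyv, h0, h1]
      have hc1 : c = 1 := Units.ext (by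
        have e3 : ((c : F) - 1) • v = 0 := by
          have e4 : ((sc c : GL ι F) : Matrix ι ι F) *ᵥ v = v := by
            rw [hc, sq, Units.val_mul, ← Matrix.mulVec_mulVec, hfix, hfix]
          rw [sc_val, Matrix.smul_mulVec, Matrix.one_mulVec] at e4
          rw [sub_smul, one_smul, e4, sub_self]
        exact sub_eq_zero.1 ((smul_eq_zero.1 e3).resolve_right hv0))
      rw [hc1, sc_one] at hc
      have hyy : y * y = 1 := by rw [← sq, ← hc]
      -- if `b` is off the line of `a`, evaluate where `ψ` vanishes and `φ` is one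
      by_contra hne
      apply hne
      by_cases hind : ∃ v, ψ ⬝ᵥ v = 0 ∧ φ ⬝ᵥ v = 1
      · exfalso
        obtain ⟨v, hv1, hv2⟩ := hind
        have e1 : (y : Matrix ι ι F) *ᵥ v = v + a := by simp [hyv, hv1, hv2]
        have e2 : (y : Matrix ι ι F) *ᵥ (v + a) = v := by
          rw [← e1, Matrix.mulVec_mulVec, ← Units.val_mul, hyy, Units.val_one, Matrix.one_mulVec]
        rw [hyv] at e2
        simp only [dotProduct_add, dotProduct_sub, dotProduct_smul, hv1, hv2, hφ, zero_add, add_zero,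
          smul_eq_mul] at e2
        have e3 : (2 : F) • a - (ψ ⬝ᵥ a) • b - ((ψ ⬝ᵥ a) * (φ ⬝ᵥ b)) • a = 0 := by
          linear_combination (norm := module) e2
        by_cases hd : ψ ⬝ᵥ a = 0
        · simp only [hd, zero_mul, zero_smul, sub_zero] at e3
          rcases smul_eq_zero.1 e3 with e4 | e4
          · exact h2 e4
          · exact hne (by rw [hy, hg, show tv a φ hφ = 1 from Units.ext (by simp [tv_val, e4])]; group)
        · have hba : b ∈ Submodule.span F {a} := Submodule.mem_span_singleton.2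
            ⟨(2 - (ψ ⬝ᵥ a) * (φ ⬝ᵥ b)) / (ψ ⬝ᵥ a), by
              rw [div_eq_inv_mul, ← smul_smul, eq_comm, eq_inv_smul_iff₀ hd]
              linear_combination (norm := module) -e3⟩
          obtain ⟨l, hl⟩ := Submodule.mem_span_singleton.1 hba
          apply hd
          rw [← hl, dotProduct_smul, smul_eq_mul] at hψb
          refine (mul_eq_zero.1 hψb).resolve_left fun e5 => ?_
          rw [e5, zero_smul] at hl
          have : a = 0 := Matrix.mulVec_injective_of_isUnit ρ.isUnit (by rw [Matrix.mulVec_zero]; exact hl.symm)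
          simp [this] at hd
      · push Not at hind
        have hpar : ∀ v, ψ ⬝ᵥ v = 0 → φ ⬝ᵥ v = 0 := fun v e => by
          by_contra h0'
          exact hind ((φ ⬝ᵥ v)⁻¹ • v) (by rw [dotProduct_smul, e, smul_zero])
            (by rw [dotProduct_smul, smul_eq_mul, inv_mul_cancel₀ h0'])
        have hφb : φ ⬝ᵥ b = 0 := hpar b hψb
        have hψa : ψ ⬝ᵥ a = 0 := by
          by_contra hd
          have h6 : ∀ u, φ ⬝ᵥ u = 0 := fun u => by
            have h7 := hpar (u - ((ψ ⬝ᵥ u) / (ψ ⬝ᵥ a)) • a)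
              (by rw [dotProduct_sub, dotProduct_smul, smul_eq_mul, div_mul_cancel₀ _ hd, sub_self])
            rwa [dotProduct_sub, dotProduct_smul, hφ, smul_zero, sub_zero] at h7
          have hφ0 : φ = 0 := CfsgLib.Maximal.dot_ext fun u => by rw [h6, zero_dotProduct]
          apply hd
          rw [hψdef, hφ0, Matrix.zero_vecMul, zero_dotProduct]
        refine Units.ext (Matrix.mulVec_injective (funext fun v => ?_))
        have e1 := hyv v
        simp only [dotProduct_sub, dotProduct_smul, hφb, smul_zero, sub_zero] at e1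
        have e2 : (y : Matrix ι ι F) *ᵥ ((y : Matrix ι ι F) *ᵥ v) = v := by
          rw [Matrix.mulVec_mulVec, ← Units.val_mul, hyy, Units.val_one, Matrix.one_mulVec]
        rw [hyv, e1] at e2
        simp only [dotProduct_add, dotProduct_sub, dotProduct_smul, hψb, hψa, hφb, hφ, smul_eq_mul, mul_zero,
          sub_zero, add_zero, zero_add] at e2
        rw [Units.val_one, Matrix.one_mulVec, e1]
        have e3 : (2 : F) • ((φ ⬝ᵥ v) • a - (ψ ⬝ᵥ v) • b) = 0 := by linear_combination (norm := module) e2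
        have e4 := (smul_eq_zero.1 e3).resolve_left h2
        linear_combination (norm := module) e4
  obtain ⟨W, hW0, hW1⟩ : ∃ W : Submodule F (ι → F), W ≠ ⊥ ∧ W ≠ ⊤ := by
    obtain ⟨i⟩ := ‹Nonempty ι›
    exact ⟨Submodule.span F {Pi.single i 1, Pi.single i 1}, by simp, span_two_ne_top hn _ _⟩
  refine (habs.1 W ?_).elim hW0 hW1
  rintro _ ⟨g, hg, rfl⟩ _ ⟨v, hv, rfl⟩
  obtain ⟨c, hc⟩ := hcent g hg
  show (g : Matrix ι ι F) *ᵥ v ∈ W
  rw [hc, Matrix.smul_mulVec, Matrix.one_mulVec]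
  exact W.smul_mem c hv

end CfsgLib.AschbacherForm.Cases

namespace CfsgLib.AschbacherForm.Cases

open Cfsg Cfsg.Geo CfsgLib.Aschbacher
open CfsgLib.Maximal (tv tv_val tv_mulVec RatUpToScalar mem_subfieldSubgroup_iff)
open scoped Matrix MatrixGroups

universe u
variable {F : Type u} [Field F] [Fintype F] {ι : Type} [Fintype ι] [DecidableEq ι]

theorem scalar_of_eigen [Nonempty ι] {x : Matrix ι ι F} (h : ∀ a, ∃ c : F, x *ᵥ a = c • a) :
    ∃ c : F, x = c • 1 := by
  choose c hc using h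
  obtain ⟨i₀⟩ := ‹Nonempty ι›
  have hcol : ∀ i, c (Pi.single i 1) = c (Pi.single i₀ 1) := by
    intro i
    rcases eq_or_ne i i₀ with rfl | hi
    · rfl
    have h1 := hc (Pi.single i 1 + Pi.single i₀ 1)
    rw [Matrix.mulVec_add, hc, hc] at h1
    have h2 := congrFun h1 i
    have h3 := congrFun h1 i₀
    simp only [Pi.add_apply, Pi.smul_apply, Pi.single_eq_same, Pi.single_eq_of_ne hi, Pi.single_eq_of_ne hi.symm,
      smul_eq_mul, mul_one, mul_zero, add_zero, zero_add] at h2 h3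
    exact h2.trans h3.symm
  refine ⟨c (Pi.single i₀ 1), Matrix.ext_of_mulVec_single fun i => ?_⟩
  rw [hc, hcol, Matrix.smul_mulVec, Matrix.one_mulVec]

theorem frobenius_mem {F₀ : Subfield F} {p : ℕ} [Fact p.Prime] [CharP F p] {c : F} (h : c ^ p ∈ F₀) : c ∈ F₀ := by
  haveI := Fintype.ofFinite F₀
  haveI : CharP F₀ p := (F₀.subtype.charP_iff F₀.subtype.injective p).2 inferInstance
  obtain ⟨d, hd⟩ := (Finite.injective_iff_surjective.1 (frobenius_inj F₀ p)) ⟨c ^ p, h⟩
  have hd' : (d : F) ^ p = c ^ p := congrArg Subtype.val hd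
  have : (d : F) = c := frobenius_inj F p (by simpa [frobenius_def] using hd')
  exact this ▸ d.2

/-- A transvection in a subfield group is rational in the adapted coordinates. -/
theorem tv_rational (hn : 2 ≤ Fintype.card ι) {F₀ : Subfield F} {P : GL ι F} {a φ : ι → F} {h : φ ⬝ᵥ a = 0}
    (hg : tv a φ h ∈ subfieldSubgroup F₀ P) (i j : ι) :
    ((↑P⁻¹ : Matrix ι ι F) * Matrix.vecMulVec a φ * (P : Matrix ι ι F)) i j ∈ F₀ := by
  classical
  obtain ⟨c, hc, hrat⟩ := (mem_subfieldSubgroup_iff P _).1 hg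
  set M := (↑P⁻¹ : Matrix ι ι F) * Matrix.vecMulVec a φ * (P : Matrix ι ι F)
  have hM : ((P⁻¹ * tv a φ h * P : GL ι F) : Matrix ι ι F) = 1 + M := by
    simp [tv_val, M, mul_add, add_mul]
  have hsq : M * M = 0 := by
    simp only [M, mul_assoc, Units.mul_inv_cancel_left]
    rw [← mul_assoc (Matrix.vecMulVec a φ) (Matrix.vecMulVec a φ), Matrix.vecMulVec_mul_vecMulVec, h]
    simp
  simp only [hM] at hrat
  set A : Matrix ι ι F := c • (1 + M)
  have hA : ∀ i j, A i j ∈ F₀ := fun i j => hrat i j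
  have hAv : ∀ i j, A i j = c * ((1 : Matrix ι ι F) i j + M i j) := fun i j => rfl
  have hA2 : A * A = (2 * c) • A - (c ^ 2) • 1 := by
    simp only [A, Matrix.smul_mul, Matrix.mul_smul, mul_add, add_mul, hsq, add_zero, mul_one, one_mul]
    module
  have hA2m : ∀ i j, (A * A) i j ∈ F₀ := fun i j => by
    rw [Matrix.mul_apply]; exact F₀.sum_mem fun l _ => F₀.mul_mem (hA i l) (hA l j)
  have hfin : c ∈ F₀ → M i j ∈ F₀ := fun hcm => by
    have e : M i j = c⁻¹ * A i j - (1 : Matrix ι ι F) i j := by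
      rw [hAv, ← mul_assoc, inv_mul_cancel₀ hc, one_mul, add_sub_cancel_left]
    rw [e]
    refine F₀.sub_mem (F₀.mul_mem (F₀.inv_mem hcm) (hA i j)) ?_
    rw [Matrix.one_apply]; split_ifs
    exacts [F₀.one_mem, F₀.zero_mem]
  apply hfin
  by_cases hdiag : ∀ i j, i ≠ j → M i j = 0
  · obtain ⟨l⟩ : Nonempty ι := Fintype.card_pos_iff.1 (by omega)
    have h1 := hA l l
    have h2 : M l l = 0 := by
      have h3 := congrFun (congrFun hsq l) l
      rw [Matrix.mul_apply, Finset.sum_eq_single l] at h3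
      · exact mul_self_eq_zero.1 h3
      · exact fun b _ hb => by rw [hdiag b l hb, mul_zero]
      · simp
    rwa [hAv, Matrix.one_apply_eq, h2, add_zero, mul_one] at h1
  push Not at hdiag
  obtain ⟨k, l, hkl, hne⟩ := hdiag
  have hAne : A k l ≠ 0 := by
    rw [hAv, Matrix.one_apply_ne hkl, zero_add]
    exact mul_ne_zero hc hne
  have h2c : 2 * c ∈ F₀ := by
    have h1 := hA2m k l
    rw [hA2, Matrix.sub_apply, Matrix.smul_apply, Matrix.smul_apply, Matrix.one_apply_ne hkl, smul_zero, sub_zero,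
      smul_eq_mul] at h1
    simpa [hAne] using F₀.mul_mem h1 (F₀.inv_mem (hA k l))
  by_cases h2 : (2 : F) = 0
  · haveI : CharP F 2 := CharTwo.of_one_ne_zero_of_two_eq_zero one_ne_zero h2
    refine frobenius_mem (p := 2) ?_
    have h1 := hA2m k k
    rw [hA2, Matrix.sub_apply, Matrix.smul_apply, Matrix.smul_apply, Matrix.one_apply_eq, smul_eq_mul, smul_eq_mul,
      h2, zero_mul, zero_mul, zero_sub, mul_one] at h1
    simpa using F₀.neg_mem h1
  · have h22 : (2 : F) ∈ F₀ := by rw [← one_add_one_eq_two]; exact F₀.add_mem F₀.one_mem F₀.one_mem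
    have := F₀.mul_mem (F₀.inv_mem h22) h2c
    rwa [← mul_assoc, inv_mul_cancel₀ h2, one_mul] at this

/-- Two proportional transvections in a subfield group have rational ratio. -/
theorem ratio_rational (hn : 2 ≤ Fintype.card ι) {F₀ : Subfield F} {P : GL ι F} {a φ : ι → F} {s : F}
    {h : φ ⬝ᵥ a = 0} {h' : φ ⬝ᵥ (s • a) = 0} (ha : a ≠ 0) (hφ : φ ≠ 0)
    (hg : tv a φ h ∈ subfieldSubgroup F₀ P) (hg' : tv (s • a) φ h' ∈ subfieldSubgroup F₀ P) : s ∈ F₀ := by
  obtain ⟨i, j, hij⟩ : ∃ i j, ((↑P⁻¹ : Matrix ι ι F) * Matrix.vecMulVec a φ * (P : Matrix ι ι F)) i j ≠ 0 := by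
    by_contra hcon
    push Not at hcon
    have h0 : (↑P⁻¹ : Matrix ι ι F) * Matrix.vecMulVec a φ * (P : Matrix ι ι F) = 0 := Matrix.ext hcon
    rw [Units.mul_left_eq_zero, Units.mul_right_eq_zero, Matrix.vecMulVec_eq_zero] at h0
    exact h0.elim ha hφ
  have h2 := tv_rational hn hg' i j
  rw [Matrix.smul_vecMulVec, Matrix.mul_smul, Matrix.smul_mul, Matrix.smul_apply, smul_eq_mul] at h2
  have h3 := F₀.mul_mem h2 (F₀.inv_mem (tv_rational hn hg i j))
  rwa [mul_assoc, mul_inv_cancel₀ hij, mul_one] at h3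

/-- The squares of a group of exponent four with scalar commutators are scalar. -/
theorem sq_scalar [Nonempty ι] {R : Subgroup (GL ι F)} (habs : ActsAbsolutelyIrreducibly (matrixSet R))
    (hcomm : ∀ x ∈ R, ∀ y ∈ R, x * y * x⁻¹ * y⁻¹ ∈ scalars ι F) (h4 : ∀ x ∈ R, x ^ 4 = 1) :
    ∀ x ∈ R, x ^ 2 ∈ scalars ι F := by
  intro x hx
  refine mem_scalars_of_comm habs fun y hy => ?_
  obtain ⟨z, hz⟩ := exists_sc (hcomm y hy x hx)
  have e : y * x = sc z * (x * y) := by rw [hz]; group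
  have e1 : ∀ a : GL ι F, a * sc z = sc z * a := fun a => (sc_comm z a).symm
  have hsq : ∀ a b : GL ι F, b * a = sc z * (a * b) → b * a * a = sc z * sc z * (a * a * b) := fun a b hab => by
    rw [hab, mul_assoc (sc z) (a * b) a, mul_assoc a b a, hab, ← mul_assoc a (sc z), e1 a]
    group
  have e2 := hsq x y e
  have e6 : (x * y) * (x * y) = sc z * (x * x * (y * y)) := by
    calc (x * y) * (x * y) = x * (y * x) * y := by group
      _ = x * (sc z * (x * y)) * y := by rw [e]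
      _ = sc z * (x * x * (y * y)) := by rw [← mul_assoc x (sc z), e1]; group
  have e7 : (y * y) * (x * x) = (sc z * sc z) * (sc z * sc z) * (x * x * (y * y)) := by
    calc (y * y) * (x * x) = y * (y * x * x) := by group
      _ = y * (sc z * sc z * (x * x * y)) := by rw [e2]
      _ = sc z * sc z * (y * x * x * y) := by
          rw [show y * (sc z * sc z * (x * x * y)) = y * sc z * sc z * (x * x * y) by group, e1 y, mul_assoc (sc z) y, e1 y]; group
      _ = _ := by rw [e2]; group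
  have hx4 : x * x * (x * x) = 1 := by rw [show x * x * (x * x) = x ^ 4 by simp only [pow_succ, pow_zero, one_mul, mul_assoc]]; exact h4 x hx
  have hy4 : y * y * (y * y) = 1 := by rw [show y * y * (y * y) = y ^ 4 by simp only [pow_succ, pow_zero, one_mul, mul_assoc]]; exact h4 y hy
  have hz4 : (sc z : GL ι F) ^ 4 = 1 := by
    have h := h4 _ (mul_mem (mul_mem (mul_mem hy hx) (inv_mem hy)) (inv_mem hx))
    rwa [← hz] at h
  have h8 : ∀ a : GL ι F, (sc z : GL ι F) * a * sc z = sc z * sc z * a := fun a => by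
    rw [mul_assoc, e1, ← mul_assoc]
  have hcomm2 : (y * y) * (x * x) = x * x * (y * y) := by
    rw [e7, show (sc z : GL ι F) * sc z * (sc z * sc z) = sc z ^ 4 by simp only [pow_succ, pow_zero, one_mul, mul_assoc], hz4, one_mul]
  have hz2 : (sc z : GL ι F) * sc z = 1 := by
    have h := h4 _ (mul_mem hx hy)
    rw [show (x * y) ^ 4 = (x * y * (x * y)) * (x * y * (x * y)) by simp only [pow_succ, pow_zero, one_mul, mul_assoc], e6, ← mul_assoc (sc z * (x * x * (y * y))),
      h8, mul_assoc (sc z * sc z), show x * x * (y * y) * (x * x * (y * y)) = x * x * (y * y * (x * x)) * (y * y) by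
        group, hcomm2, show x * x * (x * x * (y * y)) * (y * y) = (x * x * (x * x)) * (y * y * (y * y)) by group,
      hx4, hy4, mul_one, mul_one] at h
    exact h
  rw [sq]
  rw [hz2, one_mul] at e2
  rw [← mul_assoc y, e2]

end CfsgLib.AschbacherForm.Cases
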