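import Cfsg.Agent.Lib.AschbacherForm.Cases.Quaternion
import Cfsg.Agent.Lib.AschbacherForm.SympAbelian

/-!
The threefold tensor power of `Sp₂(3)` normalises a symplectic-type group.
-/

set_option autoImplicit false
set_option linter.unusedSectionVars false

namespace CfsgLib.AschbacherForm.Cases

open Cfsg Cfsg.Geo CfsgLib.Aschbacher CfsgLib.Aschbacher.Cases
open scoped Matrix MatrixGroups

universe u
variable {F : Type u} [Field F]

theorem pureGL_val {d s : ℕ} (A : Fin s → GL (Fin d) F) :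
    ((pureGL A : GL (Fin s → Fin d) F) : Matrix (Fin s → Fin d) (Fin s → Fin d) F) =
      pure' fun i => (A i : Matrix (Fin d) (Fin d) F) := rfl

/-- Tensor products of invertible matrices, as a homomorphism. -/
def pureHom (F : Type u) [Field F] (d s : ℕ) : (Fin s → GL (Fin d) F) →* GL (Fin s → Fin d) F :=
  MonoidHom.mk' pureGL fun A B => Units.ext (pure'_mul _ _).symm

theorem pureHom_val {d s : ℕ} (A : Fin s → GL (Fin d) F) :
    ((pureHom F d s A : GL (Fin s → Fin d) F) : Matrix (Fin s → Fin d) (Fin s → Fin d) F) =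
      pure' fun i => (A i : Matrix (Fin d) (Fin d) F) := rfl

theorem pureHom_mulSingle_val {d s : ℕ} (i : Fin s) (a : GL (Fin d) F) :
    ((pureHom F d s (Pi.mulSingle i a) : GL (Fin s → Fin d) F) : Matrix (Fin s → Fin d) (Fin s → Fin d) F) =
      slot i (a : Matrix (Fin d) (Fin d) F) := by
  rw [pureHom_val, slot_eq_pure]
  congr 1
  funext j
  rcases eq_or_ne j i with rfl | hj
  · simp
  · simp [hj]

theorem pureHom_sc {d s : ℕ} (c : Fin s → Fˣ) :
    pureHom F d s (fun i => sc (c i)) = sc (∏ i, c i) := by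
  refine Units.ext ?_
  rw [pureHom_val, sc_val, show (fun i => ((sc (c i) : GL (Fin d) F) : Matrix (Fin d) (Fin d) F)) =
    fun i => (c i : F) • (1 : Matrix (Fin d) (Fin d) F) from funext fun i => sc_val _]
  ext x y
  simp only [pure', Matrix.of_apply, Matrix.smul_apply, smul_eq_mul, Finset.prod_mul_distrib, Units.coe_prod,
    Matrix.one_apply]
  congr 1
  rcases eq_or_ne x y with rfl | hne
  · simp
  · obtain ⟨i, hi⟩ := Function.ne_iff.1 hne
    rw [if_neg hne]
    exact Finset.prod_eq_zero (Finset.mem_univ i) (if_neg hi)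

theorem permGL_pureHom [Fintype F] {d s : ℕ} (π : Equiv.Perm (Fin s)) (A : Fin s → GL (Fin d) F) :
    permGL π * pureHom F d s A * (permGL π)⁻¹ = pureHom F d s fun i => A (π.symm i) := by
  have h1 : ((permGL π : GL (Fin s → Fin d) F) : Matrix (Fin s → Fin d) (Fin s → Fin d) F)ᵀ =
      (((permGL π)⁻¹ : GL (Fin s → Fin d) F) : Matrix (Fin s → Fin d) (Fin s → Fin d) F) := by
    ext x y
    show (if x = y ∘ π then (1 : F) else 0) = if y = x ∘ π.symm then 1 else 0
    refine if_congr ⟨fun h => ?_, fun h => ?_⟩ rfl rfl <;> subst h <;> funext k <;> simp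
  have h2 : pureHom F d s A = (permGL π)⁻¹ * pureHom F d s (fun i => A (π.symm i)) * permGL π := by
    refine Units.ext ?_
    have e := perm_sim_pure π (fun i => ((A (π.symm i) : GL (Fin d) F) : Matrix (Fin d) (Fin d) F))
    rw [h1] at e
    rw [Units.val_mul, Units.val_mul, pureHom_val, pureHom_val, e]
    congr 1
    funext i
    simp
  rw [h2]; group

theorem permGL_inv {d s : ℕ} (π : Equiv.Perm (Fin s)) :
    (permGL π : GL (Fin s → Fin d) F)⁻¹ = permGL π.symm := Units.ext rfl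

variable [Fintype F] {m : ℕ}

local notation "sf" => sympForm m F
local notation "I₂" => Fin m ⊕ Fin m

set_option maxHeartbeats 1000000 in
/-- Over three elements the members with three factors of degree two lie in the sixth class. -/
theorem cube_le_normalizer (hF : Fintype.card F = 3) {e : I₂ ≃ (Fin 3 → Fin 2)} {P : GL I₂ F}
    {f₁ : (Fin 2 → F) → (Fin 2 → F) → F} (hf₁ : IsSymplecticForm f₁)
    (hT : IsTensorPowerFormStructure id sf f₁ e P) :
    ∃ (R : Subgroup (GL I₂ F)) (p k : ℕ), IsSymplecticTypeGroup 2 R ∧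
      ActsAbsolutelyIrreducibly (matrixSet R) ∧ R ≤ similarityGroup sf ∧ p.Prime ∧ Odd p ∧
      Fintype.card F = p ∧ Nat.card R = 2 ^ (1 + 2 * k) ∧ Nat.card (Subgroup.center R) = 2 ∧ IsOfMinusType k R ∧
      2 * m = 2 ^ k ∧ (∀ x ∈ R, ∀ y ∈ R, x * y * x⁻¹ * y⁻¹ ∈ scalars I₂ F) ∧
      tensorWreathSubgroup 2 3 e P ⊓ spGL m F ≤ subgroupNormalizer R := by
  classical
  have h3 := three_eq_zero hF
  have hF3 : ∀ x : F, x = 0 ∨ x = 1 ∨ x = -1 := fun x => by
    by_cases hx : x = 0
    · exact Or.inl hx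
    · exact Or.inr (pm_one_of_card_three hF hx)
  have hcard : 2 * m = 8 := by simpa [two_mul] using Fintype.card_congr e
  have hm : 1 ≤ m := by omega
  haveI : Nonempty I₂ := ⟨Sum.inl ⟨0, hm⟩⟩
  set σ := RingEquiv.refl F
  -- transport
  let f : GL (Fin 3 → Fin 2) F ≃* GL I₂ F := (glReindex e.symm).trans (MulAut.conj P)
  have hcoordf : ∀ k : GL (Fin 3 → Fin 2) F,
      coordR e P ((f k : GL I₂ F) : Matrix I₂ I₂ F) = (k : Matrix (Fin 3 → Fin 2) (Fin 3 → Fin 2) F) := by
    intro k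
    rw [coordR_gl]
    refine congrArg Units.val (?_ : _ = k)
    show glReindex e (P⁻¹ * (P * glReindex e.symm k * P⁻¹) * P) = k
    rw [show P⁻¹ * (P * glReindex e.symm k * P⁻¹) * P = glReindex e.symm k by group]
    refine Units.ext ?_
    ext i j
    simp [glReindex]
  have hfsc : ∀ c : Fˣ, f (sc c) = sc c := fun c => Units.ext ((coordR e P).injective (by
    rw [hcoordf, sc_val, sc_val, map_smul, map_one]))
  -- the Gram matrix
  set g := gramMatrix f₁ 0 1
  have hg1 : gramMatrix f₁ = g • alt2 := by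
    ext i j
    fin_cases i <;> fin_cases j <;>
      simp [alt2, g, gramMatrix, hf₁.alternating, hf₁.skew (Pi.single 1 1) (Pi.single 0 1)]
  obtain ⟨c₀, hc₀, hTc⟩ := hT
  have hJ : (coordJ σ e P (Jgl m F) : Matrix (Fin 3 → Fin 2) (Fin 3 → Fin 2) F) =
      (c₀ * g ^ 3) • pure' fun _ : Fin 3 => (alt2 : Matrix (Fin 2) (Fin 2) F) := by
    refine gram_inj σ fun x y => ?_
    rw [← coord_form (sympGeom m F) e P, hTc, formOfGram_smul, mul_assoc]
    congr 1
    simp only [formOfGram, pure', Matrix.of_apply, hg1, Matrix.smul_apply, smul_eq_mul, Finset.prod_mul_distrib,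
      Finset.prod_const, Finset.card_univ, Fintype.card_fin, Finset.mul_sum]
    refine Finset.sum_congr rfl fun a _ => Finset.sum_congr rfl fun b _ => ?_
    simp [σ]; ring
  -- isometries
  have hiso : ∀ k : GL (Fin 3 → Fin 2) F,
      (k : Matrix (Fin 3 → Fin 2) (Fin 3 → Fin 2) F)ᵀ * pure' (fun _ : Fin 3 => (alt2 : Matrix (Fin 2) (Fin 2) F)) *
        (k : Matrix (Fin 3 → Fin 2) (Fin 3 → Fin 2) F) = pure' (fun _ : Fin 3 => alt2) → f k ∈ spGL m F := by
    intro k hk
    refine mem_spGL_iff.2 fun u v => ?_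
    obtain ⟨x, rfl⟩ : ∃ x : (Fin 3 → Fin 2) → F, (P : Matrix I₂ I₂ F) *ᵥ (x ∘ e) = u :=
      ⟨((↑P⁻¹ : Matrix I₂ I₂ F) *ᵥ u) ∘ e.symm, by
        simp [Function.comp_assoc, Matrix.mulVec_mulVec]⟩
    obtain ⟨y, rfl⟩ : ∃ y : (Fin 3 → Fin 2) → F, (P : Matrix I₂ I₂ F) *ᵥ (y ∘ e) = v :=
      ⟨((↑P⁻¹ : Matrix I₂ I₂ F) *ᵥ v) ∘ e.symm, by
        simp [Function.comp_assoc, Matrix.mulVec_mulVec]⟩
    rw [coordR_mulVec, coordR_mulVec, hcoordf, coord_form (sympGeom m F) e P, coord_form (sympGeom m F) e P, hJ,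
      formOfGram_mulVec, show (k : Matrix (Fin 3 → Fin 2) (Fin 3 → Fin 2) F).map σ = k from by ext; rfl,
      Matrix.mul_smul, Matrix.smul_mul, hk]
  let Φ := pureHom F 2 3
  have hΦiso : ∀ A : Fin 3 → GL (Fin 2) F, (∀ i, (A i : Matrix (Fin 2) (Fin 2) F).det = 1) → f (Φ A) ∈ spGL m F :=
    fun A hA => hiso _ (by
      rw [pureHom_val, pure'_transpose, pure'_mul, pure'_mul]
      congr 1
      funext i
      rw [alt2_sim, hA, one_smul])
  have hperm : ∀ π : Equiv.Perm (Fin 3), f (permGL π) ∈ spGL m F := fun π => hiso _ (perm_sim_pure π _)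
  -- the normal subgroup
  let Q3 : Subgroup (Fin 3 → GL (Fin 2) F) := Subgroup.pi Set.univ fun _ => quatGroup F
  have memQ3 : ∀ {A : Fin 3 → GL (Fin 2) F}, A ∈ Q3 ↔ ∀ i, A i ∈ quatGroup F := by
    intro A; simp [Q3, Subgroup.mem_pi]
  haveI := scalars_normal (ι := (Fin 3 → Fin 2)) (F := F)
  let N₀ : Subgroup (GL (Fin 3 → Fin 2) F) := Q3.map Φ ⊔ scalars (Fin 3 → Fin 2) F
  have hN₀ : ∀ {x}, x ∈ N₀ → ∃ A ∈ Q3, ∃ c : Fˣ, x = Φ A * sc c := by
    intro x hx
    obtain ⟨_, ⟨A, hA, rfl⟩, s, hs, rfl⟩ := Subgroup.mem_sup_of_normal_right.1 hx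
    obtain ⟨c, rfl⟩ := exists_sc hs
    exact ⟨A, hA, c, rfl⟩
  have hmemN : ∀ {A}, A ∈ Q3 → Φ A ∈ N₀ := fun hA => Subgroup.mem_sup_left ⟨_, hA, rfl⟩
  have hscN : ∀ c : Fˣ, (sc c : GL (Fin 3 → Fin 2) F) ∈ N₀ := fun c => Subgroup.mem_sup_right (sc_mem c)
  have hconj : ∀ k : GL (Fin 3 → Fin 2) F, (∀ A ∈ Q3, k * Φ A * k⁻¹ ∈ N₀) → ∀ x ∈ N₀, k * x * k⁻¹ ∈ N₀ := by
    intro k hk x hx
    obtain ⟨A, hA, c, rfl⟩ := hN₀ hx
    rw [show k * (Φ A * sc c) * k⁻¹ = (k * Φ A * k⁻¹) * (k * sc c * k⁻¹) by group,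
      show k * sc c * k⁻¹ = sc c by rw [← sc_comm]; group]
    exact mul_mem (hk A hA) (hscN c)
  have hwr : ∀ k ∈ tensorWreathStandard 2 3 F,
      (∀ x ∈ N₀, k * x * k⁻¹ ∈ N₀) ∧ (∀ x ∈ N₀, k⁻¹ * x * k⁻¹⁻¹ ∈ N₀) := by
    intro k hk
    have hpure : ∀ B : Fin 3 → GL (Fin 2) F, ∀ x ∈ N₀, Φ B * x * (Φ B)⁻¹ ∈ N₀ := fun B => hconj _ fun A hA => by
      rw [← map_inv, ← map_mul, ← map_mul]
      exact hmemN (memQ3.2 fun i => quat_normal h3 hF3 (B i) (memQ3.1 hA i))
    have hpm : ∀ π : Equiv.Perm (Fin 3), ∀ x ∈ N₀,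
        (permGL π : GL (Fin 3 → Fin 2) F) * x * (permGL π)⁻¹ ∈ N₀ := fun π => hconj _ fun A hA => by
      rw [permGL_pureHom]
      exact hmemN (memQ3.2 fun i => memQ3.1 hA _)
    induction hk using Subgroup.closure_induction with
    | mem k hk =>
      rcases hk with ⟨B, hB⟩ | ⟨π, hπ⟩
      · rw [show k = Φ B from Units.ext (Matrix.ext hB), ← map_inv]
        exact ⟨hpure B, hpure B⁻¹⟩
      · rw [show k = permGL π from Units.ext (Matrix.ext hπ), permGL_inv]
        exact ⟨hpm π, hpm π.symm⟩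
    | one => constructor <;> simp
    | mul a b _ _ iha ihb =>
      constructor
      · intro x hx
        have h := iha.1 _ (ihb.1 x hx)
        simpa [mul_assoc] using h
      · intro x hx
        have h := ihb.2 _ (iha.2 x hx)
        simpa [mul_assoc] using h
    | inv a _ ih => exact ⟨ih.2, by simpa using ih.1⟩
  -- the group
  let H' := tensorWreathSubgroup 2 3 e P ⊓ spGL m F
  let N : Subgroup (GL I₂ F) := N₀.map f.toMonoidHom
  have hmemH : ∀ k : GL (Fin 3 → Fin 2) F, k ∈ tensorWreathStandard 2 3 F → f k ∈ spGL m F → f k ∈ H' :=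
    fun k hk hs => ⟨mem_of_coord e P (tensorWreathStandard 2 3 F) k hk (hcoordf k), hs⟩
  have hΦst : ∀ A, Φ A ∈ tensorWreathStandard 2 3 F := fun A =>
    Subgroup.subset_closure (Or.inl ⟨A, fun x y => rfl⟩)
  have hNle : N ≤ H' ⊔ scalars I₂ F := by
    rintro _ ⟨x, hx, rfl⟩
    obtain ⟨A, hA, c, rfl⟩ := hN₀ hx
    show f (Φ A * sc c) ∈ _
    rw [map_mul, hfsc]
    exact mul_mem (Subgroup.mem_sup_left
      (hmemH _ (hΦst A) (hΦiso A fun i => quat_det h3 (memQ3.1 hA i)))) (Subgroup.mem_sup_right (sc_mem c))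
  haveI := scalars_normal (ι := I₂) (F := F)
  obtain ⟨gI, gJ, eI, eJ, hI, hJQ, -⟩ := exists_quat_gens h3
  obtain ⟨u, hu⟩ : IsUnit (quatU : Matrix (Fin 2) (Fin 2) F) := by
    rw [Matrix.isUnit_iff_isUnit_det, Matrix.det_fin_two]; simp [quatU]
  have hudet : (u : Matrix (Fin 2) (Fin 2) F).det = 1 := by rw [hu, Matrix.det_fin_two]; simp [quatU]
  have hdet1 : ∀ (i : Fin 3), f (Φ (Pi.mulSingle i u)) ∈ H' := fun i => hmemH _ (hΦst _) (hΦiso _ fun j => by
    rcases eq_or_ne j i with rfl | hj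
    · simpa using hudet
    · simp [hj])
  have hN : AbelianData (H' ⊔ scalars I₂ F) N :=
    { scal := fun x hx => by
        obtain ⟨c, rfl⟩ := exists_sc hx
        exact ⟨sc c, hscN c, hfsc c⟩
      le := hNle
      normal := by
        rintro y hy _ ⟨x, hx, rfl⟩
        obtain ⟨z, hz, s, hs, rfl⟩ := Subgroup.mem_sup_of_normal_right.1 hy
        obtain ⟨c, rfl⟩ := exists_sc hs
        obtain ⟨_, ⟨k, hk, rfl⟩, rfl⟩ := hz.1
        refine ⟨k * x * k⁻¹, (hwr k hk).1 x hx, ?_⟩
        show f (k * x * k⁻¹) = f k * sc c * f x * (f k * sc c)⁻¹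
        rw [map_mul, map_mul, map_inv, mul_inv_rev, mul_assoc (f k) (sc c), sc_comm c (f x)]
        group
      comm := by
        rintro _ ⟨x, hx, rfl⟩ _ ⟨y, hy, rfl⟩
        obtain ⟨A, hA, c, rfl⟩ := hN₀ hx
        obtain ⟨B, hB, d, rfl⟩ := hN₀ hy
        choose r hr using fun i => exists_sc (quat_comm h3 (memQ3.1 hA i) (memQ3.1 hB i))
        have e1 : Φ A * Φ B * (Φ A)⁻¹ * (Φ B)⁻¹ = sc (∏ i, r i) := by
          rw [← map_inv, ← map_inv, ← map_mul, ← map_mul, ← map_mul, ← pureHom_sc]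
          exact congrArg _ (funext fun i => (hr i).symm)
        have e2 : Φ A * sc c * (Φ B * sc d) * (Φ A * sc c)⁻¹ * (Φ B * sc d)⁻¹ =
            Φ A * Φ B * (Φ A)⁻¹ * (Φ B)⁻¹ := by
          rw [mul_inv_rev, mul_inv_rev, ← sc_inv, ← sc_inv]
          calc Φ A * sc c * (Φ B * sc d) * (sc c⁻¹ * (Φ A)⁻¹) * (sc d⁻¹ * (Φ B)⁻¹)
              = Φ A * (sc c * Φ B) * (sc d * sc c⁻¹) * ((Φ A)⁻¹ * sc d⁻¹) * (Φ B)⁻¹ := by group
            _ = Φ A * (Φ B * sc c) * (sc c⁻¹ * sc d) * (sc d⁻¹ * (Φ A)⁻¹) * (Φ B)⁻¹ := by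
                rw [sc_comm c, sc_comm d⁻¹, ← sc_mul, ← sc_mul, mul_comm d]
            _ = Φ A * Φ B * ((sc c * sc c⁻¹) * (sc d * sc d⁻¹)) * (Φ A)⁻¹ * (Φ B)⁻¹ := by group
            _ = _ := by simp [← sc_mul, sc_one]
        show f (Φ A * sc c) * f (Φ B * sc d) * (f (Φ A * sc c))⁻¹ * (f (Φ B * sc d))⁻¹ ∈ scalars I₂ F
        rw [← map_inv, ← map_inv, ← map_mul, ← map_mul, ← map_mul, e2, e1, hfsc]
        exact sc_mem _
      min := by
        intro M hscM hMN hinv
        let M₀ := M.comap f.toMonoidHom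
        have hscM₀ : ∀ c : Fˣ, (sc c : GL (Fin 3 → Fin 2) F) ∈ M₀ := fun c => by
          show f (sc c) ∈ M; rw [hfsc]; exact hscM (sc_mem c)
        have hinv₀ : ∀ k, f k ∈ H' → ∀ a ∈ M₀, k * a * k⁻¹ ∈ M₀ := fun k hk a ha => by
          show f (k * a * k⁻¹) ∈ M
          rw [map_mul, map_mul, map_inv]
          exact hinv _ (Subgroup.mem_sup_left hk) _ ha
        by_cases hMs : M ≤ scalars I₂ F
        · exact Or.inl (le_antisymm hMs hscM)
        obtain ⟨_, hxM, hxs⟩ := SetLike.not_le_iff_exists.1 hMs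
        obtain ⟨x, hx, rfl⟩ := hMN hxM
        obtain ⟨A, hA, c, rfl⟩ := hN₀ hx
        have hxM₀ : Φ A * sc c ∈ M₀ := hxM
        obtain ⟨i, hi⟩ : ∃ i, A i ∉ scalars (Fin 2) F := by
          by_contra hall
          push Not at hall
          choose r hr using fun i => exists_sc (hall i)
          apply hxs
          show f (Φ A * sc c) ∈ _
          rw [show Φ A = sc (∏ i, r i) by rw [← pureHom_sc]; exact congrArg _ (funext fun i => (hr i).symm),
            ← sc_mul, hfsc]
          exact sc_mem _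
        let T : Fin 3 → Subgroup (GL (Fin 2) F) := fun j => M₀.comap (Φ.comp (MonoidHom.mulSingle (fun _ : Fin 3 => GL (Fin 2) F) j))
        have hTsc : ∀ j, scalars (Fin 2) F ≤ T j := by
          intro j y hy
          obtain ⟨r, rfl⟩ := exists_sc hy
          show Φ (Pi.mulSingle j (sc r)) ∈ M₀
          rw [show (Pi.mulSingle j (sc r) : Fin 3 → GL (Fin 2) F) =
            fun k => sc ((Pi.mulSingle j r : Fin 3 → Fˣ) k) from funext fun k => by
              rcases eq_or_ne k j with rfl | hk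
              · simp
              · simp [hk, sc_one]]
          exact pureHom_sc (F := F) _ ▸ hscM₀ _
        have hTu : ∀ j, ∀ a ∈ T j, u * a * u⁻¹ ∈ T j := by
          intro j a ha
          show Φ (Pi.mulSingle j (u * a * u⁻¹)) ∈ M₀
          rw [Pi.mulSingle_mul, Pi.mulSingle_mul, Pi.mulSingle_inv, map_mul, map_mul, map_inv]
          exact hinv₀ _ (hdet1 j) _ ha
        have hq : u * A i * u⁻¹ * (A i)⁻¹ ∈ quatGroup F :=
          mul_mem (quat_normal h3 hF3 u (memQ3.1 hA i)) (inv_mem (memQ3.1 hA i))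
        have hqT : u * A i * u⁻¹ * (A i)⁻¹ ∈ T i := by
          have h1 := M₀.mul_mem (hinv₀ _ (hdet1 i) _ hxM₀) (M₀.inv_mem hxM₀)
          show Φ (Pi.mulSingle i (u * A i * u⁻¹ * (A i)⁻¹)) ∈ M₀
          have e1 : (Pi.mulSingle i (u * A i * u⁻¹ * (A i)⁻¹) : Fin 3 → GL (Fin 2) F) =
              Pi.mulSingle i u * A * (Pi.mulSingle i u)⁻¹ * A⁻¹ := funext fun k => by
            rcases eq_or_ne k i with rfl | hk
            · simp
            · simp [hk]
          rw [e1]
          convert h1 using 1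
          rw [map_mul, map_mul, map_mul, map_inv, map_inv, mul_inv_rev, ← sc_inv]
          calc Φ (Pi.mulSingle i u) * Φ A * (Φ (Pi.mulSingle i u))⁻¹ * (Φ A)⁻¹
              = Φ (Pi.mulSingle i u) * Φ A * (Φ (Pi.mulSingle i u))⁻¹ * (sc c * sc c⁻¹) * (Φ A)⁻¹ := by
                simp [← sc_mul, sc_one]
            _ = Φ (Pi.mulSingle i u) * Φ A * ((Φ (Pi.mulSingle i u))⁻¹ * sc c) * (sc c⁻¹ * (Φ A)⁻¹) := by group
            _ = Φ (Pi.mulSingle i u) * Φ A * (sc c * (Φ (Pi.mulSingle i u))⁻¹) * (sc c⁻¹ * (Φ A)⁻¹) := by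
                rw [sc_comm c]
            _ = _ := by group
        have hns := quat_commutator h3 hu (memQ3.1 hA i) hi
        have hQi : quatGroup F ≤ T i := by
          refine quat_le h3 (hTsc i) hu (hTu i) hqT ?_
          rcases quat_cases h3 hq with e | e | e
          · exact absurd (mem_scalars_of_eq_smul (c := 1) (by rw [e, one_smul])) hns
          · exact absurd (mem_scalars_of_eq_smul (c := -1) (by rw [e, neg_one_smul])) hns
          · exact e
        have hQ : ∀ j, quatGroup F ≤ T j := by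
          intro j a ha
          have h1 := hinv₀ _ (hmemH _ (Subgroup.subset_closure (Or.inr ⟨Equiv.swap i j, fun x y => rfl⟩))
            (hperm (Equiv.swap i j))) _ (hQi ha)
          show Φ (Pi.mulSingle j a) ∈ M₀
          convert h1 using 1
          show Φ _ = _ * Φ (Pi.mulSingle i a) * _
          rw [permGL_pureHom]
          refine congrArg _ (funext fun k => ?_)
          rw [Equiv.symm_swap]
          rcases eq_or_ne k j with rfl | hk
          · simp
          · rw [Pi.mulSingle_eq_of_ne hk, Pi.mulSingle_eq_of_ne]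
            rw [Equiv.swap_apply_def]; split_ifs <;> omega
        refine Or.inr (le_antisymm hMN ?_)
        rintro _ ⟨y, hy, rfl⟩
        obtain ⟨B, hB, d, rfl⟩ := hN₀ hy
        show Φ B * sc d ∈ M₀
        refine mul_mem ?_ (hscM₀ d)
        rw [show B = Pi.mulSingle 0 (B 0) * Pi.mulSingle 1 (B 1) * Pi.mulSingle 2 (B 2) by
          funext k; fin_cases k <;> simp, map_mul, map_mul]
        exact mul_mem (mul_mem (hQ 0 (memQ3.1 hB 0)) (hQ 1 (memQ3.1 hB 1))) (hQ 2 (memQ3.1 hB 2))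
      absIrred := by
        refine absIrred_of_alg_top (eq_top_iff.2 fun x _ => ?_)
        have hslot : ∀ (j : Fin 3) (a : Matrix (Fin 2) (Fin 2) F), (coordR e P).symm (slot j a) ∈ alg N := by
          intro j a
          let B := (alg N).comap ((coordR e P).symm.toAlgHom.comp (slotHom (F := F) j))
          have hmem : ∀ y : GL (Fin 2) F, y ∈ quatGroup F → (y : Matrix (Fin 2) (Fin 2) F) ∈ B := fun y hy => by
            show (coordR e P).symm (slot j (y : Matrix (Fin 2) (Fin 2) F)) ∈ alg N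
            rw [← pureHom_mulSingle_val, ← hcoordf, AlgEquiv.symm_apply_apply]
            refine val_mem_alg ⟨_, hmemN (memQ3.2 fun k => ?_), rfl⟩
            rcases eq_or_ne k j with rfl | hk
            · simpa using hy
            · simp [hk, one_mem]
          have b1 : (alt2 : Matrix (Fin 2) (Fin 2) F) ∈ B := eI ▸ hmem _ hI
          have b2 : (quatJ : Matrix (Fin 2) (Fin 2) F) ∈ B := eJ ▸ hmem _ hJQ
          have b3 : (quatK : Matrix (Fin 2) (Fin 2) F) ∈ B := (quat_table h3).2.1 ▸ B.mul_mem b1 b2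
          show a ∈ B
          rw [show a = (-(a 0 0 + a 1 1)) • (1 : Matrix (Fin 2) (Fin 2) F) + (-(a 0 1 - a 1 0)) • alt2 +
              ((a 0 0 - a 1 1)) • (quatJ + quatK) + (a 0 1 + a 1 0) • (quatJ - quatK) by
            ext k l
            fin_cases k <;> fin_cases l <;> simp [alt2, quatJ, quatK] <;>
              first
                | linear_combination (a 0 0) * h3 | linear_combination -(a 0 0) * h3
                | linear_combination (a 0 1) * h3 | linear_combination -(a 0 1) * h3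
                | linear_combination (a 1 0) * h3 | linear_combination -(a 1 0) * h3
                | linear_combination (a 1 1) * h3 | linear_combination -(a 1 1) * h3]
          exact add_mem (add_mem (add_mem (B.smul_mem B.one_mem _) (B.smul_mem b1 _))
            (B.smul_mem (add_mem b2 b3) _)) (B.smul_mem (sub_mem b2 b3) _)
        rw [← (coordR e P).symm_apply_apply x, Matrix.matrix_eq_sum_single (coordR e P x), map_sum]
        refine Subalgebra.sum_mem _ fun a _ => ?_
        rw [map_sum]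
        refine Subalgebra.sum_mem _ fun b _ => ?_
        rw [show Matrix.single a b (coordR e P x a b) = (coordR e P x a b) • Matrix.single a b (1 : F) by
          rw [Matrix.smul_single, smul_eq_mul, mul_one], map_smul]
        refine Subalgebra.smul_mem _ ?_ _
        have e1 : Matrix.single a b (1 : F) = slot 0 (Matrix.single (a 0) (b 0) 1) *
            slot 1 (Matrix.single (a 1) (b 1) 1) * slot 2 (Matrix.single (a 2) (b 2) 1) := by
          rw [slot_eq_pure, slot_eq_pure, slot_eq_pure, pure'_mul, pure'_mul]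
          ext x y
          simp only [pure', Matrix.of_apply, Fin.prod_univ_three]
          simp [Matrix.single_apply, funext_iff, Fin.forall_fin_succ, ← ite_and]
          refine if_congr ?_ rfl rfl
          tauto
        rw [e1, map_mul, map_mul]
        exact mul_mem (mul_mem (hslot _ _) (hslot _ _)) (hslot _ _)
      ne := by
        intro hne
        have h1 : f (Φ (Pi.mulSingle 0 gI)) ∈ scalars I₂ F := hne ▸ (⟨_, hmemN (memQ3.2 fun k => by
          rcases eq_or_ne k 0 with rfl | hk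
          · simpa using hI
          · simp [hk, one_mem]), rfl⟩ : f (Φ (Pi.mulSingle 0 gI)) ∈ N)
        obtain ⟨c, hc⟩ := exists_sc h1
        rw [← hfsc] at hc
        have h2 : slot (0 : Fin 3) (alt2 : Matrix (Fin 2) (Fin 2) F) = slot 0 ((c : F) • (1 : Matrix (Fin 2) (Fin 2) F)) := by
          rw [slot_smul, slot_one, ← sc_val, f.injective hc, pureHom_mulSingle_val, eI]
        have h3' := congrFun (congrFun (slot_injective 0 h2) 0) 1
        simp [alt2] at h3' }
  rcases symp_abelian_cases hm inf_le_right hN with ⟨F₁, r, Q, z, hr, hcardF, -⟩ | h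
  · exfalso
    rw [hF] at hcardF
    have h1 : 1 < Nat.card F₁ := Finite.one_lt_card
    have h2 : Nat.card F₁ ∣ 3 := hcardF ▸ dvd_pow_self _ hr.ne_zero
    rw [(Nat.prime_three.eq_one_or_self_of_dvd _ h2).resolve_left h1.ne'] at hcardF
    have := Nat.pow_le_pow_right (show 0 < 3 by norm_num) hr.two_le
    omega
  · exact h

end CfsgLib.AschbacherForm.Cases
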