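import Cfsg.Agent.Lib.AschbacherForm.Cases.SympPlusFour

/-!
The quaternion subgroup of `GL₂(3)` and its tensor cube.
-/

set_option autoImplicit false
set_option linter.unusedSectionVars false

namespace CfsgLib.AschbacherForm.Cases

open Cfsg Cfsg.Geo CfsgLib.Aschbacher CfsgLib.Aschbacher.Cases
open scoped Matrix MatrixGroups

universe u
variable {F : Type u} [Field F]

/-- The second quaternion generator. -/
def quatJ : Matrix (Fin 2) (Fin 2) F := !![1, 1; 1, -1]

/-- The third quaternion unit. -/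
def quatK : Matrix (Fin 2) (Fin 2) F := !![1, -1; -1, -1]

/-- A unipotent matrix cycling the quaternion units. -/
def quatU : Matrix (Fin 2) (Fin 2) F := !![1, 1; 0, 1]

/-- The six non-central quaternion units. -/
def IsQuatUnit (A : Matrix (Fin 2) (Fin 2) F) : Prop :=
  A = alt2 ∨ A = -alt2 ∨ A = quatJ ∨ A = -quatJ ∨ A = quatK ∨ A = -quatK

/-- The quaternion subgroup. -/
def quatGroup (F : Type u) [Field F] : Subgroup (GL (Fin 2) F) :=
  Subgroup.closure {g | (g : Matrix (Fin 2) (Fin 2) F) = alt2 ∨ (g : Matrix (Fin 2) (Fin 2) F) = quatJ}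

variable (h3 : (3 : F) = 0)

include h3

theorem quat_table :
    (alt2 : Matrix (Fin 2) (Fin 2) F) * alt2 = -1 ∧ (alt2 : Matrix (Fin 2) (Fin 2) F) * quatJ = quatK ∧
      (quatJ : Matrix (Fin 2) (Fin 2) F) * alt2 = -quatK ∧ (quatJ : Matrix (Fin 2) (Fin 2) F) * quatJ = -1 ∧
      (quatK : Matrix (Fin 2) (Fin 2) F) * alt2 = quatJ ∧ (quatK : Matrix (Fin 2) (Fin 2) F) * quatJ = -alt2 := by
  refine ⟨?_, ?_, ?_, ?_, ?_, ?_⟩ <;>
    ext i j <;> fin_cases i <;> fin_cases j <;>
      simp [alt2, quatJ, quatK, Matrix.mul_apply, Fin.sum_univ_two] <;>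
      first | linear_combination h3 | linear_combination -h3

theorem quat_cycle :
    (quatU : Matrix (Fin 2) (Fin 2) F) * alt2 = -quatJ * quatU ∧
      (quatU : Matrix (Fin 2) (Fin 2) F) * quatJ = -quatK * quatU ∧
      (quatU : Matrix (Fin 2) (Fin 2) F) * quatK = alt2 * quatU := by
  refine ⟨?_, ?_, ?_⟩ <;>
    ext i j <;> fin_cases i <;> fin_cases j <;>
      simp [alt2, quatJ, quatK, quatU, Matrix.mul_apply, Fin.sum_univ_two] <;>
      first | linear_combination h3 | linear_combination -h3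

theorem exists_quat_gens : ∃ gI gJ : GL (Fin 2) F,
    (gI : Matrix (Fin 2) (Fin 2) F) = alt2 ∧ (gJ : Matrix (Fin 2) (Fin 2) F) = quatJ ∧
      gI ∈ quatGroup F ∧ gJ ∈ quatGroup F ∧ (-1 : GL (Fin 2) F) ∈ quatGroup F := by
  obtain ⟨t1, -, -, t4, -, -⟩ := quat_table h3
  let gI : GL (Fin 2) F := ⟨alt2, -alt2, by rw [mul_neg, t1, neg_neg], by rw [neg_mul, t1, neg_neg]⟩
  let gJ : GL (Fin 2) F := ⟨quatJ, -quatJ, by rw [mul_neg, t4, neg_neg], by rw [neg_mul, t4, neg_neg]⟩
  have hI : gI ∈ quatGroup F := Subgroup.subset_closure (Or.inl rfl)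
  refine ⟨gI, gJ, rfl, rfl, hI, Subgroup.subset_closure (Or.inr rfl), ?_⟩
  rw [show (-1 : GL (Fin 2) F) = gI * gI from Units.ext (by simp [gI, t1])]
  exact mul_mem hI hI

/-- The elements of the quaternion subgroup. -/
theorem quat_cases {x : GL (Fin 2) F} (hx : x ∈ quatGroup F) :
    (x : Matrix (Fin 2) (Fin 2) F) = 1 ∨ (x : Matrix (Fin 2) (Fin 2) F) = -1 ∨
      IsQuatUnit (x : Matrix (Fin 2) (Fin 2) F) := by
  obtain ⟨t1, t2, t3, t4, t5, t6⟩ := quat_table h3
  have step : ∀ (A g : Matrix (Fin 2) (Fin 2) F), (g = alt2 ∨ g = -alt2 ∨ g = quatJ ∨ g = -quatJ) →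
      (A = 1 ∨ A = -1 ∨ IsQuatUnit A) → (A * g = 1 ∨ A * g = -1 ∨ IsQuatUnit (A * g)) := by
    intro A g hg hA
    simp only [IsQuatUnit] at hA ⊢
    rcases hg with rfl | rfl | rfl | rfl <;> rcases hA with rfl | rfl | rfl | rfl | rfl | rfl | rfl | rfl <;>
      simp [t1, t2, t3, t4, t5, t6]
  have hinv : ∀ g : GL (Fin 2) F,
      ((g : Matrix (Fin 2) (Fin 2) F) = alt2 ∨ (g : Matrix (Fin 2) (Fin 2) F) = quatJ) →
      ((g⁻¹ : GL (Fin 2) F) : Matrix (Fin 2) (Fin 2) F) = -(g : Matrix (Fin 2) (Fin 2) F) := fun g hg => by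
    have : (g : Matrix (Fin 2) (Fin 2) F) * (g : Matrix (Fin 2) (Fin 2) F) = -1 := by
      rcases hg with e | e <;> rw [e] <;> assumption
    have e : g⁻¹ = -g := inv_eq_of_mul_eq_one_right (Units.ext (by simp [this]))
    rw [e, Units.val_neg]
  induction hx using Subgroup.closure_induction_right with
  | one => exact Or.inl Units.val_one
  | mul_right x hx y hyQ ih =>
    rw [Units.val_mul]
    refine step _ _ ?_ ih
    rcases hyQ with e | e <;> simp [e]
  | mul_inv_cancel x hx y hyQ ih =>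
    rw [Units.val_mul, hinv y hyQ]
    refine step _ _ ?_ ih
    rcases hyQ with e | e <;> simp [e]

theorem quat_list (hF : ∀ x : F, x = 0 ∨ x = 1 ∨ x = -1) {A : Matrix (Fin 2) (Fin 2) F}
    (ht : A 1 1 = -A 0 0) (hd : A.det = 1) : IsQuatUnit A := by
  rw [Matrix.det_fin_two, ht] at hd
  have e := Matrix.eta_fin_two A
  rw [ht] at e
  rcases hF (A 0 0) with a | a | a <;> rcases hF (A 0 1) with b | b | b <;> rcases hF (A 1 0) with c | c | c <;>
    rw [a, b, c] at hd e <;> rw [e] <;>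
    first
      | (exfalso; exact one_ne_zero (show (1 : F) = 0 by linear_combination h3 - hd - hd) )
      | (exfalso; exact one_ne_zero (show (1 : F) = 0 by linear_combination -hd))
      | (exfalso; exact one_ne_zero (show (1 : F) = 0 by linear_combination hd))
      | (exfalso; exact one_ne_zero (show (1 : F) = 0 by linear_combination h3 + hd + hd) )
      | (exfalso; exact one_ne_zero (show (1 : F) = 0 by linear_combination h3 + hd) )
      | (exfalso; exact one_ne_zero (show (1 : F) = 0 by linear_combination h3 - hd) )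
      | simp [IsQuatUnit, alt2, quatJ, quatK]

theorem quat_mem_of_isUnit {x : GL (Fin 2) F} (h : IsQuatUnit (x : Matrix (Fin 2) (Fin 2) F)) :
    x ∈ quatGroup F := by
  obtain ⟨gI, gJ, eI, eJ, hI, hJ, hn⟩ := exists_quat_gens h3
  obtain ⟨-, t2, -⟩ := quat_table h3
  rcases h with e | e | e | e | e | e
  · rw [show x = gI from Units.ext (by rw [e, eI])]; exact hI
  · rw [show x = -1 * gI from Units.ext (by simp [e, eI])]; exact mul_mem hn hI
  · rw [show x = gJ from Units.ext (by rw [e, eJ])]; exact hJ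
  · rw [show x = -1 * gJ from Units.ext (by simp [e, eJ])]; exact mul_mem hn hJ
  · rw [show x = gI * gJ from Units.ext (by simp [e, eI, eJ, t2])]; exact mul_mem hI hJ
  · rw [show x = -1 * (gI * gJ) from Units.ext (by simp [e, eI, eJ, t2])]; exact mul_mem hn (mul_mem hI hJ)

theorem quat_det {x : GL (Fin 2) F} (hx : x ∈ quatGroup F) : (x : Matrix (Fin 2) (Fin 2) F).det = 1 := by
  rcases quat_cases h3 hx with e | e | e | e | e | e | e | e <;> rw [e, Matrix.det_fin_two] <;>
    simp [alt2, quatJ, quatK] <;> linear_combination -h3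

theorem quat_normal (hF : ∀ x : F, x = 0 ∨ x = 1 ∨ x = -1) (g : GL (Fin 2) F) {x : GL (Fin 2) F}
    (hx : x ∈ quatGroup F) : g * x * g⁻¹ ∈ quatGroup F := by
  suffices h : (quatGroup F).map (MulAut.conj g).toMonoidHom ≤ quatGroup F by
    simpa using h ⟨x, hx, rfl⟩
  rw [quatGroup, MonoidHom.map_closure, Subgroup.closure_le]
  rintro _ ⟨y, hy, rfl⟩
  refine quat_mem_of_isUnit h3 (quat_list h3 hF ?_ ?_)
  · have h1 := Matrix.trace_units_conj g (y : Matrix (Fin 2) (Fin 2) F)
    have h0 : Matrix.trace (y : Matrix (Fin 2) (Fin 2) F) = 0 := by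
      rcases hy with e | e <;> rw [e, Matrix.trace_fin_two] <;> simp [alt2, quatJ]
    rw [h0, Matrix.trace_fin_two] at h1
    show ((g : Matrix (Fin 2) (Fin 2) F) * y * (↑g⁻¹ : Matrix (Fin 2) (Fin 2) F)) 1 1 = _
    exact eq_neg_of_add_eq_zero_right h1
  · show ((g : Matrix (Fin 2) (Fin 2) F) * y * (↑g⁻¹ : Matrix (Fin 2) (Fin 2) F)).det = 1
    rw [Matrix.det_units_conj, quat_det h3 (Subgroup.subset_closure hy)]

theorem quat_comm {x y : GL (Fin 2) F} (hx : x ∈ quatGroup F) (hy : y ∈ quatGroup F) :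
    x * y * x⁻¹ * y⁻¹ ∈ scalars (Fin 2) F := by
  haveI := scalars_normal (ι := Fin 2) (F := F)
  let π := QuotientGroup.mk' (scalars (Fin 2) F)
  obtain ⟨t1, t2, t3, t4, -⟩ := quat_table h3
  have hgen : ∀ a b : GL (Fin 2) F,
      ((a : Matrix (Fin 2) (Fin 2) F) = alt2 ∨ (a : Matrix (Fin 2) (Fin 2) F) = quatJ) →
      ((b : Matrix (Fin 2) (Fin 2) F) = alt2 ∨ (b : Matrix (Fin 2) (Fin 2) F) = quatJ) →
      π a * π b = π b * π a := by
    intro a b ha hb
    have hneg : π (-1 : GL (Fin 2) F) = 1 := (QuotientGroup.eq_one_iff _).2 (mem_scalars_of_eq_smul (c := -1) (by simp))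
    rcases ha with ea | ea <;> rcases hb with eb | eb
    · rw [show a = b from Units.ext (ea.trans eb.symm)]
    · rw [← map_mul, ← map_mul, show a * b = -1 * (b * a) from Units.ext (by simp [ea, eb, t2, t3]), map_mul π (-1), hneg,
        one_mul]
    · rw [← map_mul, ← map_mul, show a * b = -1 * (b * a) from Units.ext (by simp [ea, eb, t2, t3]), map_mul π (-1), hneg,
        one_mul]
    · rw [show a = b from Units.ext (ea.trans eb.symm)]
  have hmap : ∀ {z : GL (Fin 2) F}, z ∈ quatGroup F →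
      π z ∈ Subgroup.closure (π '' {g | (g : Matrix (Fin 2) (Fin 2) F) = alt2 ∨ (g : Matrix (Fin 2) (Fin 2) F) = quatJ}) :=
    fun hz => by rw [← MonoidHom.map_closure]; exact ⟨_, hz, rfl⟩
  have hc : π x * π y = π y * π x := by
    refine Subgroup.closure_induction₂ (fun a b ha hb => ?_) (fun a _ => by simp) (fun a _ => by simp)
      (fun a b c _ _ _ h1 h2 => (Commute.mul_left h1 h2 :)) (fun a b c _ _ _ h1 h2 => (Commute.mul_right h1 h2 :))
      (fun a b _ _ h1 => (Commute.inv_left h1 :)) (fun a b _ _ h1 => (Commute.inv_right h1 :)) (hmap hx) (hmap hy)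
    obtain ⟨a, ha, rfl⟩ := ha
    obtain ⟨b, hb, rfl⟩ := hb
    exact hgen a b ha hb
  refine (QuotientGroup.eq_one_iff _).1 ?_
  show π (x * y * x⁻¹ * y⁻¹) = 1
  rw [map_mul, map_mul, map_mul, hc, map_inv, map_inv]
  group

/-- A subgroup containing the scalars and one non-central quaternion unit, stable under `quatU`. -/
theorem quat_le {T : Subgroup (GL (Fin 2) F)} (hsc : scalars (Fin 2) F ≤ T) {u : GL (Fin 2) F}
    (hu : (u : Matrix (Fin 2) (Fin 2) F) = quatU) (hT : ∀ a ∈ T, u * a * u⁻¹ ∈ T) {x : GL (Fin 2) F}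
    (hx : x ∈ T) (hxQ : IsQuatUnit (x : Matrix (Fin 2) (Fin 2) F)) : quatGroup F ≤ T := by
  obtain ⟨c1, c2, c3⟩ := quat_cycle h3
  have hneg : (-1 : GL (Fin 2) F) ∈ T := hsc (mem_scalars_of_eq_smul (c := -1) (by simp))
  let InT : Matrix (Fin 2) (Fin 2) F → Prop := fun A => ∃ g ∈ T, (g : Matrix (Fin 2) (Fin 2) F) = A
  have next' : ∀ A B : Matrix (Fin 2) (Fin 2) F, InT A → quatU * A = B * quatU → InT B := by
    rintro A B ⟨g, hg, rfl⟩ hAB
    refine ⟨_, hT g hg, ?_⟩
    rw [Units.val_mul, Units.val_mul, hu, hAB, ← hu, mul_assoc, Units.mul_inv, mul_one]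
  have negT : ∀ A : Matrix (Fin 2) (Fin 2) F, InT A → InT (-A) := by
    rintro A ⟨g, hg, rfl⟩
    exact ⟨-1 * g, mul_mem hneg hg, by simp⟩
  have negT' : ∀ A : Matrix (Fin 2) (Fin 2) F, InT (-A) → InT A := fun A h => neg_neg A ▸ negT _ h
  have a1 : InT alt2 → InT quatJ := fun h => negT' _ (next' _ _ h c1)
  have a2 : InT quatJ → InT quatK := fun h => negT' _ (next' _ _ h c2)
  have a3 : InT quatK → InT alt2 := fun h => next' _ _ h c3
  have hA : InT (x : Matrix (Fin 2) (Fin 2) F) := ⟨x, hx, rfl⟩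
  have hall : InT alt2 ∧ InT quatJ := by
    rcases hxQ with e | e | e | e | e | e <;> rw [e] at hA
    · exact ⟨hA, a1 hA⟩
    · exact ⟨negT' _ hA, a1 (negT' _ hA)⟩
    · exact ⟨a3 (a2 hA), hA⟩
    · exact ⟨a3 (a2 (negT' _ hA)), negT' _ hA⟩
    · exact ⟨a3 hA, a1 (a3 hA)⟩
    · exact ⟨a3 (negT' _ hA), a1 (a3 (negT' _ hA))⟩
  rw [quatGroup, Subgroup.closure_le]
  rintro g (e | e)
  · obtain ⟨g', hg', e'⟩ := hall.1
    rwa [show g = g' from Units.ext (e.trans e'.symm)]
  · obtain ⟨g', hg', e'⟩ := hall.2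
    rwa [show g = g' from Units.ext (e.trans e'.symm)]

/-- A commutator with `quatU` is not central. -/
theorem quat_commutator {u : GL (Fin 2) F} (hu : (u : Matrix (Fin 2) (Fin 2) F) = quatU) {x : GL (Fin 2) F}
    (hx : x ∈ quatGroup F) (hns : x ∉ scalars (Fin 2) F) : u * x * u⁻¹ * x⁻¹ ∉ scalars (Fin 2) F := by
  intro hs
  obtain ⟨c, hc⟩ := exists_sc hs
  have e1 : (quatU : Matrix (Fin 2) (Fin 2) F) * (x : Matrix (Fin 2) (Fin 2) F) =
      (c : F) • ((x : Matrix (Fin 2) (Fin 2) F) * quatU) := by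
    rw [← hu, ← Units.val_mul, ← Units.val_mul, ← sc_mul_val, hc]
    exact congrArg Units.val (by group)
  obtain ⟨c1, c2, c3⟩ := quat_cycle h3
  have cancel : ∀ A B : Matrix (Fin 2) (Fin 2) F, A * quatU = B * quatU → A = B := fun A B h => by
    rw [← hu] at h
    exact (Units.mul_left_inj u).1 h
  rcases quat_cases h3 hx with e | e | e | e | e | e | e | e
  · exact hns (mem_scalars_of_eq_smul (c := 1) (by rw [e, one_smul]))
  · exact hns (mem_scalars_of_eq_smul (c := -1) (by rw [e, neg_one_smul]))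
  all_goals
    rw [e] at e1
    simp only [mul_neg, neg_mul, smul_neg, neg_inj, c1, c2, c3] at e1
    rw [← Matrix.smul_mul] at e1
    try rw [← neg_mul] at e1
    have e2 := cancel _ _ e1
    have h00 := congrFun (congrFun e2 0) 0
    have h01 := congrFun (congrFun e2 0) 1
    simp [alt2, quatJ, quatK] at h00 h01
  all_goals first
    | exact one_ne_zero (show (1 : F) = 0 by linear_combination h3 + h00 - h01)
    | exact one_ne_zero (show (1 : F) = 0 by linear_combination h3 - h00 + h01)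
    | exact one_ne_zero (show (1 : F) = 0 by linear_combination h00)
    | exact one_ne_zero (show (1 : F) = 0 by linear_combination -h00)
    | exact one_ne_zero (show (1 : F) = 0 by linear_combination h01 + h00)
    | exact one_ne_zero (show (1 : F) = 0 by linear_combination h01 - h00)
    | exact one_ne_zero (show (1 : F) = 0 by linear_combination -h01 - h00)

end CfsgLib.AschbacherForm.Cases
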