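import Cfsg.Agent.Lib.AschbacherForm.Cases.Quaternion
import Mathlib.Data.ZMod.Basic

/-!
`Sp₄(3)`: the pairs of Lagrangians give way to planes, and the unitary extension field to the five
anticommuting operators.
-/

set_option autoImplicit false
set_option linter.unusedSectionVars false

namespace CfsgLib.AschbacherForm.Cases

open Cfsg Cfsg.Geo CfsgLib.Aschbacher
open scoped Matrix MatrixGroups

universe u
variable {F : Type u} [Field F]

local notation "S4" => sympForm 2 F
local notation "I4" => Fin 2 ⊕ Fin 2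
local notation "κ₂" => Fin 2 × Fin 2

/-! ### The five operators -/

section ops

variable (R : Type*) [CommRing R]

/-- A matrix on pairs from one on four indices. -/
def ofFour (M : Matrix (Fin 4) (Fin 4) R) : Matrix κ₂ κ₂ R :=
  Matrix.of fun p q => M (finProdFinEquiv p) (finProdFinEquiv q)

/-- The Gram matrix `alt₂ ⊗ 1`. -/
def gramFour : Matrix κ₂ κ₂ R := ofFour R !![0, 0, 1, 0; 0, 0, 0, 1; -1, 0, 0, 0; 0, -1, 0, 0]

/-- The root of `-1`. -/
def rootFour : Matrix κ₂ κ₂ R := ofFour R !![0, 1, 0, 0; -1, 0, 0, 0; 0, 0, 0, 1; 0, 0, -1, 0]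

/-- The five anticommuting self-adjoint involutions. -/
def gamFour : Fin 5 → Matrix κ₂ κ₂ R :=
  ![ofFour R !![0, 0, 0, 1; 0, 0, -1, 0; 0, -1, 0, 0; 1, 0, 0, 0],
    ofFour R !![0, 1, 0, 1; -1, 0, -1, 0; 0, 1, 0, -1; -1, 0, 1, 0],
    ofFour R !![0, 1, 0, -1; -1, 0, 1, 0; 0, -1, 0, -1; 1, 0, 1, 0],
    ofFour R !![1, 0, 0, 0; 0, -1, 0, 0; 0, 0, 1, 0; 0, 0, 0, -1],
    ofFour R !![0, 1, 0, 0; 1, 0, 0, 0; 0, 0, 0, 1; 0, 0, 1, 0]]

/-- A mixing isometry. -/
def mixFour : Matrix κ₂ κ₂ R := ofFour R !![0, 1, 1, -1; 1, 0, -1, 1; 1, 0, -1, -1; 0, 1, -1, -1]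

/-- Its inverse. -/
def mixFourInv : Matrix κ₂ κ₂ R := ofFour R !![-1, -1, -1, 1; -1, -1, 1, -1; -1, 0, 0, 1; 0, -1, 1, 0]

/-- An isometry not permuting the operators. -/
def outFour : Matrix κ₂ κ₂ R := ofFour R !![1, 0, 0, 0; 0, 1, 0, 0; 0, 0, 1, 0; 0, -1, 0, 1]

/-- Its inverse. -/
def outFourInv : Matrix κ₂ κ₂ R := ofFour R !![1, 0, 0, 0; 0, 1, 0, 0; 0, 0, 1, 0; 0, 1, 0, 1]

/-- Being one of the ten signed operators. -/
def IsGamFour (x : Matrix κ₂ κ₂ R) : Prop := ∃ k, x = gamFour R k ∨ x = -gamFour R k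

/-- The finite facts. -/
def GamFacts : Prop :=
  (mixFour R * mixFourInv R = 1 ∧ mixFourInv R * mixFour R = 1 ∧
    (mixFour R)ᵀ * gramFour R * mixFour R = gramFour R) ∧
  (outFour R * outFourInv R = 1 ∧ outFourInv R * outFour R = 1 ∧
    (outFour R)ᵀ * gramFour R * outFour R = gramFour R) ∧
  (∀ k, gamFour R k * gamFour R k = 1 ∧ (gamFour R k)ᵀ * gramFour R = gramFour R * gamFour R k) ∧
  (∀ k, IsGamFour R (mixFour R * gamFour R k * mixFourInv R)) ∧
  (∀ k, IsGamFour R (mixFourInv R * gamFour R k * mixFour R)) ∧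
  (∀ k, outFour R * gamFour R 0 * outFourInv R ≠ gamFour R k ∧
    outFour R * gamFour R 0 * outFourInv R ≠ -gamFour R k) ∧
  (mixFour R * rootFour R ≠ rootFour R * mixFour R ∧ mixFour R * rootFour R ≠ -(rootFour R * mixFour R))

end ops

theorem gamFacts_zmod : GamFacts (ZMod 3) := by
  unfold GamFacts IsGamFour
  refine ⟨⟨?_, ?_, ?_⟩, ⟨?_, ?_, ?_⟩, ?_, ?_, ?_, ?_, ?_, ?_⟩ <;> decide +kernel

theorem ofFour_map {R S : Type*} [CommRing R] [CommRing S] (φ : R →+* S) (M : Matrix (Fin 4) (Fin 4) R) :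
    (ofFour R M).map φ = ofFour S (M.map φ) := rfl

theorem gamFour_map {R S : Type*} [CommRing R] [CommRing S] (φ : R →+* S) :
    (gramFour R).map φ = gramFour S ∧ (rootFour R).map φ = rootFour S ∧ (mixFour R).map φ = mixFour S ∧
      (mixFourInv R).map φ = mixFourInv S ∧ (outFour R).map φ = outFour S ∧ (outFourInv R).map φ = outFourInv S ∧
      ∀ k, (gamFour R k).map φ = gamFour S k := by
  refine ⟨?_, ?_, ?_, ?_, ?_, ?_, fun k => ?_⟩
  all_goals try fin_cases k
  all_goals
    simp only [gramFour, rootFour, mixFour, mixFourInv, outFour, outFourInv, gamFour, ofFour_map]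
    ext ⟨i, a⟩ ⟨j, b⟩
    fin_cases i <;> fin_cases a <;> fin_cases j <;> fin_cases b <;>
      simp [ofFour, finProdFinEquiv]

theorem gamFacts (hF : (3 : F) = 0) : GamFacts F := by
  haveI hchar : CharP F 3 := (CharP.charP_iff_prime_eq_zero Nat.prime_three).2 (by exact_mod_cast hF)
  let φ : ZMod 3 →+* F := ZMod.castHom (dvd_refl 3) F
  obtain ⟨m1, m2, m3, m4, m5, m6, m7⟩ := gamFour_map φ
  let Φ := φ.mapMatrix (m := κ₂)
  have hΦ : ∀ M, Φ M = M.map φ := fun M => rfl
  obtain ⟨⟨a1, a2, a3⟩, ⟨b1, b2, b3⟩, c, d, d', o, ⟨r1, r2⟩⟩ := gamFacts_zmod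
  have tr : ∀ M : Matrix κ₂ κ₂ (ZMod 3), Φ Mᵀ = (Φ M)ᵀ := fun M => rfl
  haveI : Fact (Nat.Prime 3) := ⟨Nat.prime_three⟩
  have hinj : Function.Injective Φ := Matrix.map_injective φ.injective
  refine ⟨⟨?_, ?_, ?_⟩, ⟨?_, ?_, ?_⟩, fun k => ⟨?_, ?_⟩, fun k => ?_, fun k => ?_,
    fun k => ⟨fun e => (o k).1 (hinj ?_), fun e => (o k).2 (hinj ?_)⟩, fun e => r1 (hinj ?_), fun e => r2 (hinj ?_)⟩
  · simpa [hΦ, m3, m4] using congrArg Φ a1
  · simpa [hΦ, m3, m4] using congrArg Φ a2
  · simpa [hΦ, m1, m3, Matrix.transpose_map] using congrArg Φ a3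
  · simpa [hΦ, m5, m6] using congrArg Φ b1
  · simpa [hΦ, m5, m6] using congrArg Φ b2
  · simpa [hΦ, m1, m5, Matrix.transpose_map] using congrArg Φ b3
  · simpa [hΦ, m7] using congrArg Φ (c k).1
  · simpa [hΦ, m1, m7, Matrix.transpose_map] using congrArg Φ (c k).2
  · obtain ⟨l, e | e⟩ := d k
    · exact ⟨l, Or.inl (by simpa [hΦ, m3, m4, m7] using congrArg Φ e)⟩
    · refine ⟨l, Or.inr ?_⟩
      have h := congrArg Φ e
      rw [map_neg] at h
      simpa [hΦ, m3, m4, m7] using h
  · obtain ⟨l, e | e⟩ := d' k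
    · exact ⟨l, Or.inl (by simpa [hΦ, m3, m4, m7] using congrArg Φ e)⟩
    · refine ⟨l, Or.inr ?_⟩
      have h := congrArg Φ e
      rw [map_neg] at h
      simpa [hΦ, m3, m4, m7] using h
  · simpa [hΦ, m5, m6, m7] using e
  · rw [map_neg]; simpa [hΦ, m5, m6, m7] using e
  · simpa [hΦ, m2, m3] using e
  · rw [map_neg]; simpa [hΦ, m2, m3] using e

/-- A self-adjoint involution commuting with the root is one of the first three operators. -/
theorem gam_of_commute (h3 : (3 : F) = 0) (hF : ∀ x : F, x = 0 ∨ x = 1 ∨ x = -1) {M : Matrix κ₂ κ₂ F}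
    (hc : M * rootFour F = rootFour F * M) (hs : Mᵀ * gramFour F = gramFour F * M) (hsq : M * M = 1)
    (h1 : M ≠ 1) (h2 : M ≠ -1) : ∃ k : Fin 5, k.val < 3 ∧ (M = gamFour F k ∨ M = -gamFour F k) := by
  have two : (2 : F) ≠ 0 := fun e => one_ne_zero (show (1 : F) = 0 by linear_combination h3 - e)
  have ec : ∀ p q, (M * rootFour F) p q = (rootFour F * M) p q := fun p q => by rw [hc]
  have es : ∀ p q, (Mᵀ * gramFour F) p q = (gramFour F * M) p q := fun p q => by rw [hs]
  simp [Matrix.mul_apply, Fintype.sum_prod_type, Fin.sum_univ_two, rootFour, gramFour, ofFour, finProdFinEquiv,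
    Prod.forall, Fin.forall_fin_two] at ec es
  have k00 : M (0, 1) (0, 1) = M (0, 0) (0, 0) := by grind
  have k01 : M (0, 1) (1, 1) = M (0, 0) (1, 0) := by grind
  have k10 : M (1, 1) (0, 1) = M (1, 0) (0, 0) := by grind
  have k11 : M (1, 1) (1, 1) = M (1, 0) (1, 0) := by grind
  have l00 : M (0, 1) (0, 0) = -M (0, 0) (0, 1) := by grind
  have l01 : M (0, 1) (1, 0) = -M (0, 0) (1, 1) := by grind
  have l10 : M (1, 1) (0, 0) = -M (1, 0) (0, 1) := by grind
  have l11 : M (1, 1) (1, 0) = -M (1, 0) (1, 1) := by grind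
  have s1 : M (0, 0) (1, 0) = 0 := by grind
  have s2 : M (1, 0) (0, 0) = 0 := by grind
  have s3 : M (1, 0) (1, 0) = M (0, 0) (0, 0) := by grind
  have s4 : M (1, 0) (1, 1) = -M (0, 0) (0, 1) := by grind
  set a := M (0, 0) (0, 0)
  set x := M (0, 0) (0, 1)
  set y := M (0, 0) (1, 1)
  set z := M (1, 0) (0, 1)
  have eM : M = ofFour F !![a, x, 0, y; -x, a, -y, 0; 0, z, a, -x; -z, 0, x, a] := by
    ext ⟨i, b⟩ ⟨j, c⟩
    fin_cases i <;> fin_cases b <;> fin_cases j <;> fin_cases c <;>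
      simp [ofFour, finProdFinEquiv, k00, k01, k10, k11, l00, l01, l10, l11, s1, s2, s3, s4, a, x, y, z]
  have q1 : a * a - x * x - y * z = 1 := by
    have h := congrFun (congrFun hsq (0, 0)) (0, 0)
    rw [eM] at h
    simp [Matrix.mul_apply, Fintype.sum_prod_type, Fin.sum_univ_two, ofFour, finProdFinEquiv] at h
    linear_combination h
  have q2 : a * x = 0 := by
    have h := congrFun (congrFun hsq (0, 0)) (0, 1)
    rw [eM] at h
    simp [Matrix.mul_apply, Fintype.sum_prod_type, Fin.sum_univ_two, ofFour, finProdFinEquiv] at h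
    exact (mul_eq_zero.1 (show (2 : F) * (a * x) = 0 by linear_combination h)).resolve_left two
  have q3 : a * y = 0 := by
    have h := congrFun (congrFun hsq (0, 0)) (1, 1)
    rw [eM] at h
    simp [Matrix.mul_apply, Fintype.sum_prod_type, Fin.sum_univ_two, ofFour, finProdFinEquiv] at h
    exact (mul_eq_zero.1 (show (2 : F) * (a * y) = 0 by linear_combination h)).resolve_left two
  have q4 : a * z = 0 := by
    have h := congrFun (congrFun hsq (1, 0)) (0, 1)
    rw [eM] at h
    simp [Matrix.mul_apply, Fintype.sum_prod_type, Fin.sum_univ_two, ofFour, finProdFinEquiv] at h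
    exact (mul_eq_zero.1 (show (2 : F) * (a * z) = 0 by linear_combination h)).resolve_left two
  by_cases ha : a = 0
  · have hq : IsQuatUnit (!![x, y; z, -x] : Matrix (Fin 2) (Fin 2) F) := by
      refine quat_list h3 hF (by simp) ?_
      rw [Matrix.det_fin_two]; simp; rw [ha] at q1; linear_combination q1
    have hxyz : ∀ A : Matrix (Fin 2) (Fin 2) F, !![x, y; z, -x] = A → x = A 0 0 ∧ y = A 0 1 ∧ z = A 1 0 :=
      fun A e => by subst e; simp
    rcases hq with e | e | e | e | e | e <;> obtain ⟨ex, ey, ez⟩ := hxyz _ e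
    · exact ⟨0, by decide, Or.inl (by rw [eM, ex, ey, ez, ha]; simp [gamFour, alt2])⟩
    · exact ⟨0, by decide, Or.inr (by
        rw [eM, ex, ey, ez, ha]; ext ⟨i, b⟩ ⟨j, c⟩
        fin_cases i <;> fin_cases b <;> fin_cases j <;> fin_cases c <;>
          simp [gamFour, alt2, ofFour, finProdFinEquiv])⟩
    · exact ⟨1, by decide, Or.inl (by rw [eM, ex, ey, ez, ha]; simp [gamFour, quatJ])⟩
    · exact ⟨1, by decide, Or.inr (by
        rw [eM, ex, ey, ez, ha]; ext ⟨i, b⟩ ⟨j, c⟩
        fin_cases i <;> fin_cases b <;> fin_cases j <;> fin_cases c <;>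
          simp [gamFour, quatJ, ofFour, finProdFinEquiv])⟩
    · exact ⟨2, by decide, Or.inl (by rw [eM, ex, ey, ez, ha]; simp [gamFour, quatK])⟩
    · exact ⟨2, by decide, Or.inr (by
        rw [eM, ex, ey, ez, ha]; ext ⟨i, b⟩ ⟨j, c⟩
        fin_cases i <;> fin_cases b <;> fin_cases j <;> fin_cases c <;>
          simp [gamFour, quatK, ofFour, finProdFinEquiv])⟩
  · exfalso
    have hx := (mul_eq_zero.1 q2).resolve_left ha
    have hy := (mul_eq_zero.1 q3).resolve_left ha
    have hz := (mul_eq_zero.1 q4).resolve_left ha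
    have hone : ∀ c : F, ofFour F !![c, 0, 0, 0; 0, c, 0, 0; 0, 0, c, 0; 0, 0, 0, c] = c • (1 : Matrix κ₂ κ₂ F) := by
      intro c; ext ⟨i, b⟩ ⟨j, d⟩
      fin_cases i <;> fin_cases b <;> fin_cases j <;> fin_cases d <;> simp [ofFour, finProdFinEquiv]
    rw [hx, hy, hz, neg_zero, hone] at eM
    rcases hF a with e | e | e
    · exact ha e
    · exact h1 (by rw [eM, e, one_smul])
    · exact h2 (by rw [eM, e, neg_one_smul])

/-- An involution anticommuting with the root and the first three operators is one of the last two. -/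
theorem gam_of_anticommute (h3 : (3 : F) = 0) (hF : ∀ x : F, x = 0 ∨ x = 1 ∨ x = -1) {M : Matrix κ₂ κ₂ F}
    (hc : M * rootFour F = -(rootFour F * M)) (hg0 : M * gamFour F 0 = -(gamFour F 0 * M))
    (hg1 : M * gamFour F 1 = -(gamFour F 1 * M)) (hsq : M * M = 1) : IsGamFour F M := by
  have two : (2 : F) ≠ 0 := fun e => one_ne_zero (show (1 : F) = 0 by linear_combination h3 - e)
  have ec : ∀ p q, (M * rootFour F) p q = (-(rootFour F * M)) p q := fun p q => by rw [hc]
  have e0 : ∀ p q, (M * gamFour F 0) p q = (-(gamFour F 0 * M)) p q := fun p q => by rw [hg0]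
  have e1 : ∀ p q, (M * gamFour F 1) p q = (-(gamFour F 1 * M)) p q := fun p q => by rw [hg1]
  simp [Matrix.mul_apply, Fintype.sum_prod_type, Fin.sum_univ_two, rootFour, gamFour, ofFour, finProdFinEquiv,
    Prod.forall, Fin.forall_fin_two] at ec e0 e1
  have k00 : M (0, 1) (0, 1) = -M (0, 0) (0, 0) := by grind
  have k01 : M (0, 1) (1, 1) = -M (0, 0) (1, 0) := by grind
  have k10 : M (1, 1) (0, 1) = -M (1, 0) (0, 0) := by grind
  have k11 : M (1, 1) (1, 1) = -M (1, 0) (1, 0) := by grind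
  have l00 : M (0, 1) (0, 0) = M (0, 0) (0, 1) := by grind
  have l01 : M (0, 1) (1, 0) = M (0, 0) (1, 1) := by grind
  have l10 : M (1, 1) (0, 0) = M (1, 0) (0, 1) := by grind
  have l11 : M (1, 1) (1, 0) = M (1, 0) (1, 1) := by grind
  have s1 : M (0, 0) (1, 0) = 0 := by grind
  have s2 : M (1, 0) (0, 0) = 0 := by grind
  have t1 : M (0, 0) (1, 1) = 0 := by grind
  have t2 : M (1, 0) (0, 1) = 0 := by grind
  have s3 : M (1, 0) (1, 0) = M (0, 0) (0, 0) := by grind
  have s4 : M (1, 0) (1, 1) = M (0, 0) (0, 1) := by grind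
  set a := M (0, 0) (0, 0)
  set b := M (0, 0) (0, 1)
  have eM : M = ofFour F !![a, b, 0, 0; b, -a, 0, 0; 0, 0, a, b; 0, 0, b, -a] := by
    ext ⟨i, d⟩ ⟨j, c⟩
    fin_cases i <;> fin_cases d <;> fin_cases j <;> fin_cases c <;>
      simp [ofFour, finProdFinEquiv, k00, k01, k10, k11, l00, l01, l10, l11, s1, s2, s3, s4, t1, t2, a, b]
  have q1 : a * a + b * b = 1 := by
    have h := congrFun (congrFun hsq (0, 0)) (0, 0)
    rw [eM] at h
    simp [Matrix.mul_apply, Fintype.sum_prod_type, Fin.sum_univ_two, ofFour, finProdFinEquiv] at h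
    linear_combination h
  rcases hF a with ha | ha | ha <;> rcases hF b with hb | hb | hb <;> rw [ha, hb] at q1 eM
  all_goals first
    | (exfalso; exact one_ne_zero (show (1 : F) = 0 by linear_combination -q1))
    | (exfalso; exact one_ne_zero (show (1 : F) = 0 by linear_combination q1))
    | (refine ⟨4, Or.inl ?_⟩; rw [eM]; ext ⟨i, d⟩ ⟨j, c⟩
       fin_cases i <;> fin_cases d <;> fin_cases j <;> fin_cases c <;> simp [gamFour, ofFour, finProdFinEquiv]
       done)
    | (refine ⟨3, Or.inl ?_⟩; rw [eM]; ext ⟨i, d⟩ ⟨j, c⟩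
       fin_cases i <;> fin_cases d <;> fin_cases j <;> fin_cases c <;> simp [gamFour, ofFour, finProdFinEquiv]
       done)
    | (refine ⟨4, Or.inr ?_⟩; rw [eM]; ext ⟨i, d⟩ ⟨j, c⟩
       fin_cases i <;> fin_cases d <;> fin_cases j <;> fin_cases c <;> simp [gamFour, ofFour, finProdFinEquiv]
       done)
    | (refine ⟨3, Or.inr ?_⟩; rw [eM]; ext ⟨i, d⟩ ⟨j, c⟩
       fin_cases i <;> fin_cases d <;> fin_cases j <;> fin_cases c <;> simp [gamFour, ofFour, finProdFinEquiv]
       done)

/-- The operators commute or anticommute with the root. -/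
theorem gam_root (k : Fin 5) :
    (k.val < 3 → gamFour F k * rootFour F = rootFour F * gamFour F k ∧ gamFour F k ≠ 1 ∧ gamFour F k ≠ -1) ∧
      (3 ≤ k.val → gamFour F k * rootFour F = -(rootFour F * gamFour F k)) ∧
      ∀ l : Fin 5, k.val < 3 → 3 ≤ l.val → gamFour F l * gamFour F k = -(gamFour F k * gamFour F l) := by
  have hne : k.val < 3 → gamFour F k ≠ 1 ∧ gamFour F k ≠ -1 := fun hk => by
    constructor <;> intro e <;> have h := congrFun (congrFun e (0, 0)) (0, 0) <;>
      fin_cases k <;> simp [gamFour, ofFour, finProdFinEquiv] at h hk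
  refine ⟨fun hk => ⟨?_, hne hk⟩, fun hk => ?_, fun l hk hl => ?_⟩
  · fin_cases k <;> simp at hk ⊢ <;> ext ⟨i, a⟩ ⟨j, b⟩ <;>
      fin_cases i <;> fin_cases a <;> fin_cases j <;> fin_cases b <;>
      simp [gamFour, rootFour, ofFour, finProdFinEquiv, Matrix.mul_apply, Fintype.sum_prod_type, Fin.sum_univ_two]
  · fin_cases k <;> simp at hk ⊢ <;> ext ⟨i, a⟩ ⟨j, b⟩ <;>
      fin_cases i <;> fin_cases a <;> fin_cases j <;> fin_cases b <;>
      simp [gamFour, rootFour, ofFour, finProdFinEquiv, Matrix.mul_apply, Fintype.sum_prod_type, Fin.sum_univ_two]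
  · fin_cases k <;> simp at hk <;> fin_cases l <;> simp at hl <;> ext ⟨i, a⟩ ⟨j, b⟩ <;>
      fin_cases i <;> fin_cases a <;> fin_cases j <;> fin_cases b <;>
      simp [gamFour, rootFour, ofFour, finProdFinEquiv, Matrix.mul_apply, Fintype.sum_prod_type, Fin.sum_univ_two]

/-- The stabiliser of the ten signed operators. -/
def gamStab (F : Type u) [Field F] : Subgroup (GL κ₂ F) where
  carrier := {g | ∀ k, IsGamFour F ((g : Matrix κ₂ κ₂ F) * gamFour F k * (↑g⁻¹ : Matrix κ₂ κ₂ F)) ∧
    IsGamFour F ((↑g⁻¹ : Matrix κ₂ κ₂ F) * gamFour F k * (g : Matrix κ₂ κ₂ F))}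
  one_mem' := fun k => by
    simp only [inv_one, Units.val_one, one_mul, mul_one]
    exact ⟨⟨k, Or.inl rfl⟩, ⟨k, Or.inl rfl⟩⟩
  mul_mem' := by
    intro g h hg hh k
    constructor
    · obtain ⟨l, e | e⟩ := (hh k).1 <;> obtain ⟨j, e' | e'⟩ := (hg l).1
      all_goals
        refine ⟨j, ?_⟩
        have e1 : ((g * h : GL κ₂ F) : Matrix κ₂ κ₂ F) * gamFour F k * (↑(g * h)⁻¹ : Matrix κ₂ κ₂ F) =
            (g : Matrix κ₂ κ₂ F) * ((h : Matrix κ₂ κ₂ F) * gamFour F k * (↑h⁻¹ : Matrix κ₂ κ₂ F)) *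
              (↑g⁻¹ : Matrix κ₂ κ₂ F) := by simp only [mul_inv_rev, Units.val_mul, mul_assoc]
        rw [e1, e]
        first
          | (left; rw [e']; done)
          | (right; rw [e']; done)
          | (right; rw [Matrix.mul_neg, Matrix.neg_mul, e']; done)
          | (left; rw [Matrix.mul_neg, Matrix.neg_mul, e', neg_neg]; done)
    · obtain ⟨l, e | e⟩ := (hg k).2 <;> obtain ⟨j, e' | e'⟩ := (hh l).2
      all_goals
        refine ⟨j, ?_⟩
        have e1 : (↑(g * h)⁻¹ : Matrix κ₂ κ₂ F) * gamFour F k * ((g * h : GL κ₂ F) : Matrix κ₂ κ₂ F) =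
            (↑h⁻¹ : Matrix κ₂ κ₂ F) * ((↑g⁻¹ : Matrix κ₂ κ₂ F) * gamFour F k * (g : Matrix κ₂ κ₂ F)) *
              (h : Matrix κ₂ κ₂ F) := by simp only [mul_inv_rev, Units.val_mul, mul_assoc]
        rw [e1, e]
        first
          | (left; rw [e']; done)
          | (right; rw [e']; done)
          | (right; rw [Matrix.mul_neg, Matrix.neg_mul, e']; done)
          | (left; rw [Matrix.mul_neg, Matrix.neg_mul, e', neg_neg]; done)
  inv_mem' := fun {g} hg k => by rw [inv_inv]; exact ⟨(hg k).2, (hg k).1⟩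

/-- Conjugation by a matrix normalising the root keeps the commutation with it. -/
theorem conj_commute {J J' R A : Matrix κ₂ κ₂ F} (i1 : J' * J = 1) (i2 : J * J' = 1)
    (h : J * R = R * J ∨ J * R = -(R * J)) (hA : A * R = R * A) : J * A * J' * R = R * (J * A * J') := by
  rcases h with h | h
  · have h' : J' * R = R * J' := by
      calc J' * R = J' * (R * J) * J' := by simp only [mul_assoc, i2, mul_one]
        _ = _ := by rw [← h, ← mul_assoc, i1, one_mul]
    calc J * A * J' * R = J * (A * (J' * R)) := by simp only [mul_assoc]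
      _ = J * (R * A * J') := by rw [h', ← mul_assoc A, hA]
      _ = J * R * A * J' := by simp only [mul_assoc]
      _ = R * (J * A * J') := by rw [h]; simp only [mul_assoc]
  · have h0 : R * J = -(J * R) := by rw [h, neg_neg]
    have h' : J' * R = -(R * J') := by
      calc J' * R = J' * (R * J) * J' := by simp only [mul_assoc, i2, mul_one]
        _ = _ := by rw [h0, mul_neg, neg_mul, ← mul_assoc J', i1, one_mul]
    calc J * A * J' * R = J * (A * (J' * R)) := by simp only [mul_assoc]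
      _ = -(J * (R * A * J')) := by rw [h', mul_neg, ← mul_assoc A, hA, mul_neg]
      _ = -(J * R * A * J') := by simp only [mul_assoc]
      _ = R * (J * A * J') := by rw [h, neg_mul, neg_mul, neg_neg]; simp only [mul_assoc]

/-! ### The members of `Sp₄(3)` -/

variable [Fintype F]

/-- Coordinates adapted to the unitary field. -/
theorem field_four_coords (hF : Fintype.card F = 3) {K : Subalgebra F (Matrix I4 I4 F)}
    (hK : IsFieldSubalgebra 2 K) (hadj : IsAdjointClosedFor S4 K) (hns : ¬ IsSelfAdjointFor S4 K) :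
    ∃ (e : I4 ≃ κ₂) (P : GL I4 F),
      (coordJ (RingEquiv.refl F) e P (Jgl 2 F) : Matrix κ₂ κ₂ F) = gramFour F ∧
      (coordR e P).symm (rootFour F) ∈ K ∧
      ∀ g ∈ subalgebraNormalizer K ⊓ spGL 2 F,
        coordR e P (g : Matrix I4 I4 F) * rootFour F = rootFour F * coordR e P (g : Matrix I4 I4 F) ∨
        coordR e P (g : Matrix I4 I4 F) * rootFour F = -(rootFour F * coordR e P (g : Matrix I4 I4 F)) := by
  classical
  have h3 := three_eq_zero hF
  have two : (2 : F) ≠ 0 := fun e => one_ne_zero (show (1 : F) = 0 by linear_combination h3 - e)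
  have hf := sympForm_symplectic 2 F
  have hb := hf.bilinear
  obtain ⟨k₀, hk₀, hne⟩ : ∃ k ∈ K, ¬ ∀ u v, S4 (k *ᵥ u) v = S4 u (k *ᵥ v) := by
    by_contra hall; push Not at hall; exact hns hall
  obtain ⟨k₁, hk₁, hadj'⟩ := hadj k₀ hk₀
  set y := k₀ - k₁ with hy
  have hyK : y ∈ K := K.sub_mem hk₀ hk₁
  have hnegl : ∀ u v : I4 → F, S4 (-u) v = -S4 u v := fun u v => by
    rw [show -u = (-1 : F) • u by simp, hb.smul_left]; ring
  have hnegr : ∀ u v : I4 → F, S4 u (-v) = -S4 u v := fun u v => by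
    rw [show -v = (-1 : F) • v by simp, hb.smul_right]; ring
  have hsubl : ∀ u u' v : I4 → F, S4 (u - u') v = S4 u v - S4 u' v := fun u u' v => by
    rw [sub_eq_add_neg, hb.add_left, hnegl]; ring
  have hsubr : ∀ u v v' : I4 → F, S4 u (v - v') = S4 u v - S4 u v' := fun u v v' => by
    rw [sub_eq_add_neg, hb.add_right, hnegr]; ring
  have hskew : ∀ u v, S4 (y *ᵥ u) v = -S4 u (y *ᵥ v) := fun u v => by
    rw [hy, Matrix.sub_mulVec, Matrix.sub_mulVec, hsubl, hsubr, hadj', hf.skew (k₁ *ᵥ u) v]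
    simp only [← hadj']
    rw [hf.skew (k₀ *ᵥ v) u]
    ring
  have hy0 : y ≠ 0 := fun e => hne fun u v => by rw [hadj', ← sub_eq_zero.1 e]
  have hnd : ∀ w, (∀ u, S4 u w = 0) → w = 0 := fun w hw => by
    by_contra h0
    obtain ⟨⟨x, hx⟩, -⟩ := hf.nondegenerate w h0
    exact hx (hw x)
  have hyns : ∀ c : F, y ≠ c • 1 := fun c e => by
    apply hy0
    rw [e]
    have hc : c = 0 := by
      by_contra hc
      obtain ⟨v, hv⟩ := exists_ne (0 : I4 → F)
      obtain ⟨⟨x, hx⟩, -⟩ := hf.nondegenerate v hv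
      apply hx
      have h1 := hskew x v
      rw [e, Matrix.smul_mulVec, Matrix.one_mulVec, Matrix.smul_mulVec, Matrix.one_mulVec, hb.smul_left,
        hb.smul_right] at h1
      exact (mul_eq_zero.1 ((mul_eq_zero.1 (show (2 : F) * (c * S4 x v) = 0 by linear_combination h1)).resolve_left
        two)).resolve_left hc
    rw [hc, zero_smul]
  have hspan : ∀ k ∈ K, ∃ a b : F, k = a • 1 + b • y := by
    intro k hk
    have hli : LinearIndependent F ![(1 : K), ⟨y, hyK⟩] := by
      refine LinearIndependent.pair_iff.2 fun a b hab => ?_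
      have hab' : a • (1 : Matrix I4 I4 F) + b • y = 0 := congrArg Subtype.val hab
      by_cases hb0 : b = 0
      · refine ⟨?_, hb0⟩
        rw [hb0, zero_smul, add_zero] at hab'
        exact (smul_eq_zero.1 hab').resolve_right one_ne_zero
      · refine absurd ?_ (hyns (-(b⁻¹ * a)))
        rw [neg_smul, eq_neg_iff_add_eq_zero, ← smul_smul]
        have := congrArg (fun m => b⁻¹ • m) hab'
        rw [smul_add, smul_smul b⁻¹ b, inv_mul_cancel₀ hb0, one_smul, smul_zero] at this
        rw [add_comm]; exact this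
    have hm : (⟨k, hk⟩ : K) ∈ Submodule.span F (Set.range ![(1 : K), ⟨y, hyK⟩]) := by
      rw [hli.span_eq_top_of_card_eq_finrank (by simp [hK.finrank_eq])]
      exact Submodule.mem_top
    rw [Matrix.range_cons_cons_empty] at hm
    obtain ⟨a, b, hab⟩ := Submodule.mem_span_pair.1 hm
    exact ⟨a, b, (congrArg Subtype.val hab).symm⟩
  have hyy : y * y = -1 := by
    obtain ⟨a, b, hab⟩ := hspan _ (K.mul_mem hyK hyK)
    have hself : ∀ u v, S4 ((y * y) *ᵥ u) v = S4 u ((y * y) *ᵥ v) := fun u v => by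
      rw [← Matrix.mulVec_mulVec, ← Matrix.mulVec_mulVec, hskew, hskew, neg_neg]
    have hb0 : b • y = 0 := by
      refine Matrix.toLin'.injective (LinearMap.ext fun w => ?_)
      rw [map_zero, LinearMap.zero_apply, Matrix.toLin'_apply]
      refine hnd _ fun u => ?_
      have h1 := hself u w
      rw [hab] at h1
      simp only [Matrix.add_mulVec, Matrix.smul_mulVec, Matrix.one_mulVec, hb.add_left, hb.add_right, hb.smul_left,
        hb.smul_right, hskew] at h1
      rw [Matrix.smul_mulVec, hb.smul_right]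
      exact (mul_eq_zero.1 (show (2 : F) * (b * S4 u (y *ᵥ w)) = 0 by linear_combination -h1)).resolve_left two
    rw [hb0, add_zero] at hab
    obtain ⟨y', -, hy'⟩ := hK.inv y hyK hy0
    rcases eq_or_ne a 0 with rfl | ha
    · rw [zero_smul] at hab
      refine absurd ?_ hy0
      calc y = y * (y * y') := by rw [hy', mul_one]
        _ = 0 := by rw [← mul_assoc, hab, zero_mul]
    rcases pm_one_of_card_three hF ha with rfl | rfl
    · exfalso
      rw [one_smul] at hab
      by_cases h1 : y - 1 = 0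
      · exact hyns 1 (by rw [one_smul]; exact sub_eq_zero.1 h1)
      obtain ⟨w, -, hw⟩ := hK.inv _ (K.sub_mem hyK K.one_mem) h1
      have hp : (y + 1) * (y - 1) = 0 := by rw [add_mul, mul_sub, mul_one, one_mul, hab]; abel
      refine hyns (-1) ?_
      rw [neg_one_smul, eq_neg_iff_add_eq_zero]
      calc y + 1 = (y + 1) * ((y - 1) * w) := by rw [hw, mul_one]
        _ = 0 := by rw [← mul_assoc, hp, zero_mul]
    · rw [hab, neg_one_smul]
  -- an isotropic vector
  set Y : (I4 → F) → I4 → F := fun v => y *ᵥ v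
  have hYY : ∀ v, Y (Y v) = -v := fun v => by
    simp only [Y, Matrix.mulVec_mulVec, hyy, Matrix.neg_mulVec, Matrix.one_mulVec]
  have hY1 : ∀ u v, S4 (Y u) v = -S4 u (Y v) := hskew
  have hY2 : ∀ u v, S4 (Y u) (Y v) = S4 u v := fun u v => by rw [hY1, hYY, hnegr, neg_neg]
  have hYadd : ∀ u v, Y (u + v) = Y u + Y v := fun u v => Matrix.mulVec_add _ _ _
  have hYs : ∀ (c : F) v, Y (c • v) = c • Y v := fun c v => Matrix.mulVec_smul _ _ _
  have hsym : ∀ u v, S4 u (Y v) = S4 v (Y u) := fun u v => by rw [hf.skew u, hY1, neg_neg]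
  obtain ⟨a, ha0, hqa⟩ : ∃ a : I4 → F, a ≠ 0 ∧ S4 a (Y a) = 0 := by
    obtain ⟨v, hv⟩ := exists_ne (0 : I4 → F)
    by_cases hqv : S4 v (Y v) = 0
    · exact ⟨v, hv, hqv⟩
    let B : (I4 → F) → (I4 → F) →ₗ[F] F := fun u =>
      { toFun := S4 u, map_add' := hb.add_right u, map_smul' := fun c w => hb.smul_right c u w }
    obtain ⟨w, hw, hw0⟩ : ∃ w ∈ LinearMap.ker ((B v).prod ((B v).comp (Matrix.toLin' y))), w ≠ 0 := by
      refine (Submodule.ne_bot_iff _).1 fun e => ?_
      have h1 := ((B v).prod ((B v).comp (Matrix.toLin' y))).finrank_range_add_finrank_ker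
      have h2 := (LinearMap.range ((B v).prod ((B v).comp (Matrix.toLin' y)))).finrank_le
      rw [e, finrank_bot, Module.finrank_fintype_fun_eq_card] at h1
      simp at h1 h2
      omega
    rw [LinearMap.mem_ker] at hw
    have w1 : S4 v w = 0 := congrArg Prod.fst hw
    have w2 : S4 v (Y w) = 0 := congrArg Prod.snd hw
    by_cases hqw : S4 w (Y w) = 0
    · exact ⟨w, hw0, hqw⟩
    have hexp : S4 w (Y v) = 0 := by rw [hsym, w2]
    have hrel : S4 w (Y w) = S4 v (Y v) ∨ S4 w (Y w) = -S4 v (Y v) := by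
      rcases pm_one_of_card_three hF hqv with e | e <;> rcases pm_one_of_card_three hF hqw with e' | e' <;>
        simp [e, e']
    rcases hrel with e | e
    · refine ⟨v + Y v + w, fun h0 => hqv ?_, ?_⟩
      · have h1 := congrArg (S4 v) h0
        rw [hb.add_right, hb.add_right, hf.alternating, w1, zero_add, add_zero] at h1
        rw [h1]
        simpa using hb.smul_right 0 v v
      · simp only [hYadd, hb.add_left, hb.add_right, hYY, hnegr, hf.alternating, hY2, w1, w2, hexp, e, hY1,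
          hf.skew w v]
        linear_combination S4 v (Y v) * h3
    · refine ⟨v + w, fun h0 => hqw ?_, ?_⟩
      · rw [show v = -w from eq_neg_of_add_eq_zero_left h0] at e
        simp only [Y, Matrix.mulVec_neg, hnegl, hnegr, neg_neg] at e
        exact (mul_eq_zero.1 (show (2 : F) * S4 w (Y w) = 0 by linear_combination e)).resolve_left two
      · simp only [hYadd, hb.add_left, hb.add_right, w2, hexp, e]; ring
  obtain ⟨v₀, hv₀⟩ := (hf.nondegenerate a ha0).2
  obtain ⟨c₁, hc₁⟩ : ∃ c₁, S4 a c₁ = 1 :=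
    ⟨(S4 a v₀)⁻¹ • v₀, by rw [hb.smul_right, inv_mul_cancel₀ hv₀]⟩
  set t := S4 (Y a) c₁
  have ht : 1 + t * t ≠ 0 := by
    intro e
    rcases eq_or_ne t 0 with h | h
    · rw [h, mul_zero, add_zero] at e; exact one_ne_zero e
    · rw [sq_eq_one_of_card_three hF h] at e; exact two (by linear_combination e)
  set c₀ := (1 + t * t)⁻¹ • (c₁ - t • Y c₁)
  have hc₀ : S4 a c₀ = 1 := by
    have : S4 a (Y c₁) = -t := by simp only [t, hY1]; ring
    simp only [c₀, hb.smul_right, hsubr, hc₁, this]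
    rw [show (1 : F) - t * -t = 1 + t * t by ring, inv_mul_cancel₀ ht]
  have hc₀' : S4 (Y a) c₀ = 0 := by
    simp only [c₀, hb.smul_right, hsubr, hY2, hc₁]
    simp [t]
  set c := c₀ + S4 c₀ (Y c₀) • Y a
  have ec1 : S4 a c = 1 := by simp only [c, hb.add_right, hb.smul_right, hc₀, hqa]; ring
  have ec2 : S4 (Y a) c = 0 := by simp only [c, hb.add_right, hb.smul_right, hc₀', hf.alternating]; ring
  have ec3 : S4 c (Y c) = 0 := by
    simp only [c, hYadd, hYs, hYY, hb.add_left, hb.add_right, hb.smul_left, hb.smul_right, hnegr, hY2,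
      hf.skew c₀ a, hc₀, hY1 a a, hqa]
    linear_combination S4 c₀ (Y c₀) * h3
  let z : κ₂ → I4 → F := fun p => ![![a, -Y a], ![c, -Y c]] p.1 p.2
  have ec4 : S4 a (Y c) = 0 := by rw [← neg_eq_zero, ← hY1]; exact ec2
  have ec5 : S4 c (Y a) = 0 := by rw [hsym]; exact ec4
  have hz : ∀ p q, S4 (z p) (z q) = gramFour F p q := by
    rintro ⟨i, b⟩ ⟨j, d⟩
    fin_cases i <;> fin_cases b <;> fin_cases j <;> fin_cases d <;>
      simp [z, gramFour, ofFour, finProdFinEquiv, hnegl, hnegr, hY2, hf.alternating, hqa, ec1, ec2, ec3, ec4, ec5,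
        hf.skew c a, hf.skew (Y a) a, hf.skew (Y c) c, hf.skew (Y c) a, hf.skew c (Y a)]
  let e : I4 ≃ κ₂ := (finSumFinEquiv : Fin 2 ⊕ Fin 2 ≃ Fin 4).trans (finProdFinEquiv : Fin 2 × Fin 2 ≃ Fin 4).symm
  let P₀ : Matrix I4 I4 F := Matrix.of fun i j => z (e j) i
  have hcol : ∀ p, P₀ *ᵥ (Pi.single p (1 : F) ∘ e) = z p := fun p => by
    funext i
    rw [show (Pi.single p (1 : F) ∘ e) = Pi.single (e.symm p) 1 from funext fun j => by
      simp [Pi.single_apply, Equiv.eq_symm_apply]]
    simp [P₀]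
  have hPJ : (P₀ᵀ * (Jgl 2 F : Matrix I4 I4 F) * P₀).submatrix e.symm e.symm = gramFour F := by
    ext p q
    have h1 := formOfGram_single (RingEquiv.refl F) ((P₀ᵀ * (Jgl 2 F : Matrix I4 I4 F) * P₀).submatrix e.symm e.symm) p q
    rw [← h1, ← hz, (sympGeom 2 F).eq_gram, ← hcol, ← hcol, formOfGram_mulVec]
    simp only [formOfGram, Function.comp_apply, Matrix.submatrix_apply]
    rw [show P₀.map (RingEquiv.refl F) = P₀ from by ext; rfl]
    refine (Fintype.sum_equiv e _ _ fun i => Fintype.sum_equiv e _ _ fun j => ?_).symm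
    simp
  obtain ⟨P, hP⟩ : IsUnit P₀ := by
    rw [Matrix.isUnit_iff_isUnit_det, isUnit_iff_ne_zero]
    intro e0
    have h1 : (gramFour F).det = (1 : F) := by
      rw [← Matrix.det_submatrix_equiv_self finProdFinEquiv.symm]
      simp [gramFour, ofFour, Matrix.det_succ_row_zero, Fin.sum_univ_succ, Matrix.submatrix, Fin.succAbove]
    rw [← hPJ, Matrix.det_submatrix_equiv_self, Matrix.det_mul, e0, mul_zero] at h1
    exact zero_ne_one h1
  have hy' : coordR e P y = rootFour F := by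
    have hcolY : ∀ p, y *ᵥ z p = ∑ r, rootFour F r p • z r := by
      rintro ⟨i, b⟩
      fin_cases i <;> fin_cases b <;>
        simp [z, rootFour, ofFour, finProdFinEquiv, Fintype.sum_prod_type, Fin.sum_univ_two, Matrix.mulVec_neg,
          show y *ᵥ (Y a) = -a from hYY a, show y *ᵥ (Y c) = -c from hYY c, Y]
    refine Matrix.toLin'.injective ((Pi.basisFun F κ₂).ext fun p => ?_)
    rw [Pi.basisFun_apply, Matrix.toLin'_apply, Matrix.toLin'_apply]
    apply_fun (fun w => (P : Matrix I4 I4 F) *ᵥ (w ∘ e)) using fun w w' hww => by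
      have h1 := congrArg (fun u => (↑P⁻¹ : Matrix I4 I4 F) *ᵥ u) hww
      simp only [Matrix.mulVec_mulVec, Units.inv_mul, Matrix.one_mulVec] at h1
      exact funext fun k => by simpa using congrFun h1 (e.symm k)
    have h2 : (P : Matrix I4 I4 F) *ᵥ ((rootFour F *ᵥ Pi.single p 1) ∘ e) = ∑ r, rootFour F r p • z r := by
      rw [show rootFour F *ᵥ Pi.single p (1 : F) = ∑ r, rootFour F r p • Pi.single r (1 : F) from by
        funext s; simp [Matrix.mulVec_single_one, Finset.sum_apply, Pi.single_apply]]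
      simp only [← hcol, ← hP]
      rw [show ((∑ r, rootFour F r p • Pi.single r (1 : F)) ∘ e) = ∑ r, rootFour F r p • (Pi.single r (1 : F) ∘ e) from by
        funext i; simp [Finset.sum_apply], Matrix.mulVec_sum]
      simp only [Matrix.mulVec_smul]
    beta_reduce
    rw [h2, ← hcolY, ← hcol p, ← hP, coordR_apply, Matrix.submatrix_mulVec_equiv]
    simp only [Equiv.symm_symm, Function.comp_assoc, Equiv.symm_comp_self, Function.comp_id, Matrix.mulVec_mulVec]
    rw [mul_assoc, Units.mul_inv_cancel_left]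
  refine ⟨e, P, ?_, ?_, fun g hg => ?_⟩
  · rw [coordJ_val, show (P : Matrix I4 I4 F).map (RingEquiv.refl F) = (P : Matrix I4 I4 F) from by ext; rfl, hP, hPJ]
  · rw [← hy', AlgEquiv.symm_apply_apply]; exact hyK
  · obtain ⟨α, β, hab⟩ := hspan _ ((hg.1 y).1 hyK)
    set g' := (g : Matrix I4 I4 F)
    have hgy : g' * y = (α • 1 + β • y) * g' := by
      rw [← hab, mul_assoc, Units.inv_mul, mul_one]
    have hiso : ∀ u v, S4 (g' *ᵥ u) (g' *ᵥ v) = S4 u v := mem_spGL_iff.1 hg.2
    have hskew' : ∀ u v, S4 ((g' * y) *ᵥ u) (g' *ᵥ v) = -S4 (g' *ᵥ u) ((g' * y) *ᵥ v) := fun u v => by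
      rw [← Matrix.mulVec_mulVec, ← Matrix.mulVec_mulVec, hiso, hiso, hskew]
    have hα : α = 0 := by
      by_contra hα
      obtain ⟨v, hv⟩ := exists_ne (0 : I4 → F)
      obtain ⟨⟨x, hx⟩, -⟩ := hf.nondegenerate v hv
      apply hx
      have h1 := hskew' x v
      rw [hgy] at h1
      simp only [← Matrix.mulVec_mulVec, Matrix.add_mulVec, Matrix.smul_mulVec, Matrix.one_mulVec, hb.add_left,
        hb.add_right, hb.smul_left, hb.smul_right, hskew, hiso] at h1
      exact (mul_eq_zero.1 ((mul_eq_zero.1 (show (2 : F) * (α * S4 x v) = 0 by linear_combination h1)).resolve_left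
        two)).resolve_left hα
    rw [hα, zero_smul, zero_add] at hgy
    have hβ0 : β ≠ 0 := by
      intro hβ
      rw [hβ, zero_smul, zero_mul] at hgy
      exact hy0 (by rw [← one_mul y, ← Units.inv_mul g, mul_assoc, hgy, mul_zero])
    have h1 := congrArg (coordR e P) hgy
    rw [map_mul, map_mul, map_smul, hy'] at h1
    rcases pm_one_of_card_three hF hβ0 with rfl | rfl
    · left; rw [h1, one_smul]
    · right; rw [h1, neg_one_smul, neg_mul]

/-- The unitary field stabiliser in `Sp₄(3)` is not maximal. -/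
theorem field_four_not_maximal (hF : Fintype.card F = 3) {H : Subgroup (GL I4 F)}
    (hH : IsMaximalIn (spGL 2 F) H) {K : Subalgebra F (Matrix I4 I4 F)}
    (hK : IsFieldSubalgebra 2 K) (hadj : IsAdjointClosedFor S4 K) (hns : ¬ IsSelfAdjointFor S4 K) :
    H ≠ subalgebraNormalizer K ⊓ spGL 2 F := by
  classical
  intro heq
  have h3 := three_eq_zero hF
  have hF3 : ∀ x : F, x = 0 ∨ x = 1 ∨ x = -1 := fun x => by
    by_cases hx : x = 0
    · exact Or.inl hx
    · exact Or.inr (pm_one_of_card_three hF hx)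
  obtain ⟨⟨m1, m2, m3⟩, ⟨o1, o2, o3⟩, hsa, hmix, hmix', hout, ⟨hr1, hr2⟩⟩ := gamFacts h3
  obtain ⟨e, P, hJ, hroot, hcomm⟩ := field_four_coords hF hK hadj hns
  let f : GL κ₂ F ≃* GL I4 F := (glReindex e.symm).trans (MulAut.conj P)
  have hcoordf : ∀ k : GL κ₂ F, coordR e P ((f k : GL I4 F) : Matrix I4 I4 F) = (k : Matrix κ₂ κ₂ F) := by
    intro k
    rw [coordR_gl]
    refine congrArg Units.val (?_ : _ = k)
    show glReindex e (P⁻¹ * (P * glReindex e.symm k * P⁻¹) * P) = k
    rw [show P⁻¹ * (P * glReindex e.symm k * P⁻¹) * P = glReindex e.symm k by group]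
    refine Units.ext ?_
    ext i j
    simp [glReindex]
  have hiso : ∀ k : GL κ₂ F, (k : Matrix κ₂ κ₂ F)ᵀ * gramFour F * (k : Matrix κ₂ κ₂ F) = gramFour F →
      f k ∈ spGL 2 F := by
    intro k hk
    refine mem_spGL_iff.2 fun u v => ?_
    obtain ⟨x, rfl⟩ : ∃ x : κ₂ → F, (P : Matrix I4 I4 F) *ᵥ (x ∘ e) = u :=
      ⟨((↑P⁻¹ : Matrix I4 I4 F) *ᵥ u) ∘ e.symm, by simp [Function.comp_assoc, Matrix.mulVec_mulVec]⟩
    obtain ⟨y, rfl⟩ : ∃ y : κ₂ → F, (P : Matrix I4 I4 F) *ᵥ (y ∘ e) = v :=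
      ⟨((↑P⁻¹ : Matrix I4 I4 F) *ᵥ v) ∘ e.symm, by simp [Function.comp_assoc, Matrix.mulVec_mulVec]⟩
    rw [coordR_mulVec, coordR_mulVec, hcoordf, coord_form (sympGeom 2 F) e P, coord_form (sympGeom 2 F) e P, hJ,
      formOfGram_mulVec, show (k : Matrix κ₂ κ₂ F).map (RingEquiv.refl F) = k from by ext; rfl, hk]
  let X : Subgroup (GL I4 F) := (gamStab F).map f.toMonoidHom
  -- the normaliser permutes the operators
  have hle : H ≤ X := by
    rw [heq]
    intro g hg
    obtain ⟨k, rfl⟩ := f.surjective g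
    refine ⟨k, ?_, rfl⟩
    have key : ∀ k : GL κ₂ F, f k ∈ subalgebraNormalizer K ⊓ spGL 2 F → ∀ l : Fin 5,
        IsGamFour F ((k : Matrix κ₂ κ₂ F) * gamFour F l * (↑k⁻¹ : Matrix κ₂ κ₂ F)) := by
      intro k hk
      have hc : ∀ j : GL κ₂ F, f j ∈ subalgebraNormalizer K ⊓ spGL 2 F →
          ((j : Matrix κ₂ κ₂ F) * rootFour F = rootFour F * (j : Matrix κ₂ κ₂ F) ∨
            (j : Matrix κ₂ κ₂ F) * rootFour F = -(rootFour F * (j : Matrix κ₂ κ₂ F))) := fun j hj => by
        simpa only [hcoordf] using hcomm _ hj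
      have hiso' : ∀ j : GL κ₂ F, f j ∈ spGL 2 F →
          (j : Matrix κ₂ κ₂ F)ᵀ * gramFour F * (j : Matrix κ₂ κ₂ F) = gramFour F := fun j hj => by
        have h := coord_sim (RingEquiv.refl F) e P (Jgl 2 F) (f j) 1 (isSim_of_mem_spGL hj)
        rw [IsSim, one_smul, hcoordf, hJ] at h
        rwa [show (j : Matrix κ₂ κ₂ F).map (RingEquiv.refl F) = j from by ext; rfl] at h
      -- conjugates of the first three operators
      have first : ∀ j : GL κ₂ F, f j ∈ subalgebraNormalizer K ⊓ spGL 2 F → ∀ l : Fin 5, l.val < 3 →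
          ∃ i : Fin 5, i.val < 3 ∧ ((j : Matrix κ₂ κ₂ F) * gamFour F l * (↑j⁻¹ : Matrix κ₂ κ₂ F) = gamFour F i ∨
            (j : Matrix κ₂ κ₂ F) * gamFour F l * (↑j⁻¹ : Matrix κ₂ κ₂ F) = -gamFour F i) := by
        intro j hj l hl
        obtain ⟨⟨hlc, hl1, hl2⟩, -, -⟩ := And.intro ((gam_root (F := F) l).1 hl) (And.intro trivial trivial)
        set J' := (j : Matrix κ₂ κ₂ F)
        set J'' := (↑j⁻¹ : Matrix κ₂ κ₂ F)
        have i1 : J'' * J' = 1 := Units.inv_mul j
        have i2 : J' * J'' = 1 := Units.mul_inv j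
        refine gam_of_commute h3 hF3 ?_ ?_ ?_ ?_ ?_
        · exact conj_commute i1 i2 (hc j hj) hlc
        · have hj' := hiso' j hj.2
          have e1 : J'ᵀ * gramFour F = gramFour F * J'' := by
            calc J'ᵀ * gramFour F = J'ᵀ * gramFour F * J' * J'' := by rw [mul_assoc _ J', i2, mul_one]
              _ = _ := by rw [hj']
          have e2 : J''ᵀ * gramFour F = gramFour F * J' := by
            calc J''ᵀ * gramFour F = J''ᵀ * (J'ᵀ * gramFour F * J') := by rw [hj']
              _ = _ := by rw [← mul_assoc, ← mul_assoc, ← Matrix.transpose_mul, i2, Matrix.transpose_one, one_mul]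
          rw [Matrix.transpose_mul, Matrix.transpose_mul, mul_assoc, mul_assoc, e1, ← mul_assoc _ (gramFour F),
            (hsa l).2, ← mul_assoc, ← mul_assoc, e2, mul_assoc, mul_assoc, mul_assoc]
        · calc J' * gamFour F l * J'' * (J' * gamFour F l * J'') =
              J' * gamFour F l * (J'' * J') * gamFour F l * J'' := by simp only [mul_assoc]
            _ = 1 := by rw [i1, mul_one, mul_assoc J', (hsa l).1, mul_one, i2]
        · intro h; apply hl1
          calc gamFour F l = J'' * (J' * gamFour F l * J'') * J' := by simp [← mul_assoc, i1, mul_assoc _ J'' J']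
            _ = 1 := by rw [h, mul_one, i1]
        · intro h; apply hl2
          calc gamFour F l = J'' * (J' * gamFour F l * J'') * J' := by simp [← mul_assoc, i1, mul_assoc _ J'' J']
            _ = -1 := by rw [h, mul_neg_one, neg_mul, i1]
      intro l
      by_cases hl : l.val < 3
      · obtain ⟨i, -, hi⟩ := first k hk l hl
        exact ⟨i, hi⟩
      push Not at hl
      set K' := (k : Matrix κ₂ κ₂ F)
      set K'' := (↑k⁻¹ : Matrix κ₂ κ₂ F)
      have i1 : K'' * K' = 1 := Units.inv_mul k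
      have i2 : K' * K'' = 1 := Units.mul_inv k
      have anti : ∀ A B : Matrix κ₂ κ₂ F, A * B = -(B * A) →
          (K' * A * K'') * (K' * B * K'') = -((K' * B * K'') * (K' * A * K'')) := by
        intro A B hAB
        calc (K' * A * K'') * (K' * B * K'') = K' * A * (K'' * K') * B * K'' := by simp only [mul_assoc]
          _ = K' * (A * B) * K'' := by rw [i1, mul_one]; simp only [mul_assoc]
          _ = -(K' * (B * A) * K'') := by rw [hAB, mul_neg, neg_mul]
          _ = -(K' * B * (K'' * K') * A * K'') := by rw [i1, mul_one]; simp only [mul_assoc]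
          _ = _ := by simp only [mul_assoc]
      have hkey : ∀ i : Fin 5, i.val < 3 →
          (K' * gamFour F l * K'') * gamFour F i = -(gamFour F i * (K' * gamFour F l * K'')) := by
        intro i hi
        obtain ⟨r, hr, hre⟩ := first k⁻¹ (by rw [map_inv]; exact inv_mem hk) i hi
        rw [inv_inv] at hre
        have h1 := anti _ _ ((gam_root (F := F) r).2.2 l hr hl)
        rcases hre with hre | hre
        · rw [← hre, show K' * (K'' * gamFour F i * K') * K'' = gamFour F i by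
            simp [← mul_assoc, i2, mul_assoc _ K' K'']] at h1
          exact h1
        · rw [← neg_eq_iff_eq_neg.2 hre] at h1
          simp only [mul_neg, neg_mul, neg_inj] at h1
          rw [show K' * (K'' * gamFour F i * K') * K'' = gamFour F i by
            simp [← mul_assoc, i2, mul_assoc _ K' K'']] at h1
          exact h1
      refine gam_of_anticommute h3 hF3 ?_ (hkey 0 (by decide)) (hkey 1 (by decide)) ?_
      · have h1 := anti _ _ ((gam_root (F := F) l).2.1 hl)
        rcases hc k hk with h | h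
        · rw [show K' * rootFour F * K'' = rootFour F by rw [h, mul_assoc, i2, mul_one]] at h1
          exact h1
        · rw [show K' * rootFour F * K'' = -rootFour F by rw [h, neg_mul, mul_assoc, i2, mul_one]] at h1
          simp only [mul_neg, neg_mul, neg_inj] at h1
          exact h1
      · calc K' * gamFour F l * K'' * (K' * gamFour F l * K'') =
              K' * gamFour F l * (K'' * K') * gamFour F l * K'' := by simp only [mul_assoc]
            _ = 1 := by rw [i1, mul_one, mul_assoc K', (hsa l).1, mul_one, i2]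
    exact fun l => ⟨key k hg l, by simpa using key k⁻¹ (by rw [map_inv]; exact inv_mem hg) l⟩
  -- a further element, and properness
  let w : GL κ₂ F := ⟨mixFour F, mixFourInv F, m1, m2⟩
  let o : GL κ₂ F := ⟨outFour F, outFourInv F, o1, o2⟩
  have hX : ¬ spGL 2 F ≤ X := by
    intro hall
    obtain ⟨o', ho', he⟩ := hall (hiso o o3)
    obtain rfl := f.injective he
    obtain ⟨i, hi⟩ := (ho' 0).1
    exact hi.elim (hout i).1 (hout i).2
  have hwX : f w ∈ X ⊓ spGL 2 F := ⟨⟨w, fun l => ⟨hmix l, hmix' l⟩, rfl⟩, hiso w m3⟩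
  have hH' : H = X ⊓ spGL 2 F :=
    ((hH.2 _ (le_inf hle hH.1.le) inf_le_right).resolve_right fun e' => hX (inf_eq_right.1 e')).symm
  rw [← hH', heq] at hwX
  rcases hcomm _ hwX with h | h <;> rw [hcoordf] at h
  · exact hr1 h
  · exact hr2 h

end CfsgLib.AschbacherForm.Cases
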