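import Cfsg.Agent.Lib.AschbacherForm.Cases.SympProper
import Cfsg.Agent.Lib.AschbacherForm.Quad

/-!
The numerical side of the symplectic case lists, and the frames over the field of two elements.
-/

set_option autoImplicit false
set_option linter.unusedSectionVars false

namespace CfsgLib.AschbacherForm.Cases

open Cfsg Cfsg.Geo CfsgLib.Aschbacher
open scoped Matrix MatrixGroups

universe u
variable {F : Type u} [Field F] [Fintype F] {m : ℕ}

local notation "sf" => sympForm m F
local notation "I₂" => Fin m ⊕ Fin m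

theorem mul_eq_card {ι : Type} [Fintype ι] {t k : ℕ} {D : Fin t → Submodule F (ι → F)}
    (hD : IsMDecomposition k D) : t * k = Fintype.card ι := by
  classical
  have hint : DirectSum.IsInternal D :=
    (DirectSum.isInternal_submodule_iff_iSupIndep_and_iSup_eq_top D).2 ⟨hD.indep, hD.iSup_eq_top⟩
  have h := Module.finrank_eq_card_basis (hint.collectedBasis fun i => Module.finBasisOfFinrankEq F (D i) (hD.finrank_eq i))
  rw [Module.finrank_fintype_fun_eq_card, Fintype.card_sigma] at h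
  simpa using h.symm

/-- The members of a non-degenerate decomposition have even dimension. -/
theorem sp_decomp_even {t k : ℕ} {D : Fin t → Submodule F (I₂ → F)}
    (hD : IsNondegenerateMDecomposition sf k D) : t * k = 2 * m ∧ 2 ≤ t ∧ Even k := by
  classical
  have hd := hD.decomp
  refine ⟨by simpa [two_mul] using mul_eq_card hd, hd.two_le, ?_⟩
  let i : Fin t := ⟨0, by have := hd.two_le; omega⟩
  let b := Module.finBasisOfFinrankEq F (D i) (hd.finrank_eq i)
  have hf := sympForm_symplectic m F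
  let c : (Fin k → F) ≃ₗ[F] D i := b.equivFun.symm
  let f₁ : (Fin k → F) → (Fin k → F) → F := fun u v => sf (c u : I₂ → F) (c v : I₂ → F)
  have h : IsSymplecticForm f₁ := by
    refine ⟨⟨fun x y v => ?_, fun a x v => ?_, fun v x y => ?_, fun a v x => ?_⟩, fun v w => hf.skew _ _, fun v => hf.alternating _,
      fun v hv => ?_⟩
    · simp only [f₁, map_add, Submodule.coe_add, hf.bilinear.add_left]
    · simp only [f₁, map_smul, Submodule.coe_smul, hf.bilinear.smul_left]
    · simp only [f₁, map_add, Submodule.coe_add, hf.bilinear.add_right]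
    · simp only [f₁, map_smul, Submodule.coe_smul, hf.bilinear.smul_right]
    · have hv' : (c v : I₂ → F) ≠ 0 := fun e => hv (c.injective (by rw [map_zero]; exact Subtype.ext e))
      obtain ⟨⟨x, hx, hx1⟩, ⟨y, hy, hy1⟩⟩ := hD.nondegenerate i _ (c v).2 hv'
      obtain ⟨w, hw⟩ := c.surjective ⟨x, hx⟩
      obtain ⟨z, hz⟩ := c.surjective ⟨y, hy⟩
      exact ⟨⟨w, by simpa [f₁, hw] using hx1⟩, ⟨z, by simpa [f₁, hz] using hy1⟩⟩
  simpa using CfsgLib.Aschbacher.even_of_symplectic h

/-- A self-adjoint alternating extension field has degree dividing `m`. -/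
theorem sp_field_dvd {r : ℕ} {K : Subalgebra F (Matrix I₂ I₂ F)} (hK : IsFieldSubalgebra r K) (hm : 1 ≤ m)
    (hsa : IsSelfAdjointFor sf K) (halt : ∀ k ∈ K, ∀ v, sf (k *ᵥ v) v = 0) : r ∣ m := by
  classical
  haveI : Nonempty I₂ := ⟨Sum.inl ⟨0, hm⟩⟩
  have hf := sympForm_symplectic m F
  haveI : Finite (Submodule F (I₂ → F)) := Finite.of_injective (fun W => (W : Set (I₂ → F))) SetLike.coe_injective
  obtain ⟨W, ⟨hts, hinv⟩, hmax⟩ :=
    Set.Finite.exists_maximal (s := {W : Submodule F (I₂ → F) | (∀ u ∈ W, ∀ v ∈ W, sf u v = 0) ∧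
      ∀ k ∈ K, ∀ v ∈ W, k *ᵥ v ∈ W}) (Set.toFinite _) ⟨⊥, by simp [show
        sf (0 : I₂ → F) 0 = 0 from hf.alternating 0]⟩
  set B := CfsgLib.Geometry.sympBilin m F
  have hperp : B.orthogonal W ≤ W := by
    intro x hx
    have hxW : ∀ w ∈ W, sf w x = 0 := fun w hw => by
      rw [← CfsgLib.Geometry.sympBilin_apply]; exact hx w hw
    let L : K →ₗ[F] (I₂ → F) :=
      { toFun := fun k => (k : Matrix I₂ I₂ F) *ᵥ x
        map_add' := fun a b => Matrix.add_mulVec _ _ x
        map_smul' := fun c a => Matrix.smul_mulVec c _ x }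
    have h1 : ∀ k ∈ K, ∀ w ∈ W, sf (k *ᵥ x) w = 0 := fun k hk w hw => by
      rw [hf.skew, ← hsa k hk, hxW _ (hinv k hk w hw), neg_zero]
    have hle : W ⊔ LinearMap.range L ≤ W := hmax ⟨?_, ?_⟩ le_sup_left
    · exact hle (Submodule.mem_sup_right ⟨⟨1, K.one_mem⟩, Matrix.one_mulVec x⟩)
    · intro u hu v hv
      obtain ⟨w, hw, _, ⟨a, rfl⟩, rfl⟩ := Submodule.mem_sup.1 hu
      obtain ⟨w', hw', _, ⟨b, rfl⟩, rfl⟩ := Submodule.mem_sup.1 hv
      have h3 : sf ((a : Matrix I₂ I₂ F) *ᵥ x) ((b : Matrix I₂ I₂ F) *ᵥ x) = 0 := by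
        rw [← hsa _ b.2, Matrix.mulVec_mulVec]
        exact halt _ (K.mul_mem b.2 a.2) x
      show sf (w + (a : Matrix I₂ I₂ F) *ᵥ x) (w' + (b : Matrix I₂ I₂ F) *ᵥ x) = 0
      rw [hf.bilinear.add_left, hf.bilinear.add_right, hf.bilinear.add_right, hts w hw w' hw', h1 _ a.2 w' hw', h3,
        hf.skew w, h1 _ b.2 w hw]
      simp
    · intro k hk v hv
      obtain ⟨w, hw, _, ⟨a, rfl⟩, rfl⟩ := Submodule.mem_sup.1 hv
      rw [Matrix.mulVec_add]
      exact Submodule.add_mem_sup (hinv k hk w hw) ⟨⟨k * a, K.mul_mem hk a.2⟩, (Matrix.mulVec_mulVec x _ _).symm⟩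
  have heq : B.orthogonal W = W := le_antisymm hperp fun w hw v hv => by
    rw [CfsgLib.Geometry.sympBilin_apply]; exact hts v hv w hw
  have hd := LinearMap.BilinForm.finrank_orthogonal (CfsgLib.Geometry.sympBilin_nondegenerate m F) W
  rw [show LinearMap.BilinForm.orthogonal (CfsgLib.Geometry.sympBilin m F) W = W from heq,
    Module.finrank_fintype_fun_eq_card, Fintype.card_sum, Fintype.card_fin] at hd
  have hle := W.finrank_le
  rw [Module.finrank_fintype_fun_eq_card, Fintype.card_sum, Fintype.card_fin] at hle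
  have hdim : Module.finrank F W = m := by omega
  have hF : IsField K :=
    { exists_pair_ne := ⟨1, 0, fun h => one_ne_zero (congrArg Subtype.val h : (1 : Matrix I₂ I₂ F) = 0)⟩
      mul_comm := fun x y => Subtype.ext (hK.comm x x.2 y y.2)
      mul_inv_cancel := fun {a} ha => by
        obtain ⟨y, hy, e⟩ := hK.inv a a.2 (fun e => ha (Subtype.ext e))
        exact ⟨⟨y, hy⟩, Subtype.ext e⟩ }
  letI : Field K := hF.toField
  letI : Module K W :=
    { smul := fun k v => ⟨(k : Matrix I₂ I₂ F) *ᵥ v, hinv k k.2 v v.2⟩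
      one_smul := fun v => Subtype.ext (Matrix.one_mulVec (v : I₂ → F))
      mul_smul := fun a b v => Subtype.ext (Matrix.mulVec_mulVec (v : I₂ → F) (a : Matrix I₂ I₂ F) (b : Matrix I₂ I₂ F)).symm
      smul_zero := fun a => Subtype.ext (by exact Matrix.mulVec_zero (a : Matrix I₂ I₂ F))
      smul_add := fun a v w => Subtype.ext (Matrix.mulVec_add (a : Matrix I₂ I₂ F) (v : I₂ → F) (w : I₂ → F))
      add_smul := fun a b v => Subtype.ext (Matrix.add_mulVec (a : Matrix I₂ I₂ F) (b : Matrix I₂ I₂ F) (v : I₂ → F))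
      zero_smul := fun v => Subtype.ext (by exact Matrix.zero_mulVec (v : I₂ → F)) }
  haveI : IsScalarTower F K W := ⟨fun c k v => Subtype.ext (Matrix.smul_mulVec c (k : Matrix I₂ I₂ F) (v : I₂ → F))⟩
  have h := Module.finrank_mul_finrank F K W
  rw [hK.finrank_eq, hdim] at h
  exact Dvd.intro _ h

theorem tensor_dims {n₁ n₂ : ℕ} (e : I₂ ≃ Fin n₁ × Fin n₂) {f₁ : (Fin n₁ → F) → (Fin n₁ → F) → F}
    (hf₁ : IsSymplecticForm f₁) : n₁ * n₂ = 2 * m ∧ Even n₁ := by
  refine ⟨by simpa [two_mul] using (Fintype.card_congr e).symm, ?_⟩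
  simpa using CfsgLib.Aschbacher.even_of_symplectic hf₁

theorem eq_zero_or_one (h : Fintype.card F = 2) (c : F) : c = 0 ∨ c = 1 := by
  have h1 := FiniteField.pow_card c
  rw [h] at h1
  rcases eq_or_ne c 0 with h0 | h0
  · exact Or.inl h0
  · exact Or.inr (mul_left_cancel₀ h0 (by rw [← sq, h1, mul_one]))

open Classical in
/-- Over the field of two elements a frame of planes carries an invariant quadratic form. -/
theorem quad_of_frame (hF : Fintype.card F = 2) {t : ℕ} {D : Fin t → Submodule F (I₂ → F)}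
    (hD : IsNondegenerateMDecomposition sf 2 D) :
    ∃ Q : (I₂ → F) → F, IsNondegenerateQuadraticForm Q ∧ (∀ u v, QuadraticMap.polar Q u v = sf u v) ∧
      decompositionStabilizer D ≤ quadSimilarityGroup Q := by
  have hf := sympForm_symplectic m F
  have h2 : (2 : F) = 0 := finite_two_iff.2 (by rw [hF]; decide)
  have hint : DirectSum.IsInternal D :=
    (DirectSum.isInternal_submodule_iff_iSupIndep_and_iSup_eq_top D).2 ⟨hD.decomp.indep, hD.decomp.iSup_eq_top⟩
  let P : Fin t → (I₂ → F) →ₗ[F] (I₂ → F) := fun i =>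
    (D i).subtype ∘ₗ (D i).projectionOnto _ (decomp_isCompl hD.decomp i)
  have hPmem : ∀ i v, P i v ∈ D i := fun i v => Subtype.mem _
  have hPsum : ∀ v, ∑ i, P i v = v := by
    intro v
    have hv : v ∈ ⨆ i, D i := hD.decomp.iSup_eq_top ▸ Submodule.mem_top
    induction hv using Submodule.iSup_induction' with
    | mem i x hx =>
      rw [Finset.sum_eq_single i]
      · simp [P, Submodule.projectionOnto_apply_of_mem_left _ hx]
      · intro j _ hj
        have : x ∈ ⨆ (l) (_ : l ≠ j), D l := le_iSup₂_of_le (f := fun l (_ : l ≠ j) => D l) i hj.symm le_rfl hx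
        simp [P, Submodule.projectionOnto_apply_of_mem_right _ this]
      · simp
    | zero => simp
    | add x y _ _ hx hy => simp [map_add, Finset.sum_add_distrib, hx, hy]
  have hPuniq : ∀ (w : Fin t → I₂ → F), (∀ i, w i ∈ D i) → ∀ i, P i (∑ j, w j) = w i := by
    intro w hw i
    rw [map_sum, Finset.sum_eq_single i]
    · simp [P, Submodule.projectionOnto_apply_of_mem_left _ (hw i)]
    · intro j _ hj
      have : w j ∈ ⨆ (l) (_ : l ≠ i), D l := le_iSup₂_of_le (f := fun l (_ : l ≠ i) => D l) j hj le_rfl (hw j)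
      simp [P, Submodule.projectionOnto_apply_of_mem_right _ this]
    · simp
  let χ : (I₂ → F) → F := fun v => if v = 0 then 0 else 1
  let Q : (I₂ → F) → F := fun v => ∑ i, χ (P i v)
  have hχ : ∀ i, ∀ a ∈ D i, ∀ b ∈ D i, χ (a + b) - χ a - χ b = sf a b := by
    intro i a ha b hb
    simp only [χ]
    by_cases h0 : a = 0
    · subst h0
      rw [show sf (0 : I₂ → F) b = 0 by rw [← zero_smul F b, hf.bilinear.smul_left, zero_mul]]
      simp
    by_cases h1 : b = 0
    · subst h1
      rw [show sf a (0 : I₂ → F) = 0 by rw [← zero_smul F a, hf.bilinear.smul_right, zero_mul]]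
      simp [h0]
    by_cases hab : a = b
    · subst hab
      rw [hf.alternating, if_pos (by rw [← two_smul F a, h2, zero_smul]), if_neg h0]
      linear_combination -h2
    have hab' : a + b ≠ 0 := fun e => hab (by
      rw [eq_neg_of_add_eq_zero_left e]
      exact funext fun x => by simp only [Pi.neg_apply]; linear_combination -(b x) * h2)
    rw [if_neg hab', if_neg h0, if_neg h1, (eq_zero_or_one hF (sf a b)).resolve_left fun e => ?_]
    · linear_combination -h2
    obtain ⟨⟨x, hx, hne⟩, -⟩ := hD.nondegenerate i a ha h0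
    apply hne
    have hli : LinearIndependent F ![(⟨a, ha⟩ : D i), ⟨b, hb⟩] := by
      refine LinearIndependent.pair_iff.2 fun s s' hs => ?_
      have hs' := congrArg Subtype.val hs
      simp only [Submodule.coe_add, Submodule.coe_smul, Submodule.coe_zero] at hs'
      rcases eq_zero_or_one hF s with rfl | rfl <;> rcases eq_zero_or_one hF s' with rfl | rfl <;> simp_all
    have hsp : (⟨x, hx⟩ : D i) ∈ Submodule.span F (Set.range ![(⟨a, ha⟩ : D i), ⟨b, hb⟩]) := by
      rw [hli.span_eq_top_of_card_eq_finrank (by simp [hD.decomp.finrank_eq i])]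
      exact Submodule.mem_top
    rw [Matrix.range_cons_cons_empty] at hsp
    obtain ⟨s, s', hs⟩ := Submodule.mem_span_pair.1 hsp
    have hs' := congrArg Subtype.val hs
    simp only [Submodule.coe_add, Submodule.coe_smul] at hs'
    rw [← hs', hf.bilinear.add_left, hf.bilinear.smul_left, hf.bilinear.smul_left, hf.alternating, hf.skew b, e]
    simp
  have hpol : ∀ u v, QuadraticMap.polar Q u v = sf u v := by
    intro u v
    conv_rhs => rw [← hPsum u, ← hPsum v]
    simp only [← CfsgLib.Geometry.sympBilin_apply, map_sum, LinearMap.sum_apply]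
    simp only [CfsgLib.Geometry.sympBilin_apply]
    rw [QuadraticMap.polar]
    simp only [Q, map_add, ← Finset.sum_sub_distrib]
    refine Finset.sum_congr rfl fun i _ => ?_
    rw [Finset.sum_eq_single i, hχ i _ (hPmem i u) _ (hPmem i v)]
    · exact fun j _ hj => hD.orthogonal j i hj _ (hPmem j u) _ (hPmem i v)
    · simp
  refine ⟨Q, nondeg_quad_of_polar hf (fun c v => ?_) hpol, hpol, ?_⟩
  · rcases eq_zero_or_one hF c with rfl | rfl <;> simp [Q, χ]
  rintro g ⟨σ, hσ⟩
  refine ⟨1, fun v => ?_⟩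
  rw [Units.val_one, one_mul]
  have hg : (g : Matrix I₂ I₂ F) *ᵥ v = ∑ i, (g : Matrix I₂ I₂ F) *ᵥ P (σ⁻¹ i) v := by
    rw [Equiv.sum_comp (σ⁻¹ : Equiv.Perm (Fin t)) fun i => (g : Matrix I₂ I₂ F) *ᵥ P i v, ← Matrix.mulVec_sum, hPsum]
  have hmem : ∀ i, (g : Matrix I₂ I₂ F) *ᵥ P (σ⁻¹ i) v ∈ D i := fun i => by
    have h1 : (g : Matrix I₂ I₂ F) *ᵥ P (σ⁻¹ i) v ∈ (D (σ⁻¹ i)).map (Matrix.toLin' (g : Matrix I₂ I₂ F)) :=
      ⟨_, hPmem _ _, Matrix.toLin'_apply _ _⟩
    rwa [hσ, Equiv.Perm.coe_inv, Equiv.apply_symm_apply] at h1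
  show ∑ i, χ (P i ((g : Matrix I₂ I₂ F) *ᵥ v)) = ∑ i, χ (P i v)
  rw [← Equiv.sum_comp (σ⁻¹ : Equiv.Perm (Fin t)) fun i => χ (P i v)]
  refine Finset.sum_congr rfl fun i _ => ?_
  rw [hg, hPuniq _ hmem]
  simp only [χ]
  refine if_congr ⟨fun e => Matrix.mulVec_injective_of_isUnit g.isUnit (by simpa using e), fun e => ?_⟩ rfl rfl
  rw [e, Matrix.mulVec_zero]

end CfsgLib.AschbacherForm.Cases
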