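import Cfsg.Agent.Lib.AschbacherForm.Cases.SympTensorTools

/-!
`Sp₄(3)`: the stabiliser of a pair of Lagrangians stabilises an orthogonal pair of planes.
-/

set_option autoImplicit false
set_option linter.unusedSectionVars false

namespace CfsgLib.AschbacherForm.Cases

open Cfsg Cfsg.Geo CfsgLib.Aschbacher
open scoped Matrix MatrixGroups

universe u
variable {F : Type u} [Field F] [Fintype F]

local notation "S4" => sympForm 2 F
local notation "I4" => Fin 2 ⊕ Fin 2

/-- Over three elements a pair of Lagrangians gives way to a pair of planes. -/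
theorem planes_of_ts_three (hF : Fintype.card F = 3) {D : Fin 2 → Submodule F (I4 → F)}
    (hD : IsMDecomposition 2 D) (hts : ∀ i, IsTotallySingularFor S4 (D i)) :
    ∃ D' : Fin 2 → Submodule F (I4 → F), IsNondegenerateMDecomposition S4 2 D' ∧
      decompositionStabilizer D ⊓ spGL 2 F ≤ decompositionStabilizer D' := by
  classical
  have h3 := three_eq_zero hF
  have two : (2 : F) ≠ 0 := fun e => one_ne_zero (show (1 : F) = 0 by linear_combination h3 - e)
  have hf := sympForm_symplectic 2 F
  have hb := hf.bilinear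
  have zr : ∀ u, S4 u 0 = 0 := fun u => by simpa using hb.smul_right 0 u u
  have zl : ∀ u, S4 0 u = 0 := fun u => by simpa using hb.smul_left 0 u u
  have hnegr : ∀ u v : I4 → F, S4 u (-v) = -S4 u v := fun u v => by
    rw [show -v = (-1 : F) • v by simp, hb.smul_right]; ring
  -- bases
  let bU := Module.finBasisOfFinrankEq F (D 0) (hD.finrank_eq 0)
  let u : Fin 2 → I4 → F := fun i => (bU i : I4 → F)
  have hu : ∀ i, u i ∈ D 0 := fun i => (bU i).2
  have huspan : ∀ x ∈ D 0, ∃ a b : F, x = a • u 0 + b • u 1 := fun x hx =>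
    ⟨bU.repr ⟨x, hx⟩ 0, bU.repr ⟨x, hx⟩ 1, by
      have h := bU.sum_repr ⟨x, hx⟩
      rw [Fin.sum_univ_two] at h
      exact (congrArg Subtype.val h).symm⟩
  have hsup : ∀ x : I4 → F, ∃ a ∈ D 0, ∃ b ∈ D 1, a + b = x := fun x => Submodule.mem_sup.1 (by
    have h : (D 0 ⊔ D 1 : Submodule F (I4 → F)) = ⊤ := by
      rw [eq_top_iff, ← hD.iSup_eq_top]
      exact iSup_le fun i => by fin_cases i <;> simp
    rw [h]; exact Submodule.mem_top)
  let L : D 1 →ₗ[F] (Fin 2 → F) :=
    { toFun := fun w i => S4 (u i) (w : I4 → F)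
      map_add' := fun a b => funext fun i => hb.add_right _ _ _
      map_smul' := fun c a => funext fun i => hb.smul_right _ _ _ }
  have hinj : Function.Injective L := (injective_iff_map_eq_zero L).2 fun w hw => by
    by_contra hne
    obtain ⟨⟨x, hx⟩, -⟩ := hf.nondegenerate (w : I4 → F) fun e => hne (Subtype.ext e)
    obtain ⟨a, ha, b, hb', rfl⟩ := hsup x
    obtain ⟨α, β, rfl⟩ := huspan a ha
    apply hx
    rw [hb.add_left, hb.add_left, hb.smul_left, hb.smul_left, hts 1 b hb' _ w.2,
      show S4 (u 0) (w : I4 → F) = 0 from congrFun hw 0, show S4 (u 1) (w : I4 → F) = 0 from congrFun hw 1]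
    ring
  have hsurj : Function.Surjective L :=
    (LinearMap.injective_iff_surjective_of_finrank_eq_finrank
      (by simp [hD.finrank_eq])).1 hinj
  obtain ⟨⟨w₀, hw₀⟩, hL₀⟩ := hsurj ![1, 0]
  obtain ⟨⟨w₁, hw₁⟩, hL₁⟩ := hsurj ![0, 1]
  have a00 : S4 (u 0) w₀ = 1 := congrFun hL₀ 0
  have a10 : S4 (u 1) w₀ = 0 := congrFun hL₀ 1
  have a01 : S4 (u 0) w₁ = 0 := congrFun hL₁ 0
  have a11 : S4 (u 1) w₁ = 1 := congrFun hL₁ 1
  have uu : ∀ i j, S4 (u i) (u j) = 0 := fun i j => hts 0 _ (hu i) _ (hu j)
  have ww00 : S4 w₀ w₁ = 0 := hts 1 _ hw₀ _ hw₁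
  have ww11 : S4 w₁ w₀ = 0 := hts 1 _ hw₁ _ hw₀
  have hwspan : ∀ x ∈ D 1, x = S4 (u 0) x • w₀ + S4 (u 1) x • w₁ := fun x hx => by
    refine congrArg Subtype.val (hinj (a₁ := (⟨x, hx⟩ : D 1)) (a₂ := S4 (u 0) x • ⟨w₀, hw₀⟩ + S4 (u 1) x • ⟨w₁, hw₁⟩) ?_)
    rw [map_add, map_smul, map_smul, hL₀, hL₁]
    funext i
    fin_cases i <;> simp [L]
  -- the planes
  let p : F → Fin 2 → I4 → F := fun s => ![u 0 - s • w₁, u 1 + s • w₀]
  let E : F → Submodule F (I4 → F) := fun s => Submodule.span F {p s 0, p s 1}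
  let D' : Fin 2 → Submodule F (I4 → F) := ![E 1, E (-1)]
  have hgram : ∀ s t : F, S4 (p s 0) (p t 0) = 0 ∧ S4 (p s 1) (p t 1) = 0 ∧ S4 (p s 0) (p t 1) = s + t ∧
      S4 (p s 1) (p t 0) = -(s + t) := by
    intro s t
    have sl : ∀ x y v : I4 → F, S4 (x - y) v = S4 x v - S4 y v := fun x y v => by
      rw [hf.skew, sub_eq_add_neg x y, hb.add_right, hnegr, hf.skew v x, hf.skew v y]; ring
    have sr : ∀ x y v : I4 → F, S4 v (x - y) = S4 v x - S4 v y := fun x y v => by
      rw [sub_eq_add_neg x y, hb.add_right, hnegr]; ring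
    have e1 : ∀ i, S4 w₀ (u i) = -S4 (u i) w₀ := fun i => hf.skew _ _
    have e2 : ∀ i, S4 w₁ (u i) = -S4 (u i) w₁ := fun i => hf.skew _ _
    refine ⟨?_, ?_, ?_, ?_⟩ <;>
      simp [p, sl, sr, hb.add_left, hb.add_right, hb.smul_left, hb.smul_right, uu, e1, e2, a00, a01, a10, a11, ww00,
        ww11, hf.alternating] <;> ring
  have hmem : ∀ s x, x ∈ E s ↔ ∃ α β : F, α • p s 0 + β • p s 1 = x := fun s x => Submodule.mem_span_pair
  have hval : ∀ s t α β γ δ, S4 (α • p s 0 + β • p s 1) (γ • p t 0 + δ • p t 1) = (α * δ - β * γ) * (s + t) := by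
    intro s t α β γ δ
    obtain ⟨g1, g2, g3, g4⟩ := hgram s t
    simp only [hb.add_left, hb.add_right, hb.smul_left, hb.smul_right, g1, g2, g3, g4]
    ring
  have hnd : ∀ s : F, s + s ≠ 0 → IsNondegenerateOn S4 (E s) := by
    intro s hs x hx hx0
    obtain ⟨α, β, rfl⟩ := (hmem s x).1 hx
    have h0 : ∀ i, p s i ∈ E s := fun i => Submodule.subset_span (by fin_cases i <;> simp)
    have key : ∀ γ δ : F, (α * δ - β * γ) * (s + s) ≠ 0 →
        (∃ y ∈ E s, S4 y (α • p s 0 + β • p s 1) ≠ 0) ∧ ∃ y ∈ E s, S4 (α • p s 0 + β • p s 1) y ≠ 0 := fun γ δ h =>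
      ⟨⟨_, (hmem s _).2 ⟨γ, δ, rfl⟩, by rw [hval]; intro e; exact h (by linear_combination -e)⟩,
        ⟨_, (hmem s _).2 ⟨γ, δ, rfl⟩, by rw [hval]; exact h⟩⟩
    by_cases hα : α = 0
    · refine key 1 0 (mul_ne_zero (fun e => hx0 ?_) hs)
      rw [hα, show β = 0 by linear_combination -e, zero_smul, zero_smul, add_zero]
    · exact key 0 1 (mul_ne_zero (by simpa using hα) hs)
  have one2 : (1 : F) + 1 ≠ 0 := by rwa [one_add_one_eq_two]
  have none2 : (-1 : F) + -1 ≠ 0 := fun e => one2 (by linear_combination -e)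
  have hli : ∀ s, s + s ≠ 0 → LinearIndependent F ![p s 0, p s 1] := fun s hs =>
    LinearIndependent.pair_iff.2 fun α β h => by
      have h1 := hval s s α β 1 0
      have h2' := hval s s α β 0 1
      rw [h, zl] at h1 h2'
      constructor
      · exact (mul_eq_zero.1 (show α * (s + s) = 0 by linear_combination -h2')).resolve_right hs
      · exact (mul_eq_zero.1 (show β * (s + s) = 0 by linear_combination h1)).resolve_right hs
  have hdim : ∀ s, s + s ≠ 0 → Module.finrank F (E s) = 2 := fun s hs => by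
    have := finrank_span_eq_card (hli s hs)
    rwa [Matrix.range_cons_cons_empty, Fintype.card_fin] at this
  have horth : ∀ s t : F, s + t = 0 → AreOrthogonalFor S4 (E s) (E t) := by
    intro s t hst x hx y hy
    obtain ⟨α, β, rfl⟩ := (hmem s x).1 hx
    obtain ⟨γ, δ, rfl⟩ := (hmem t y).1 hy
    rw [hval, hst, mul_zero]
  have hdisj : Disjoint (E 1) (E (-1)) := Submodule.disjoint_def.2 fun x hx hx' => by
    by_contra hne
    obtain ⟨-, y, hy, hxy⟩ := hnd 1 one2 x hx hne
    exact hxy (by rw [hf.skew, horth 1 (-1) (add_neg_cancel 1) y hy x hx', neg_zero])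
  refine ⟨D', ⟨⟨le_rfl, two_pos, fun i => ?_, ?_, ?_⟩, fun i => ?_, fun i j hij => ?_⟩, ?_⟩
  · fin_cases i
    exacts [hdim 1 one2, hdim (-1) none2]
  · rw [iSupIndep_def]
    intro i
    fin_cases i
    · refine hdisj.mono_right (iSup₂_le fun j hj => ?_)
      fin_cases j
      · exact absurd rfl hj
      · exact le_rfl
    · refine hdisj.symm.mono_right (iSup₂_le fun j hj => ?_)
      fin_cases j
      · exact le_rfl
      · exact absurd rfl hj
  · refine Submodule.eq_top_of_finrank_eq (le_antisymm (Submodule.finrank_le _) ?_)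
    have h1 := Submodule.finrank_sup_add_finrank_inf_eq (E 1) (E (-1))
    rw [hdisj.eq_bot, finrank_bot, hdim 1 one2, hdim (-1) none2] at h1
    have h2 : E 1 ⊔ E (-1) ≤ iSup D' := sup_le (le_iSup D' 0) (le_iSup D' 1)
    have := Submodule.finrank_mono h2
    simp at h1 ⊢
    omega
  · fin_cases i
    exacts [hnd 1 one2, hnd (-1) none2]
  · fin_cases i <;> fin_cases j
    · exact absurd rfl hij
    · exact horth 1 (-1) (by simp)
    · exact horth (-1) 1 (by simp)
    · exact absurd rfl hij
  · rintro g ⟨⟨σ, hσ⟩, hg⟩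
    set T := Matrix.toLin' (g : Matrix I4 I4 F) with hT
    have hiso : ∀ x y, S4 (T x) (T y) = S4 x y := fun x y => by
      simp only [hT, Matrix.toLin'_apply]; exact mem_spGL_iff.1 hg x y
    have himg : ∀ i x, x ∈ D i → T x ∈ D (σ i) := fun i x hx => hσ i ▸ ⟨x, hx, rfl⟩
    have hTinj : Function.Injective T := fun x y h => by
      have := congrArg ((↑g⁻¹ : Matrix I4 I4 F) *ᵥ ·) h
      simpa [hT, Matrix.mulVec_mulVec] using this
    -- the images of the two planes
    obtain ⟨d, hd, himgE⟩ : ∃ d : F, (d = 1 ∨ d = -1) ∧ ∀ s : F, s * s = 1 → ∀ i, T (p s i) ∈ E (s * d) := by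
      have hswap : σ 0 = 0 ∨ σ 0 = 1 := by omega
      rcases hswap with h0 | h0
      · have h1 : σ 1 = 1 := by
          have : σ 1 ≠ 0 := fun e => absurd (σ.injective (e.trans h0.symm)) (by decide)
          omega
        obtain ⟨a, b, e0⟩ := huspan _ (h0 ▸ himg 0 _ (hu 0))
        obtain ⟨c, e, e1⟩ := huspan _ (h0 ▸ himg 0 _ (hu 1))
        have ew₀ := hwspan _ (h1 ▸ himg 1 _ hw₀)
        have ew₁ := hwspan _ (h1 ▸ himg 1 _ hw₁)
        set x₀ := S4 (u 0) (T w₀)
        set y₀ := S4 (u 1) (T w₀)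
        set x₁ := S4 (u 0) (T w₁)
        set y₁ := S4 (u 1) (T w₁)
        have r00 : a * x₀ + b * y₀ = 1 := by
          rw [← a00, ← hiso (u 0) w₀, e0, hb.add_left, hb.smul_left, hb.smul_left]
        have r10 : c * x₀ + e * y₀ = 0 := by
          rw [← a10, ← hiso (u 1) w₀, e1, hb.add_left, hb.smul_left, hb.smul_left]
        have r01 : a * x₁ + b * y₁ = 0 := by
          rw [← a01, ← hiso (u 0) w₁, e0, hb.add_left, hb.smul_left, hb.smul_left]
        have r11 : c * x₁ + e * y₁ = 1 := by
          rw [← a11, ← hiso (u 1) w₁, e1, hb.add_left, hb.smul_left, hb.smul_left]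
        have hd0 : a * e - b * c ≠ 0 := fun h0' => one_ne_zero (show (1 : F) = 0 by
          linear_combination (x₀ * y₁ - y₀ * x₁) * h0' - (c * x₁ + e * y₁) * r00 - r11 + (c * x₀ + e * y₀) * r01)
        have hd' := sq_eq_one_of_card_three hF hd0
        set d := a * e - b * c with hd_def
        have k1 : x₀ = e * d := by linear_combination (d * e) * r00 - (d * b) * r10 - x₀ * hd'
        have k2 : y₀ = -c * d := by linear_combination (d * a) * r10 - (d * c) * r00 - y₀ * hd'
        have k3 : x₁ = -b * d := by linear_combination (d * e) * r01 - (d * b) * r11 - x₁ * hd'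
        have k4 : y₁ = a * d := by linear_combination (d * a) * r11 - (d * c) * r01 - y₁ * hd'
        refine ⟨d, pm_one_of_card_three hF hd0, fun s hs i => (hmem _ _).2 ?_⟩
        fin_cases i
        · refine ⟨a, b, ?_⟩
          show a • p (s * d) 0 + b • p (s * d) 1 = T (u 0 - s • w₁)
          rw [map_sub, map_smul, e0, ew₁, k3, k4]
          simp only [p, Matrix.cons_val_zero, Matrix.cons_val_one]
          module
        · refine ⟨c, e, ?_⟩
          show c • p (s * d) 0 + e • p (s * d) 1 = T (u 1 + s • w₀)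
          rw [map_add, map_smul, e1, ew₀, k1, k2]
          simp only [p, Matrix.cons_val_zero, Matrix.cons_val_one]
          module
      · have h1 : σ 1 = 0 := by
          have : σ 1 ≠ 1 := fun e => absurd (σ.injective (e.trans h0.symm)) (by decide)
          omega
        have ex₀ := hwspan _ (h0 ▸ himg 0 _ (hu 0))
        have ex₁ := hwspan _ (h0 ▸ himg 0 _ (hu 1))
        obtain ⟨x₀, y₀, e0⟩ := huspan _ (h1 ▸ himg 1 _ hw₀)
        obtain ⟨x₁, y₁, e1⟩ := huspan _ (h1 ▸ himg 1 _ hw₁)
        set a := S4 (u 0) (T (u 0))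
        set b := S4 (u 1) (T (u 0))
        set c := S4 (u 0) (T (u 1))
        set e := S4 (u 1) (T (u 1))
        have r00 : -(a * x₀ + b * y₀) = 1 := by
          rw [← a00, ← hiso (u 0) w₀, hf.skew, e0, hb.add_left, hb.smul_left, hb.smul_left]; ring
        have r10 : -(c * x₀ + e * y₀) = 0 := by
          rw [← a10, ← hiso (u 1) w₀, hf.skew, e0, hb.add_left, hb.smul_left, hb.smul_left]; ring
        have r01 : -(a * x₁ + b * y₁) = 0 := by
          rw [← a01, ← hiso (u 0) w₁, hf.skew, e1, hb.add_left, hb.smul_left, hb.smul_left]; ring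
        have r11 : -(c * x₁ + e * y₁) = 1 := by
          rw [← a11, ← hiso (u 1) w₁, hf.skew, e1, hb.add_left, hb.smul_left, hb.smul_left]; ring
        have hd0 : a * e - b * c ≠ 0 := fun h0' => one_ne_zero (show (1 : F) = 0 by
          linear_combination (x₀ * y₁ - y₀ * x₁) * h0' + (c * x₁ + e * y₁) * r00 - r11 - (c * x₀ + e * y₀) * r01)
        have hd' := sq_eq_one_of_card_three hF hd0
        set d := a * e - b * c with hd_def
        have k1 : x₀ = -e * d := by linear_combination (d * e) * r00 * (-1) + (d * b) * r10 - x₀ * hd'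
        have k2 : y₀ = c * d := by linear_combination (d * c) * r00 - (d * a) * r10 - y₀ * hd'
        have k3 : x₁ = b * d := by linear_combination (d * b) * r11 - (d * e) * r01 - x₁ * hd'
        have k4 : y₁ = -a * d := by linear_combination -(d * a) * r11 + (d * c) * r01 - y₁ * hd'
        refine ⟨d, pm_one_of_card_three hF hd0, fun s hs i => (hmem _ _).2 ?_⟩
        fin_cases i
        · refine ⟨-(s * (b * d)), s * (a * d), ?_⟩
          show _ = T (u 0 - s • w₁)
          rw [map_sub, map_smul, ex₀, e1, k3, k4]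
          simp only [p, Matrix.cons_val_zero, Matrix.cons_val_one]
          match_scalars <;> first
            | ring1
            | linear_combination (a * d * d) * hs + a * hd'
            | linear_combination -(a * d * d) * hs - a * hd'
            | linear_combination (b * d * d) * hs + b * hd'
            | linear_combination -(b * d * d) * hs - b * hd'
        · refine ⟨-(s * (e * d)), s * (c * d), ?_⟩
          show _ = T (u 1 + s • w₀)
          rw [map_add, map_smul, ex₁, e0, k1, k2]
          simp only [p, Matrix.cons_val_zero, Matrix.cons_val_one]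
          match_scalars <;> first
            | ring1
            | linear_combination (c * d * d) * hs + c * hd'
            | linear_combination -(c * d * d) * hs - c * hd'
            | linear_combination (e * d * d) * hs + e * hd'
            | linear_combination -(e * d * d) * hs - e * hd'
    have hmapE : ∀ s, s * s = 1 → (E s).map T = E (s * d) := fun s hs' => by
      have hs : s + s ≠ 0 := fun e => one_ne_zero (show (1 : F) = 0 by linear_combination -hs' + h3 * (s * s) - s * e)
      refine Submodule.eq_of_le_of_finrank_eq ?_ ?_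
      · rw [Submodule.map_span_le]
        intro x hx
        rcases hx with rfl | rfl
        exacts [himgE s hs' 0, himgE s hs' 1]
      · rw [LinearEquiv.finrank_eq (Submodule.equivMapOfInjective T hTinj (E s)).symm, hdim s hs, hdim]
        rcases hd with rfl | rfl
        · simpa using hs
        · intro e; exact hs (by linear_combination -e)
    rcases hd with rfl | rfl
    · exact ⟨1, fun i => by fin_cases i <;> simp [D', ← hT, hmapE 1 (one_mul 1), hmapE (-1) (neg_mul_neg 1 1 |>.trans (one_mul 1))]⟩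
    · exact ⟨Equiv.swap 0 1, fun i => by fin_cases i <;> simp [D', ← hT, hmapE 1 (one_mul 1), hmapE (-1) (neg_mul_neg 1 1 |>.trans (one_mul 1))]⟩

end CfsgLib.AschbacherForm.Cases
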