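import Cfsg.Agent.Lib.AschbacherForm.Cases.SympTensorTools

/-!
`Sp₂ ⊗ O₄⁺` is `Sp₂ ⊗ Sp₂ ⊗ Sp₂`: similitudes of a hyperbolic quaternary form split.
-/

set_option autoImplicit false
set_option linter.unusedSectionVars false

namespace CfsgLib.AschbacherForm.Cases

open Cfsg Cfsg.Geo CfsgLib.Aschbacher
open scoped Matrix MatrixGroups Kronecker

universe u
variable {F : Type u} [Field F]

/-- The alternating matrix of degree two. -/
def alt2 : Matrix (Fin 2) (Fin 2) F := !![0, 1; -1, 0]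

theorem alt2_sim (A : Matrix (Fin 2) (Fin 2) F) : Aᵀ * alt2 * A = A.det • alt2 := by
  ext i j
  fin_cases i <;> fin_cases j <;>
    simp [alt2, Matrix.mul_apply, Fin.sum_univ_two, Matrix.det_fin_two] <;> ring

theorem alt2_unit : IsUnit (alt2 : Matrix (Fin 2) (Fin 2) F) := by
  rw [Matrix.isUnit_iff_isUnit_det, Matrix.det_fin_two]
  simp [alt2]

theorem alt2_transpose : (alt2 : Matrix (Fin 2) (Fin 2) F)ᵀ = -alt2 := by
  ext i j
  fin_cases i <;> fin_cases j <;> simp [alt2]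

theorem alt2_diag (i : Fin 2) : (alt2 : Matrix (Fin 2) (Fin 2) F) i i = 0 := by
  fin_cases i <;> simp [alt2]

/-- The hyperbolic matrix of degree four. -/
def hyp4 : Matrix (Fin 2 × Fin 2) (Fin 2 × Fin 2) F := Matrix.of fun p q => alt2 p.1 q.1 * alt2 p.2 q.2

theorem hyp4_eq : (hyp4 : Matrix (Fin 2 × Fin 2) (Fin 2 × Fin 2) F) =
    Matrix.kroneckerMap (fun x y : F => x * y) alt2 alt2 := by
  ext p q; rfl

/-- The hyperbolic pairing on pairs of indices. -/
def pairHy (u v : Fin 2 × Fin 2 → F) : F :=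
  u (0, 0) * v (1, 1) + u (1, 1) * v (0, 0) - u (0, 1) * v (1, 0) - u (1, 0) * v (0, 1)

theorem pairHy_cols (B : Matrix (Fin 2 × Fin 2) (Fin 2 × Fin 2) F) (p q : Fin 2 × Fin 2) :
    (Bᵀ * (hyp4 (F := F)) * B) p q = pairHy (fun r => B r p) (fun r => B r q) := by
  simp [Matrix.mul_apply, Fintype.sum_prod_type, Fin.sum_univ_two, alt2, hyp4, pairHy]
  ring

theorem pairHy_pure (a c a' c' : Fin 2 → F) :
    pairHy (fun r => a r.1 * c r.2) (fun r => a' r.1 * c' r.2) =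
      (a 0 * a' 1 - a 1 * a' 0) * (c 0 * c' 1 - c 1 * c' 0) := by
  simp only [pairHy]; ring

theorem exists_pure_of_singular (h2 : (2 : F) ≠ 0) {v : Fin 2 × Fin 2 → F} (h : pairHy v v = 0) :
    ∃ a c : Fin 2 → F, v = fun r => a r.1 * c r.2 := by
  have h' : v (0, 0) * v (1, 1) = v (0, 1) * v (1, 0) := by
    refine sub_eq_zero.1 ((mul_eq_zero.1 (show (2 : F) * _ = 0 from ?_)).resolve_left h2)
    rw [← h, pairHy]; ring
  by_cases h0 : v (0, 0) = 0
  · rcases mul_eq_zero.1 (h'.symm.trans (by rw [h0, zero_mul])) with h1 | h1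
    · refine ⟨![0, 1], ![v (1, 0), v (1, 1)], ?_⟩
      funext ⟨i, j⟩
      fin_cases i <;> fin_cases j <;> simp [h0, h1]
    · refine ⟨![v (0, 1), v (1, 1)], ![0, 1], ?_⟩
      funext ⟨i, j⟩
      fin_cases i <;> fin_cases j <;> simp [h0, h1]
  · refine ⟨![1, v (1, 0) / v (0, 0)], ![v (0, 0), v (0, 1)], ?_⟩
    funext ⟨i, j⟩
    fin_cases i <;> fin_cases j <;> simp <;> field_simp
    linear_combination h'

/-- The exchange of the two indices. -/
def pairSwap : Matrix (Fin 2 × Fin 2) (Fin 2 × Fin 2) F := Matrix.of fun p q => if q = p.swap then 1 else 0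

/-- Similitudes of the hyperbolic quaternary form are tensor products, possibly exchanged. -/
theorem sim_split (h2 : (2 : F) ≠ 0) {B : Matrix (Fin 2 × Fin 2) (Fin 2 × Fin 2) F} {b : F} (hb : b ≠ 0)
    (h : Bᵀ * (hyp4 (F := F)) * B = b • hyp4) :
    ∃ A₁ A₂ : GL (Fin 2) F,
      B = (A₁ : Matrix (Fin 2) (Fin 2) F) ⊗ₖ (A₂ : Matrix (Fin 2) (Fin 2) F) ∨
      B = ((A₁ : Matrix (Fin 2) (Fin 2) F) ⊗ₖ (A₂ : Matrix (Fin 2) (Fin 2) F)) * pairSwap := by
  have hcol : ∀ {M : Matrix (Fin 2 × Fin 2) (Fin 2 × Fin 2) F} {d : F},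
      Mᵀ * (hyp4 (F := F)) * M = d • hyp4 → ∀ p q : Fin 2 × Fin 2,
      pairHy (fun r => M r p) (fun r => M r q) = d * (alt2 p.1 q.1 * alt2 p.2 q.2) := fun hM p q => by
    rw [← pairHy_cols, hM]; rfl
  obtain ⟨a, c, hac⟩ := exists_pure_of_singular h2 (v := fun r => B r (0, 0)) (by rw [hcol h]; simp [alt2])
  obtain ⟨a', c', hac'⟩ := exists_pure_of_singular h2 (v := fun r => B r (1, 1)) (by rw [hcol h]; simp [alt2])
  have hpr : (a 0 * a' 1 - a 1 * a' 0) * (c 0 * c' 1 - c 1 * c' 0) = b := by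
    rw [← pairHy_pure, ← hac, ← hac', hcol h]
    simp [alt2]
  let M₁ : Matrix (Fin 2) (Fin 2) F := Matrix.of fun i j => ![a i, a' i] j
  let M₂ : Matrix (Fin 2) (Fin 2) F := Matrix.of fun i j => ![c i, c' i] j
  have hM : M₁.det * M₂.det = b := by
    rw [Matrix.det_fin_two, Matrix.det_fin_two, ← hpr]
    simp [M₁, M₂]
    ring
  obtain ⟨u₁, hu₁⟩ : IsUnit M₁ :=
    (Matrix.isUnit_iff_isUnit_det _).2 (isUnit_iff_ne_zero.2 fun e => hb (by rw [← hM, e, zero_mul]))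
  obtain ⟨u₂, hu₂⟩ : IsUnit M₂ :=
    (Matrix.isUnit_iff_isUnit_det _).2 (isUnit_iff_ne_zero.2 fun e => hb (by rw [← hM, e, mul_zero]))
  set C := ((↑u₁⁻¹ : Matrix (Fin 2) (Fin 2) F) ⊗ₖ (↑u₂⁻¹ : Matrix (Fin 2) (Fin 2) F)) * B with hC
  have hBC : B = (M₁ ⊗ₖ M₂) * C := by
    rw [hC, ← mul_assoc, ← Matrix.mul_kronecker_mul, ← hu₁, ← hu₂, Units.mul_inv, Units.mul_inv,
      Matrix.one_kronecker_one, one_mul]
  have hfix : ∀ r j, j = (0 : Fin 2) ∨ j = 1 → C r (j, j) = if r = (j, j) then 1 else 0 := by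
    intro r j hj
    have hB : (fun s => B s (j, j)) = fun s => (M₁ ⊗ₖ M₂) s (j, j) := by
      rcases hj with rfl | rfl
      · rw [hac]; funext s; simp [M₁, M₂]
      · rw [hac']; funext s; simp [M₁, M₂]
    have h1 : C r (j, j) =
        (((↑u₁⁻¹ : Matrix (Fin 2) (Fin 2) F) ⊗ₖ (↑u₂⁻¹ : Matrix (Fin 2) (Fin 2) F)) * (M₁ ⊗ₖ M₂)) r (j, j) := by
      rw [hC, Matrix.mul_apply, Matrix.mul_apply]
      exact Finset.sum_congr rfl fun s _ => by rw [congrFun hB s]
    rw [h1, ← Matrix.mul_kronecker_mul, ← hu₁, ← hu₂, Units.inv_mul, Units.inv_mul, Matrix.one_kronecker_one,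
      Matrix.one_apply]
  have hsimC : Cᵀ * (hyp4 (F := F)) * C = (1 : F) • hyp4 := by
    have e1 : Bᵀ * (hyp4 (F := F)) * B = Cᵀ * ((M₁ ⊗ₖ M₂)ᵀ * (hyp4 (F := F)) * (M₁ ⊗ₖ M₂)) * C := by
      rw [hBC, Matrix.transpose_mul]; simp only [mul_assoc]
    have e2 : (M₁ ⊗ₖ M₂)ᵀ * (hyp4 (F := F)) * (M₁ ⊗ₖ M₂) = b • hyp4 := by
      rw [hyp4_eq, ← Matrix.kroneckerMap_transpose, ← Matrix.mul_kronecker_mul, ← Matrix.mul_kronecker_mul, alt2_sim,
        alt2_sim, Matrix.smul_kronecker, Matrix.kronecker_smul, smul_smul, hM]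
    rw [e2, Matrix.mul_smul, Matrix.smul_mul, h] at e1
    rw [one_smul]
    exact (smul_right_injective _ hb e1).symm
  have g : ∀ p q : Fin 2 × Fin 2, pairHy (fun r => C r p) (fun r => C r q) = alt2 p.1 q.1 * alt2 p.2 q.2 :=
    fun p q => by rw [hcol hsimC, one_mul]
  have f0 : ∀ r, C r (0, 0) = if r = (0, 0) then 1 else 0 := fun r => hfix r 0 (Or.inl rfl)
  have f1 : ∀ r, C r (1, 1) = if r = (1, 1) then 1 else 0 := fun r => hfix r 1 (Or.inr rfl)
  have z1 : C (1, 1) (0, 1) = 0 := by simpa [pairHy, f0, alt2] using g (0, 0) (0, 1)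
  have z2 : C (0, 0) (0, 1) = 0 := by simpa [pairHy, f1, alt2] using g (1, 1) (0, 1)
  have z3 : C (1, 1) (1, 0) = 0 := by simpa [pairHy, f0, alt2] using g (0, 0) (1, 0)
  have z4 : C (0, 0) (1, 0) = 0 := by simpa [pairHy, f1, alt2] using g (1, 1) (1, 0)
  have s1 : C (0, 1) (0, 1) * C (1, 0) (0, 1) = 0 := by
    have := g (0, 1) (0, 1)
    simp [pairHy, z1, z2, alt2] at this
    exact (mul_eq_zero.1 (show (2 : F) * (C (0, 1) (0, 1) * C (1, 0) (0, 1)) = 0 by
      linear_combination -this)).resolve_left h2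
  have s2 : C (0, 1) (1, 0) * C (1, 0) (1, 0) = 0 := by
    have := g (1, 0) (1, 0)
    simp [pairHy, z3, z4, alt2] at this
    exact (mul_eq_zero.1 (show (2 : F) * (C (0, 1) (1, 0) * C (1, 0) (1, 0)) = 0 by
      linear_combination -this)).resolve_left h2
  have s3 : C (0, 1) (0, 1) * C (1, 0) (1, 0) + C (1, 0) (0, 1) * C (0, 1) (1, 0) = 1 := by
    have := g (0, 1) (1, 0)
    simp [pairHy, z1, z2, alt2] at this
    linear_combination -this
  have diag : ∀ x : F, x ≠ 0 → ∃ d : GL (Fin 2) F, (d : Matrix (Fin 2) (Fin 2) F) = !![1, 0; 0, x] := fun x hx => by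
    obtain ⟨d, hd⟩ : IsUnit (!![1, 0; 0, x] : Matrix (Fin 2) (Fin 2) F) := by
      rw [Matrix.isUnit_iff_isUnit_det, Matrix.det_fin_two]; simpa using hx
    exact ⟨d, hd⟩
  rcases mul_eq_zero.1 s1 with hx | hy
  · rw [hx, zero_mul, zero_add] at s3
    have hy0 := left_ne_zero_of_mul_eq_one s3
    have hc2 : C (1, 0) (1, 0) = 0 := (mul_eq_zero.1 s2).resolve_left (right_ne_zero_of_mul_eq_one s3)
    obtain ⟨d₁, hd₁⟩ := diag _ hy0
    obtain ⟨d₂, hd₂⟩ := diag _ (right_ne_zero_of_mul_eq_one s3)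
    refine ⟨u₁ * d₁, u₂ * d₂, Or.inr ?_⟩
    rw [hBC, Units.val_mul, Units.val_mul, Matrix.mul_kronecker_mul, hu₁, hu₂, mul_assoc]
    congr 1
    ext ⟨i, i'⟩ ⟨j, j'⟩
    fin_cases i <;> fin_cases i' <;> fin_cases j <;> fin_cases j' <;>
      simp [Matrix.mul_apply, Fintype.sum_prod_type, Fin.sum_univ_two, pairSwap, hd₁, hd₂, z1, z2, z3, z4, f0, f1, hx,
        hc2, s3]
  · rw [hy, zero_mul, add_zero] at s3
    have hx0 := left_ne_zero_of_mul_eq_one s3
    have hc2 : C (0, 1) (1, 0) = 0 := (mul_eq_zero.1 s2).resolve_right (right_ne_zero_of_mul_eq_one s3)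
    obtain ⟨d₁, hd₁⟩ := diag _ (right_ne_zero_of_mul_eq_one s3)
    obtain ⟨d₂, hd₂⟩ := diag _ hx0
    refine ⟨u₁ * d₁, u₂ * d₂, Or.inl ?_⟩
    rw [hBC, Units.val_mul, Units.val_mul, Matrix.mul_kronecker_mul, hu₁, hu₂]
    congr 1
    ext ⟨i, i'⟩ ⟨j, j'⟩
    fin_cases i <;> fin_cases i' <;> fin_cases j <;> fin_cases j' <;>
      simp [hd₁, hd₂, z1, z2, z3, z4, f0, f1, hy, hc2, mul_comm, s3]

variable [Fintype F]

/-- A hyperbolic basis of a quaternary space of plus type. -/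
theorem plus_basis (h2 : (2 : F) ≠ 0) {f : (Fin 4 → F) → (Fin 4 → F) → F} (hf : IsSymmetricForm f)
    (hp : IsPlusTypeOn (fun v => f v v) ⊤) :
    ∃ z : Fin 2 × Fin 2 → Fin 4 → F, ∀ p q, f (z p) (z q) = alt2 p.1 q.1 * alt2 p.2 q.2 := by
  classical
  obtain ⟨W, -, hW, hdim⟩ := hp
  rw [finrank_top, Module.finrank_fin_fun] at hdim
  let bW := Module.finBasisOfFinrankEq F W (show Module.finrank F W = 2 by omega)
  have hb := hf.bilinear
  have hWW : ∀ x ∈ W, ∀ y ∈ W, f x y = 0 := fun x hx y hy => by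
    have h1 := hW _ (W.add_mem hx hy)
    simp only [hb.add_left, hb.add_right, show f x x = 0 from hW x hx, show f y y = 0 from hW y hy, hf.symm y x] at h1
    exact (mul_eq_zero.1 (show (2 : F) * f x y = 0 by linear_combination h1)).resolve_left h2
  let B : LinearMap.BilinForm F (Fin 4 → F) := LinearMap.mk₂ F f hb.add_left hb.smul_left hb.add_right hb.smul_right
  let a : Fin 4 → F := (bW 0 : Fin 4 → F)
  let c : Fin 4 → F := (bW 1 : Fin 4 → F)
  let L : (Fin 4 → F) →ₗ[F] (Fin 2 → F) := LinearMap.pi fun i => B (bW i : Fin 4 → F)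
  have hsurj : Function.Surjective L := by
    rw [← LinearMap.range_eq_top]
    by_contra hne
    obtain ⟨φ, hφ, hmap⟩ := Submodule.exists_dual_map_eq_bot_of_lt_top (lt_top_iff_ne_top.2 hne) inferInstance
    apply hφ
    have hzero : ∀ v, φ (L v) = 0 := fun v => by
      have : φ (L v) ∈ Submodule.map φ (LinearMap.range L) := ⟨_, ⟨v, rfl⟩, rfl⟩
      rwa [hmap, Submodule.mem_bot] at this
    let w : Fin 4 → F := ∑ i, φ (Pi.single i 1) • (bW i : Fin 4 → F)
    have hw : w = 0 := by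
      by_contra hw0
      obtain ⟨-, ⟨y, hy⟩⟩ := hf.nondegenerate w hw0
      apply hy
      have h1 : φ (L y) = f w y := by
        rw [show f w y = B w y from rfl, show L y = ∑ i, L y i • Pi.single i 1 from (pi_eq_sum_univ' _)]
        simp only [w, map_sum, map_smul, LinearMap.sum_apply, LinearMap.smul_apply, smul_eq_mul]
        exact Finset.sum_congr rfl fun i _ => mul_comm _ _
      rw [← h1, hzero]
    have hcoef : ∀ i, φ (Pi.single i 1) = 0 := Fintype.linearIndependent_iff.1 bW.linearIndependent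
      (fun i => φ (Pi.single i 1)) (Subtype.ext (by simpa [w] using hw))
    refine (Pi.basisFun F (Fin 2)).ext fun i => ?_
    simpa using hcoef i
  obtain ⟨a₀, ha₀⟩ := hsurj ![1, 0]
  obtain ⟨c₀, hc₀⟩ := hsurj ![0, 1]
  have hL : ∀ v i, L v i = f (bW i : Fin 4 → F) v := fun v i => rfl
  have e1 : f a a₀ = 1 := (hL a₀ 0).symm.trans (by rw [ha₀]; rfl)
  have e2 : f c a₀ = 0 := (hL a₀ 1).symm.trans (by rw [ha₀]; rfl)
  have e3 : f a c₀ = 0 := (hL c₀ 0).symm.trans (by rw [hc₀]; rfl)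
  have e4 : f c c₀ = 1 := (hL c₀ 1).symm.trans (by rw [hc₀]; rfl)
  have w1 : f a a = 0 := hWW a (bW 0).2 a (bW 0).2
  have w2 : f c c = 0 := hWW c (bW 1).2 c (bW 1).2
  have w3 : f a c = 0 := hWW a (bW 0).2 c (bW 1).2
  have sl : ∀ (r : F) x y, f (x - r • y) = fun z => f x z - r * f y z := fun r x y => funext fun z => by
    rw [sub_eq_add_neg, ← neg_smul, hb.add_left, hb.smul_left]; ring
  have sr : ∀ (r : F) x y z, f z (x - r • y) = f z x - r * f z y := fun r x y z => by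
    rw [sub_eq_add_neg, ← neg_smul, hb.add_right, hb.smul_right]; ring
  set s := f a₀ a₀ / 2
  set t := f c₀ c₀ / 2
  set a₁ := a₀ - s • a
  have f1 : f a a₁ = 1 := by rw [sr, e1, w1]; ring
  have f2 : f c a₁ = 0 := by rw [sr, e2, hf.symm c a, w3]; ring
  have f0 : f a₀ a₁ = s := by rw [sr, hf.symm a₀ a, e1]; simp only [s]; field_simp; ring
  have f3 : f a₁ a₁ = 0 := by
    rw [show f a₁ a₁ = f a₀ a₁ - s * f a a₁ from congrFun (sl s a₀ a) a₁, f0, f1]; ring
  set c₁ := (c₀ - t • c) - f a₁ c₀ • a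
  have g1 : f a c₁ = 0 := by simp only [c₁, sr, e3, w3, w1]; ring
  have g2 : f c c₁ = 1 := by simp only [c₁, sr, e4, w2, hf.symm c a, w3]; ring
  have g3 : f a₁ c₁ = 0 := by simp only [c₁, sr, hf.symm a₁ c, f2, hf.symm a₁ a, f1]; ring
  have g4 : f c₁ c₁ = 0 := by
    have h1 : f c₀ c₁ = t := by
      simp only [c₁, sr, hf.symm c₀ c, e4, hf.symm c₀ a, e3]; simp only [t]; field_simp; ring
    rw [show f c₁ c₁ = f c₀ c₁ - t * f c c₁ - f a₁ c₀ * f a c₁ by simp only [c₁, sl], h1, g2, g1]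
    ring
  have hneg_r : ∀ x y, f x (-y) = -f x y := fun x y => by
    rw [show -y = (-1 : F) • y by simp, hb.smul_right]; ring
  have hneg_l : ∀ x y, f (-x) y = -f x y := fun x y => by
    rw [show -x = (-1 : F) • x by simp, hb.smul_left]; ring
  refine ⟨fun p => ![![a, c], ![-c₁, a₁]] p.1 p.2, ?_⟩
  rintro ⟨i, i'⟩ ⟨j, j'⟩
  fin_cases i <;> fin_cases i' <;> fin_cases j <;> fin_cases j' <;>
    simp [alt2, hneg_r, hneg_l, w1, w2, w3, hf.symm c a, f1, f2, f3, hf.symm a₁ a, hf.symm a₁ c, g1, g2, g3, g4,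
      hf.symm c₁ a, hf.symm c₁ c, hf.symm c₁ a₁]

/-- The bijection of `2 × 4` indices with triples. -/
def cubeEquiv : Fin 2 × Fin 4 ≃ (Fin 3 → Fin 2) :=
  ((Equiv.refl (Fin 2)).prodCongr finProdFinEquiv.symm).trans
    { toFun := fun p => ![p.1, p.2.1, p.2.2]
      invFun := fun x => (x 0, x 1, x 2)
      left_inv := fun p => rfl
      right_inv := fun x => by funext i; fin_cases i <;> rfl }

theorem cubeEquiv_symm (x : Fin 3 → Fin 2) :
    cubeEquiv.symm x = (x 0, finProdFinEquiv (x 1, x 2)) := rfl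

variable {m : ℕ}

local notation "sf" => sympForm m F
local notation "I₂" => Fin m ⊕ Fin m

/-- `Sp₂ ⊗ O₄⁺` lies in the stabiliser of a threefold tensor power. -/
theorem plus_le_wreath (hodd : Odd (Fintype.card F)) {e : I₂ ≃ Fin 2 × Fin 4} {P : GL I₂ F}
    {f₁ : (Fin 2 → F) → (Fin 2 → F) → F} {f₂ : (Fin 4 → F) → (Fin 4 → F) → F} (hf₁ : IsSymplecticForm f₁)
    (hf₂ : IsSymmetricForm f₂) (hp : IsPlusTypeOn (fun v => f₂ v v) ⊤)
    (hT : IsTensorFormStructure id sf f₁ f₂ e P) :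
    ∃ P' : GL I₂ F,
      IsTensorPowerFormStructure id sf (formOfGram (id : F → F) (alt2 : Matrix (Fin 2) (Fin 2) F)) (e.trans cubeEquiv) P' ∧
      tensorProductSubgroup 2 4 e P ⊓ spGL m F ≤ tensorWreathSubgroup 2 3 (e.trans cubeEquiv) P' := by
  classical
  have h2 : (2 : F) ≠ 0 := fun e => (finite_two_iff.1 e) hodd
  obtain ⟨z, hz⟩ := plus_basis h2 hf₂ hp
  set σ := RingEquiv.refl F
  have hid : ∀ {ν : Type} [Fintype ν] [DecidableEq ν] (M : Matrix ν ν F), M.map σ = M := fun M => by ext; rfl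
  let E : Fin 2 × Fin 2 ≃ Fin 4 := finProdFinEquiv
  let K : Matrix (Fin 4) (Fin 4) F := (hyp4 : Matrix (Fin 2 × Fin 2) (Fin 2 × Fin 2) F).submatrix E.symm E.symm
  let U₀ : Matrix (Fin 4) (Fin 4) F := Matrix.of fun i j => z (E.symm j) i
  have hcol : ∀ j, U₀ *ᵥ Pi.single j 1 = z (E.symm j) := fun j => by
    funext i; simp [U₀, Matrix.mulVec_single_one]
  have he₂ := bilinear_eq_gram hf₂.bilinear
  have hUK : U₀ᵀ * gramMatrix f₂ * U₀ = K := by
    ext i j
    rw [← formOfGram_single σ (U₀ᵀ * gramMatrix f₂ * U₀) i j]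
    have h1 := formOfGram_mulVec σ (gramMatrix f₂) U₀ (Pi.single i 1) (Pi.single j 1)
    rw [← he₂, hcol, hcol, hz, hid] at h1
    exact h1.symm
  obtain ⟨U, hU⟩ : IsUnit U₀ := by
    rw [Matrix.isUnit_iff_isUnit_det, isUnit_iff_ne_zero]
    intro e0
    obtain ⟨a, ha⟩ := alt2_unit (F := F)
    have h1 : IsUnit K := (Matrix.isUnit_submatrix_equiv _ _).2 (by rw [hyp4_eq, ← ha]; exact (kronGL_val a a ▸ (kronGL a a).isUnit :))
    refine ((Matrix.isUnit_iff_isUnit_det _).1 h1).ne_zero ?_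
    rw [← hUK, Matrix.det_mul, e0, mul_zero]
  let V : GL (Fin 2 × Fin 4) F := kronGL 1 U
  have hV : (V : Matrix (Fin 2 × Fin 4) (Fin 2 × Fin 4) F) = (1 : Matrix (Fin 2) (Fin 2) F) ⊗ₖ U₀ := by
    rw [← hU]; exact kronGL_val 1 U
  set P' := P * glReindex e.symm V with hP'
  refine ⟨P', ?_, ?_⟩
  · obtain ⟨c, hc, hT⟩ := hT
    set g := gramMatrix f₁ 0 1
    have hg1 : gramMatrix f₁ = g • alt2 := by
      ext i j
      fin_cases i <;> fin_cases j <;> simp [alt2, g, gramMatrix, hf₁.alternating, hf₁.skew (Pi.single 1 1) (Pi.single 0 1)]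
    have hg0 : g ≠ 0 := fun e0 => by
      have h1 := isUnit_of_nondeg σ (bilinear_eq_gram hf₁.bilinear ▸ hf₁.nondegenerate)
      rw [hg1, e0, zero_smul] at h1
      exact h1.ne_zero rfl
    have hmv : ∀ x : (Fin 3 → Fin 2) → F, (P' : Matrix I₂ I₂ F) *ᵥ (x ∘ e.trans cubeEquiv) =
        (P : Matrix I₂ I₂ F) *ᵥ (((V : Matrix (Fin 2 × Fin 4) (Fin 2 × Fin 4) F) *ᵥ (x ∘ cubeEquiv)) ∘ e) := fun x => by
      rw [hP', Units.val_mul, ← Matrix.mulVec_mulVec]
      congr 1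
      simp only [glReindex, Units.mapEquiv, MulEquiv.coe_mk, Equiv.coe_fn_mk]
      show (Matrix.reindex e.symm e.symm (V : Matrix (Fin 2 × Fin 4) (Fin 2 × Fin 4) F)) *ᵥ _ = _
      rw [Matrix.reindex_apply, Matrix.submatrix_mulVec_equiv]
      simp [Function.comp_assoc]
    refine ⟨c * g, mul_ne_zero hc hg0, fun x y => ?_⟩
    rw [hmv, hmv, hT]
    have h1 := formOfGram_mulVec σ (gramMatrix f₁ ⊗ₖ gramMatrix f₂)
      (V : Matrix (Fin 2 × Fin 4) (Fin 2 × Fin 4) F) (x ∘ cubeEquiv) (y ∘ cubeEquiv)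
    rw [hid] at h1
    rw [show formOfGram (id : F → F) = formOfGram (σ : F → F) from rfl, h1, hV, ← Matrix.kroneckerMap_transpose,
      Matrix.transpose_one, ← Matrix.mul_kronecker_mul, ← Matrix.mul_kronecker_mul, one_mul, mul_one, hUK, hg1,
      Matrix.smul_kronecker, formOfGram_smul, mul_assoc]
    congr 2
    simp only [formOfGram]
    refine Fintype.sum_equiv cubeEquiv _ _ fun a => Fintype.sum_equiv cubeEquiv _ _ fun b => ?_
    simp only [Function.comp_apply, Fin.prod_univ_three]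
    rw [Matrix.kronecker_apply]
    have hgr : ∀ i j, gramMatrix (formOfGram (id : F → F) (alt2 : Matrix (Fin 2) (Fin 2) F)) i j = alt2 i j :=
      fun i j => formOfGram_single σ alt2 i j
    simp only [hgr, K, E, Matrix.submatrix_apply, hyp4, Matrix.of_apply]
    simp [cubeEquiv, σ, mul_assoc]
    left; rfl
  · rintro g ⟨hg, hgS⟩
    obtain ⟨A, B, b, hb, hAB, hB, -⟩ := tensor_coord_data hf₁ hf₂ (by norm_num) (by norm_num) hT hg hgS
    let B' : Matrix (Fin 2 × Fin 2) (Fin 2 × Fin 2) F :=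
      ((↑U⁻¹ : Matrix (Fin 4) (Fin 4) F) * (B : Matrix (Fin 4) (Fin 4) F) * U₀).submatrix E E
    have hsim : B'ᵀ * (hyp4 (F := F)) * B' = b • hyp4 := by
      have hKE : (hyp4 : Matrix (Fin 2 × Fin 2) (Fin 2 × Fin 2) F) = K.submatrix E E := by
        simp [K, Matrix.submatrix_submatrix]
      have h1 : ((↑U⁻¹ : Matrix (Fin 4) (Fin 4) F) * (B : Matrix (Fin 4) (Fin 4) F) * U₀)ᵀ * K *
          ((↑U⁻¹ : Matrix (Fin 4) (Fin 4) F) * (B : Matrix (Fin 4) (Fin 4) F) * U₀) = b • K := by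
        conv_rhs => rw [← hUK, ← Matrix.smul_mul, ← Matrix.mul_smul, ← hB]
        rw [← hUK, ← hU]
        simp only [Matrix.transpose_mul, ← mul_assoc]
        simp only [mul_assoc, Units.mul_inv_cancel_left]
        rw [← mul_assoc ((↑U⁻¹ : Matrix (Fin 4) (Fin 4) F))ᵀ, ← Matrix.transpose_mul, Units.mul_inv,
          Matrix.transpose_one, one_mul]
      simp only [B', hKE, Matrix.transpose_submatrix, Matrix.submatrix_mul_equiv, h1]
      rfl
    obtain ⟨A₁, A₂, hsplit⟩ := sim_split h2 hb hsim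
    have hcoord : coordR (e.trans cubeEquiv) P' (g : Matrix I₂ I₂ F) =
        ((↑V⁻¹ : Matrix (Fin 2 × Fin 4) (Fin 2 × Fin 4) F) * coordR e P (g : Matrix I₂ I₂ F) *
          (V : Matrix (Fin 2 × Fin 4) (Fin 2 × Fin 4) F)).submatrix cubeEquiv.symm cubeEquiv.symm := by
      rw [coordR_gl, coordR_gl, ← Units.val_mul, ← Units.val_mul]
      have : glReindex (e.trans cubeEquiv) (P'⁻¹ * g * P') =
          glReindex cubeEquiv (V⁻¹ * glReindex e (P⁻¹ * g * P) * V) := by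
        rw [show glReindex (e.trans cubeEquiv) (P'⁻¹ * g * P') = glReindex cubeEquiv (glReindex e (P'⁻¹ * g * P')) from
          Units.ext (by simp [glReindex, Matrix.submatrix_submatrix]), hP']
        congr 1
        rw [show glReindex e.symm V = (glReindex e).symm V from rfl]
        simp [mul_assoc]
      rw [this]
      rfl
    have hfin : coordR (e.trans cubeEquiv) P' (g : Matrix I₂ I₂ F) =
        ((A : Matrix (Fin 2) (Fin 2) F) ⊗ₖ B'.submatrix E.symm E.symm).submatrix cubeEquiv.symm cubeEquiv.symm := by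
      rw [hcoord, hAB, show V⁻¹ = kronGL 1⁻¹ U⁻¹ from rfl, kronGL_val, hV, ← Matrix.mul_kronecker_mul,
        ← Matrix.mul_kronecker_mul, inv_one, Units.val_one, one_mul, mul_one]
      simp [B', Matrix.submatrix_submatrix]
    have hpure : ∀ (X Y : Matrix (Fin 2) (Fin 2) F), ((A : Matrix (Fin 2) (Fin 2) F) ⊗ₖ
        (X ⊗ₖ Y).submatrix E.symm E.symm).submatrix cubeEquiv.symm cubeEquiv.symm =
        pure' ![(A : Matrix (Fin 2) (Fin 2) F), X, Y] := fun X Y => by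
      ext x y
      simp [pure', Fin.prod_univ_three, cubeEquiv_symm, E, mul_assoc]
    have hperm : ((1 : Matrix (Fin 2) (Fin 2) F) ⊗ₖ (pairSwap : Matrix _ _ F).submatrix E.symm E.symm).submatrix
        cubeEquiv.symm cubeEquiv.symm =
        ((permGL (Equiv.swap 1 2) : GL (Fin 3 → Fin 2) F) : Matrix (Fin 3 → Fin 2) (Fin 3 → Fin 2) F) := by
      ext x y
      simp only [Matrix.submatrix_apply, cubeEquiv_symm, Matrix.kronecker_apply, E, Equiv.symm_apply_apply, pairSwap,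
        Matrix.of_apply, Matrix.one_apply, permGL, Prod.swap_prod_mk, Prod.mk.injEq, funext_iff, Function.comp_apply]
      rw [ite_mul, one_mul, zero_mul, ← ite_and]
      refine if_congr ?_ rfl rfl
      simp [Fin.forall_fin_succ, Equiv.swap_apply_def]
      tauto
    have hval : ∀ Z : GL (Fin 2) F, (pureGL ![A, A₁, Z] : GL (Fin 3 → Fin 2) F).val =
        pure' ![(A : Matrix (Fin 2) (Fin 2) F), (A₁ : Matrix (Fin 2) (Fin 2) F), (Z : Matrix (Fin 2) (Fin 2) F)] :=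
      fun Z => by
      show pure' _ = pure' _
      congr 1; funext i; fin_cases i <;> rfl
    have hmemP : (pureGL ![A, A₁, A₂] : GL (Fin 3 → Fin 2) F) ∈ tensorWreathStandard 2 3 F :=
      Subgroup.subset_closure (Or.inl ⟨![A, A₁, A₂], fun x y => rfl⟩)
    rcases hsplit with hs | hs
    · exact mem_of_coord _ P' (tensorWreathStandard 2 3 F) _ hmemP (by rw [hfin, hs, hpure, hval])
    · refine mem_of_coord _ P' (tensorWreathStandard 2 3 F) (pureGL ![A, A₁, A₂] * permGL (Equiv.swap 1 2))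
        (mul_mem hmemP (Subgroup.subset_closure (Or.inr ⟨Equiv.swap 1 2, fun x y => rfl⟩))) ?_
      rw [hfin, hs, Units.val_mul, hval, ← hperm, ← hpure, Matrix.submatrix_mul_equiv, ← Matrix.mul_kronecker_mul,
        mul_one, Matrix.submatrix_mul_equiv]

end CfsgLib.AschbacherForm.Cases
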