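import Cfsg.Agent.Lib.AschbacherForm.Cases.Proper
import Cfsg.Agent.Lib.AschbacherForm.SympMain
import Cfsg.Agent.Lib.Maximal.SpFull

/-!
The symplectic group lies in no member of the geometric classes.
-/

set_option autoImplicit false
set_option linter.unusedSectionVars false

namespace CfsgLib.AschbacherForm.Cases

open Cfsg Cfsg.Geo CfsgLib.Aschbacher
open CfsgLib.Maximal (tv tv_mulVec stv stv_mulVec stv_mem_spGL sf_exists sf_eval sf_alt sf_dot sf_add_right sf_smul_right)
open scoped Matrix MatrixGroups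

universe u
variable {F : Type u} [Field F] [Fintype F] {m : ℕ}

local notation "sf" => sympForm m F
local notation "I₂" => Fin m ⊕ Fin m

theorem rich_sp (hm : 1 ≤ m) : Rich (spGL m F) := by
  intro x hx
  haveI : Nonempty I₂ := ⟨Sum.inl ⟨0, hm⟩⟩
  refine scalar_of_eigen fun a => ?_
  by_cases ha : a = 0
  · exact ⟨0, by simp [ha]⟩
  obtain ⟨y, hy⟩ := sf_exists a ha
  have h1 := congrArg (· *ᵥ y) ((cj_eq_self_iff _ _).1 (hx _ _ _ (stv_mem_spGL 1 a)))
  change ((stv 1 a : Matrix I₂ I₂ F) * x) *ᵥ y = (x * (stv 1 a : Matrix I₂ I₂ F)) *ᵥ y at h1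
  rw [← Matrix.mulVec_mulVec, ← Matrix.mulVec_mulVec, stv_mulVec, stv_mulVec, Matrix.mulVec_add,
    Matrix.mulVec_smul, one_mul, one_mul] at h1
  have h2 := add_left_cancel h1
  have h3 : sf y a = -1 := by rw [CfsgLib.Maximal.sf_skew, hy]
  refine ⟨-sf (x *ᵥ y) a, ?_⟩
  rw [h3, neg_one_smul] at h2
  rw [neg_smul, h2, neg_neg]

theorem not_sp_le_subspace {W : Submodule F (I₂ → F)} (h0 : W ≠ ⊥) (h1 : W ≠ ⊤) :
    ¬ spGL m F ≤ subspaceStabilizer W := by
  intro h
  obtain ⟨w, hw, hw0⟩ := W.exists_mem_ne_zero_of_ne_bot h0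
  obtain ⟨z, -, hz⟩ := SetLike.exists_of_lt h1.lt_top
  obtain ⟨y, hy⟩ := sf_exists w hw0
  obtain ⟨v, hv, hwv⟩ : ∃ v, v ∉ W ∧ sf w v ≠ 0 := by
    by_cases h2 : y ∈ W
    · by_cases h3 : sf w z = 0
      · exact ⟨z + y, fun e => hz ((W.add_mem_iff_left h2).1 e), by rw [sf_add_right, h3, zero_add, hy]; exact one_ne_zero⟩
      · exact ⟨z, hz, h3⟩
    · exact ⟨y, h2, by rw [hy]; exact one_ne_zero⟩
  have h4 := ((CfsgLib.Maximal.mem_subspaceStabilizer_iff W _).1 (h (stv_mem_spGL 1 v)) w).1 hw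
  rw [stv_mulVec, one_mul, W.add_mem_iff_right hw, W.smul_mem_iff hwv] at h4
  exact hv h4

theorem not_sp_le_quad (hm : 2 ≤ m) {Q : (I₂ → F) → F} (h2 : (2 : F) = 0)
    (hQ : IsNondegenerateQuadraticForm Q) (hp : ∀ u v, QuadraticMap.polar Q u v = sf u v) :
    ¬ spGL m F ≤ quadSimilarityGroup Q := by
  intro h
  have hone : ∀ v, v ≠ 0 → Q v = 1 := by
    intro v hv
    obtain ⟨c, hc⟩ := h (stv_mem_spGL 1 v)
    have hQadd : ∀ x t, Q (x + t • v) = Q x + t ^ 2 * Q v + t * sf x v := fun x t => by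
      have e := hp x (t • v)
      rw [sf_smul_right, QuadraticMap.polar, hQ.smul] at e
      linear_combination e
    have heq : ∀ x, Q x + sf x v * sf x v * (Q v + 1) = (c : F) * Q x := fun x => by
      rw [← hc, stv_mulVec, one_mul, hQadd]
      ring
    by_cases hc1 : (c : F) = 1
    · obtain ⟨y, hy⟩ := sf_exists v hv
      have e := heq y
      rw [show sf y v = -1 by rw [CfsgLib.Maximal.sf_skew, hy], hc1, one_mul] at e
      linear_combination e - h2
    · exfalso
      have hzero : ∀ x, sf x v = 0 → Q x = 0 := fun x hx => by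
        have e := heq x
        rw [hx, mul_zero, zero_mul, add_zero] at e
        exact (mul_eq_zero.1 (show ((c : F) - 1) * Q x = 0 by linear_combination -e)).resolve_left
          (sub_ne_zero.2 hc1)
      obtain ⟨u, hu, hu0, huv⟩ : ∃ u, sf u v = 0 ∧ u ≠ 0 ∧ u ∉ Submodule.span F {v} := by
        let L : (I₂ → F) →ₗ[F] F := dotProductEquiv F I₂ (CfsgLib.Maximal.fvec sf v)
        have hker : ¬ LinearMap.ker L ≤ Submodule.span F {v} := fun hle => by
          have a1 := Submodule.finrank_mono hle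
          have a2 := L.finrank_range_add_finrank_ker
          have a3 := (LinearMap.range L).finrank_le
          rw [Module.finrank_self] at a3
          rw [finrank_span_singleton hv] at a1
          rw [Module.finrank_fintype_fun_eq_card, Fintype.card_sum, Fintype.card_fin] at a2
          omega
        obtain ⟨u, hu, huv⟩ := SetLike.not_le_iff_exists.1 hker
        exact ⟨u, by rw [← sf_dot v u]; exact hu, fun e => huv (e ▸ zero_mem _), huv⟩
      obtain ⟨b, hb, hub⟩ := sf_eval hv huv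
      have hbv : sf b v = 0 := by rw [CfsgLib.Maximal.sf_skew, hb, neg_zero]
      have e1 := hp u b
      rw [hub, QuadraticMap.polar, hzero u hu, hzero b hbv,
        hzero (u + b) (by rw [CfsgLib.Maximal.sf_add_left, hu, hbv, add_zero])] at e1
      simp at e1
  let v : I₂ → F := Pi.single (Sum.inl ⟨0, by omega⟩) 1
  let u : I₂ → F := Pi.single (Sum.inl ⟨1, by omega⟩) 1
  have huv : sf u v = 0 := by simp [u, v, sympForm, Matrix.J, dotProduct, Matrix.mulVec, Pi.single_apply]
  have hne : u + v ≠ 0 := fun e => by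
    have h3 := congrFun e (Sum.inl ⟨1, by omega⟩)
    simp [u, v, Pi.single_apply, Fin.ext_iff] at h3
  have e := hp u v
  rw [huv, QuadraticMap.polar, hone _ hne, hone u (by simp [u]), hone v (by simp [v])] at e
  exact one_ne_zero (show (1 : F) = 0 by linear_combination -e)

theorem not_sp_le_subfield (hm : 1 ≤ m) {F₀ : Subfield F} {r : ℕ} (hr : r.Prime)
    (hcard : Fintype.card F = Nat.card F₀ ^ r) (P : GL I₂ F) : ¬ spGL m F ≤ subfieldSubgroup F₀ P := by
  intro h
  obtain ⟨μ, hμ⟩ := CfsgLib.Maximal.exists_notMem_subfield hr hcard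
  let v : I₂ → F := Pi.single (Sum.inl ⟨0, hm⟩) 1
  have hv : v ≠ 0 := by simp [v]
  have hφ : CfsgLib.Maximal.fvec sf v ≠ 0 := fun e => by
    obtain ⟨y, hy⟩ := sf_exists v hv
    have := sf_dot v y
    rw [e, zero_dotProduct, CfsgLib.Maximal.sf_skew, hy] at this
    exact one_ne_zero (neg_eq_zero.1 this.symm)
  have h1 : stv 1 v ∈ subfieldSubgroup F₀ P := h (stv_mem_spGL 1 v)
  have h2 : stv μ v ∈ subfieldSubgroup F₀ P := h (stv_mem_spGL μ v)
  simp only [stv, one_smul] at h1 h2
  exact hμ (ratio_rational (by simp; omega) hv hφ h1 h2)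

/-- The members of the classes do not contain the symplectic group. -/
theorem sp_shape_not_le (hm : 2 ≤ m) (hm' : m ≤ 13) {X : Subgroup (GL I₂ F)}
    (hX : SympShape m F X) :
    ¬ spGL m F ≤ X := by
  have hn : 3 ≤ Fintype.card I₂ := by simp; omega
  have hR := rich_sp (F := F) (m := m) (by omega)
  have hf := sympForm_symplectic m F
  rcases hX with ⟨W, h0, h1, rfl⟩ | ⟨W, h0, h1, h2, rfl⟩ | ⟨t, k, D, h0, rfl⟩ | ⟨D, h0, h1, h2, rfl⟩ |
    ⟨F₀, r, P, ζ, h0, h1, h2, h3, rfl⟩ | ⟨R, p, k, a, b, c, d, e, g, h', i, j, rfl, hk, hcomm⟩ |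
    ⟨Q, h0, h1, h2, rfl⟩ | ⟨r, K, h0, h1, h2, h3, rfl⟩ | ⟨K, h0, h1, h2, h3, rfl⟩ |
    ⟨n₁, n₂, e, P, f₁, f₂, h0, h1, h2, h3, h4, rfl⟩ | ⟨k, t, e, P, f₁, h0, h1, h2, h3, h4, h5, rfl⟩
  · refine not_sp_le_subspace h0 fun e => ?_
    subst e
    obtain ⟨y, hy⟩ := sf_exists (m := m) (F := F) (Pi.single (Sum.inl ⟨0, by omega⟩) 1) (by simp)
    exact one_ne_zero (hy ▸ h1 _ Submodule.mem_top _ Submodule.mem_top)
  · refine not_sp_le_subspace h0 fun e => ?_
    subst e
    rw [finrank_top, Module.finrank_fintype_fun_eq_card] at h2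
    simp at h2
  · refine not_le_decomposition hR ?_ h0.decomp
    by_contra hk
    obtain rfl : k = 1 := by have := h0.decomp.pos; omega
    have hfr := h0.decomp.finrank_eq ⟨0, by have := h0.decomp.two_le; omega⟩
    obtain ⟨w, hw, hspan⟩ := finrank_eq_one_iff'.1 hfr
    have hw' : (w : I₂ → F) ≠ 0 := fun e => hw (Subtype.ext e)
    obtain ⟨⟨x, hx, hne⟩, -⟩ := h0.nondegenerate _ _ w.2 hw'
    obtain ⟨c, hc⟩ := hspan ⟨x, hx⟩
    apply hne
    rw [show x = c • (w : I₂ → F) from congrArg Subtype.val hc.symm, hf.bilinear.smul_left, hf.alternating, mul_zero]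
  · exact not_le_decomposition hR hm h1
  · exact not_sp_le_subfield (by omega) h0 h1 P
  · have h2' : (2 : F) ≠ 0 := fun e2 => by
      rw [finite_two_iff] at e2
      exact e2 (g ▸ e)
    haveI : Nonempty I₂ := Fintype.card_pos_iff.1 (by omega)
    refine not_le_normalizer hR hn b hcomm (Or.inr ⟨h2', sq_scalar b hcomm fun x hx => ?_⟩)
    have h4 := Monoid.pow_exponent_eq_one (⟨x, hx⟩ : R)
    rw [a.exponent_eq] at h4
    simpa using congrArg Subtype.val h4
  · exact not_sp_le_quad hm (finite_two_iff.2 h0) h1 h2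
  · exact not_le_field hR hn h0.two_le h1
  · exact not_le_field hR hn le_rfl h1
  · refine not_le_tensor hR ?_ h1
    rcases n₁ with _ | _ | n₁
    · exact (e (Sum.inl ⟨0, by omega⟩)).1.elim0
    · exfalso
      obtain ⟨⟨w, hw⟩, -⟩ := h2.nondegenerate (fun _ => 1) fun e => one_ne_zero (congrFun e 0)
      refine hw ?_
      rw [show w = w 0 • (fun _ => (1 : F)) from funext fun i => by fin_cases i; simp, h2.bilinear.smul_left,
        h2.alternating, mul_zero]
    · omega
  · have hcard : 2 * m = k ^ t := by simpa [two_mul] using Fintype.card_congr e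
    have hk2 : k = 2 := by
      rcases k with _ | _ | _ | k
      · rw [zero_pow (by omega)] at hcard; omega
      · rw [zero_add, one_pow] at hcard; omega
      · rfl
      · have h27 : 3 ^ 3 ≤ (k + 1 + 1 + 1) ^ t :=
          le_trans (Nat.pow_le_pow_left (by omega) 3) (Nat.pow_le_pow_right (by omega) h2)
        omega
    subst hk2
    have h8 : 2 ^ 3 ≤ 2 ^ t := Nat.pow_le_pow_right (by norm_num) h2
    refine not_le_wreath hR le_rfl (by omega) (by simp; omega) (by simp; omega)
      (A := Matrix.single 1 0 1) (C := Matrix.single 0 1 1) ?_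
    rw [Matrix.isUnit_iff_isUnit_det, Matrix.det_fin_two]
    simp

/-- A maximal subgroup is the intersection with any shape containing it. -/
theorem sp_eq_inf {H X : Subgroup (GL I₂ F)} (hH : IsMaximalIn (spGL m F) H) (hle : H ≤ X)
    (hX : ¬ spGL m F ≤ X) : H = X ⊓ spGL m F :=
  ((hH.2 _ (le_inf hle hH.1.le) inf_le_right).resolve_right fun e => hX (inf_eq_right.1 e)).symm

end CfsgLib.AschbacherForm.Cases
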