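import Cfsg.Agent.Lib.AschbacherForm.Cases.SympNum
import Cfsg.Agent.Lib.Aschbacher.Cases.Rows

/-!
The reduction of a maximal subgroup of the symplectic group to the shapes.
-/

set_option autoImplicit false
set_option linter.unusedSectionVars false

namespace CfsgLib.AschbacherForm.Cases

open Cfsg Cfsg.Geo CfsgLib.Aschbacher
open scoped Matrix MatrixGroups

universe u
variable {F : Type u} [Field F] [Fintype F] {m : ℕ}

local notation "sf" => sympForm m F
local notation "I₂" => Fin m ⊕ Fin m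

theorem sp_reduce (hm : 2 ≤ m) (hm' : m ≤ 13) {H : Subgroup (GL I₂ F)} (hH : IsMaximalIn (spGL m F) H) :
    InSymplecticResidualClass H ∨ ∃ X, SympShape m F X ∧ H ≤ X ∧ H = X ⊓ spGL m F := by
  rcases symplectic_structure (by omega) H hH.1.le with ⟨X, hX, hle⟩ | h
  · exact Or.inr ⟨X, hX, hle, sp_eq_inf hH hle (sp_shape_not_le hm hm' hX)⟩
  · exact Or.inl h

/-- Over two elements a frame gives way to an orthogonal group. -/
theorem sp_frame_two (hm : 2 ≤ m) (hF : Fintype.card F = 2) {H : Subgroup (GL I₂ F)}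
    (hH : IsMaximalIn (spGL m F) H) {t : ℕ} {D : Fin t → Submodule F (I₂ → F)}
    (hD : IsNondegenerateMDecomposition sf 2 D) (hle : H ≤ decompositionStabilizer D) :
    ¬ Odd (Fintype.card F) ∧ ∃ Q : (I₂ → F) → F, IsNondegenerateQuadraticForm Q ∧
      (∀ u v, QuadraticMap.polar Q u v = sf u v) ∧ H = quadSimilarityGroup Q ⊓ spGL m F := by
  obtain ⟨Q, hQ, hp, hQle⟩ := quad_of_frame hF hD
  have hodd : ¬ Odd (Fintype.card F) := by rw [hF]; decide
  exact ⟨hodd, Q, hQ, hp, sp_eq_inf hH (hle.trans hQle) (not_sp_le_quad hm (finite_two_iff.2 hodd) hQ hp)⟩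

/-- A non-degenerate subspace has even dimension. -/
theorem sp_nondeg_ne_one {W : Submodule F (I₂ → F)} (hW : IsNondegenerateOn sf W) :
    Module.finrank F W ≠ 1 := by
  intro h
  have hf := sympForm_symplectic m F
  obtain ⟨w, hw, hspan⟩ := finrank_eq_one_iff'.1 h
  obtain ⟨⟨x, hx, hne⟩, -⟩ := hW _ w.2 fun e => hw (Subtype.ext e)
  obtain ⟨c, hc⟩ := hspan ⟨x, hx⟩
  apply hne
  rw [show x = c • (w : I₂ → F) from congrArg Subtype.val hc.symm, hf.bilinear.smul_left, hf.alternating, mul_zero]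

theorem two_lt_of_prime_pow {F : Type*} [Field F] [Fintype F] (h : ¬ 3 ≤ Fintype.card F) : Fintype.card F = 2 := by
  have := Fintype.one_lt_card (α := F)
  omega

/-- The exponent of a power. -/
theorem pow_eq_iff_two {a b : ℕ} (h : 2 ^ a = 2 ^ b) : a = b := Nat.pow_right_injective le_rfl h

theorem no_pow_two {n : ℕ} (j : ℕ) (h1 : 2 ^ j < n) (h2 : n < 2 ^ (j + 1)) (k : ℕ) : n ≠ 2 ^ k :=
  CfsgLib.Aschbacher.Cases.not_pow_two j h1 h2 k

end CfsgLib.AschbacherForm.Cases
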