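import Cfsg.Agent.Lib.AschbacherForm.Cases.SympRows
import Cfsg.Agent.Lib.AschbacherForm.SympTensor

/-!
Tensor members of the symplectic classes: coordinates, and `Sp ⊗ O₃` over three elements.
-/

set_option autoImplicit false
set_option linter.unusedSectionVars false

namespace CfsgLib.AschbacherForm.Cases

open Cfsg Cfsg.Geo CfsgLib.Aschbacher
open scoped Matrix MatrixGroups Kronecker

universe u
variable {F : Type u} [Field F] [Fintype F]

theorem kron_pure {κ μ : Type} [Fintype κ] [Fintype μ] (A : Matrix κ κ F) (B : Matrix μ μ F) (a : κ → F) (b : μ → F) :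
    (A ⊗ₖ B) *ᵥ (fun p => a p.1 * b p.2) = fun p => (A *ᵥ a) p.1 * (B *ᵥ b) p.2 := by
  funext p
  simp only [Matrix.mulVec, dotProduct, Matrix.kroneckerMap_apply, Fintype.sum_prod_type, Finset.sum_mul,
    Finset.mul_sum]
  conv_rhs => rw [Finset.sum_comm]
  exact Finset.sum_congr rfl fun x _ => Finset.sum_congr rfl fun y _ => by ring

theorem form_pure {κ μ : Type} [Fintype κ] [Fintype μ] (S : Matrix κ κ F) (T : Matrix μ μ F) (a a' : κ → F)
    (b b' : μ → F) :
    formOfGram (id : F → F) (S ⊗ₖ T) (fun p => a p.1 * b p.2) (fun p => a' p.1 * b' p.2) =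
      formOfGram (id : F → F) S a a' * formOfGram (id : F → F) T b b' := by
  simp only [formOfGram, id_eq, Matrix.kroneckerMap_apply, Fintype.sum_prod_type, Finset.sum_mul, Finset.mul_sum]
  symm
  rw [Finset.sum_congr rfl fun p _ => Finset.sum_comm, Finset.sum_comm]
  refine Finset.sum_congr rfl fun i _ => Finset.sum_congr rfl fun p _ => ?_
  rw [Finset.sum_comm]
  exact Finset.sum_congr rfl fun j _ => Finset.sum_congr rfl fun q _ => by ring

section coord

variable {ι κ : Type} [Fintype ι] [DecidableEq ι] [Fintype κ] [DecidableEq κ]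

theorem coordR_mulVec (e : ι ≃ κ) (P g : GL ι F) (y : κ → F) :
    (g : Matrix ι ι F) *ᵥ ((P : Matrix ι ι F) *ᵥ (y ∘ e)) =
      (P : Matrix ι ι F) *ᵥ ((coordR e P (g : Matrix ι ι F) *ᵥ y) ∘ e) := by
  rw [coordR_apply, Matrix.submatrix_mulVec_equiv]
  simp only [Equiv.symm_symm, Function.comp_assoc, Equiv.symm_comp_self, Function.comp_id,
    Matrix.mulVec_mulVec]
  rw [mul_assoc, Units.mul_inv_cancel_left]

end coord

variable {m n₁ n₂ : ℕ}

local notation "sf" => sympForm m F
local notation "I₂" => Fin m ⊕ Fin m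

/-- The factors of an isometry in a tensor member. -/
theorem tensor_coord_data {e : I₂ ≃ Fin n₁ × Fin n₂} {P : GL I₂ F}
    {f₁ : (Fin n₁ → F) → (Fin n₁ → F) → F} {f₂ : (Fin n₂ → F) → (Fin n₂ → F) → F}
    (hf₁ : IsSymplecticForm f₁) (hf₂ : IsSymmetricForm f₂) (hn₁ : 1 ≤ n₁) (hn₂ : 1 ≤ n₂)
    (hT : IsTensorFormStructure id sf f₁ f₂ e P) {g : GL I₂ F}
    (hg : g ∈ tensorProductSubgroup n₁ n₂ e P) (hgS : g ∈ spGL m F) :
    ∃ (A : GL (Fin n₁) F) (B : GL (Fin n₂) F) (b : F), b ≠ 0 ∧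
      coordR e P (g : Matrix I₂ I₂ F) = (A : Matrix (Fin n₁) (Fin n₁) F) ⊗ₖ (B : Matrix (Fin n₂) (Fin n₂) F) ∧
      (B : Matrix (Fin n₂) (Fin n₂) F)ᵀ * gramMatrix f₂ * (B : Matrix (Fin n₂) (Fin n₂) F) = b • gramMatrix f₂ ∧
      b • ((A : Matrix (Fin n₁) (Fin n₁) F)ᵀ * gramMatrix f₁ * (A : Matrix (Fin n₁) (Fin n₁) F)) = gramMatrix f₁ := by
  classical
  haveI : Nonempty (Fin n₁) := ⟨⟨0, hn₁⟩⟩
  haveI : Nonempty (Fin n₂) := ⟨⟨0, hn₂⟩⟩
  have hG := sympGeom m F
  set J := Jgl m F
  set σ := RingEquiv.refl F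
  obtain ⟨c, hc, hT⟩ := hT
  have hJ : (coordJ σ e P J : Matrix (Fin n₁ × Fin n₂) (Fin n₁ × Fin n₂) F) =
      c • (gramMatrix f₁ ⊗ₖ gramMatrix f₂) := by
    refine gram_inj σ fun x y => ?_
    rw [← coord_form hG e P, hT, formOfGram_smul]
    rfl
  have hcoord : ∃ (A : GL (Fin n₁) F) (B : GL (Fin n₂) F),
      coordR e P (g : Matrix I₂ I₂ F) = (A : Matrix (Fin n₁) (Fin n₁) F) ⊗ₖ (B : Matrix (Fin n₂) (Fin n₂) F) := by
    obtain ⟨_, ⟨k, ⟨a, b, hk⟩, rfl⟩, rfl⟩ := hg
    refine ⟨a, b, ?_⟩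
    rw [← hk, coordR_gl]
    congr 1
    refine Units.ext ?_
    ext i j
    simp [glReindex, mul_assoc]
  obtain ⟨A, B, hAB⟩ := hcoord
  have hsim := coord_sim σ e P J g 1 (isSim_of_mem_spGL hgS)
  rw [IsSim, one_smul, hAB, hJ] at hsim
  have h1 : ∀ {ν : Type} [Fintype ν] [DecidableEq ν] (M : Matrix ν ν F), M.map σ = M := fun M => by ext; rfl
  rw [h1, Matrix.mul_smul, Matrix.smul_mul] at hsim
  have hsim' := smul_right_injective _ hc hsim
  rw [← Matrix.kroneckerMap_transpose, ← Matrix.mul_kronecker_mul, ← Matrix.mul_kronecker_mul] at hsim'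
  have hu1 : IsUnit (gramMatrix f₁) := isUnit_of_nondeg σ (bilinear_eq_gram hf₁.bilinear ▸ hf₁.nondegenerate)
  have hu2 : IsUnit (gramMatrix f₂) := isUnit_of_nondeg σ (bilinear_eq_gram hf₂.bilinear ▸ hf₂.nondegenerate)
  obtain ⟨b, hb, e1, e2⟩ := kron_proportional
    (by
      have : IsUnit ((A : Matrix (Fin n₁) (Fin n₁) F)ᵀ * gramMatrix f₁ * (A : Matrix (Fin n₁) (Fin n₁) F)) :=
        (((Matrix.isUnit_transpose _).2 A.isUnit).mul hu1).mul A.isUnit
      exact this.ne_zero)
    (by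
      have : IsUnit ((B : Matrix (Fin n₂) (Fin n₂) F)ᵀ * gramMatrix f₂ * (B : Matrix (Fin n₂) (Fin n₂) F)) :=
        (((Matrix.isUnit_transpose _).2 B.isUnit).mul hu2).mul B.isUnit
      exact this.ne_zero) hsim'
  exact ⟨A, B, b, hb, hAB, e2, e1.symm⟩

/-! ### Three elements -/

theorem sq_eq_one_of_card_three (hF : Fintype.card F = 3) {x : F} (hx : x ≠ 0) : x * x = 1 := by
  have := FiniteField.pow_card_sub_one_eq_one x hx
  rwa [hF, show 3 - 1 = 2 from rfl, sq] at this

theorem pm_one_of_card_three (hF : Fintype.card F = 3) {x : F} (hx : x ≠ 0) : x = 1 ∨ x = -1 :=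
  mul_self_eq_one_iff.1 (sq_eq_one_of_card_three hF hx)

theorem three_eq_zero (hF : Fintype.card F = 3) : (3 : F) = 0 := by
  have := FiniteField.cast_card_eq_zero F
  rw [hF] at this
  exact_mod_cast this

/-- A ternary symmetric form over three elements is a multiple of the identity. -/
theorem ternary_diag (hF : Fintype.card F = 3) {f₂ : (Fin 3 → F) → (Fin 3 → F) → F} (hf : IsSymmetricForm f₂) :
    ∃ (U : GL (Fin 3) F) (d : F), d ≠ 0 ∧
      (U : Matrix (Fin 3) (Fin 3) F)ᵀ * gramMatrix f₂ * (U : Matrix (Fin 3) (Fin 3) F) = d • 1 := by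
  classical
  have h2 : (2 : F) ≠ 0 := fun e => one_ne_zero (show (1 : F) = 0 by linear_combination three_eq_zero hF - e)
  haveI : Invertible (2 : F) := invertibleOfNonzero h2
  let B : LinearMap.BilinForm F (Fin 3 → F) := LinearMap.mk₂ F f₂ hf.bilinear.add_left hf.bilinear.smul_left
    hf.bilinear.add_right hf.bilinear.smul_right
  obtain ⟨v, hv⟩ := LinearMap.BilinForm.exists_orthogonal_basis (B := B) ⟨fun x y => hf.symm x y⟩
  let e3 : Fin (Module.finrank F (Fin 3 → F)) ≃ Fin 3 := finCongr (Module.finrank_fin_fun F)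
  let w := v.reindex e3
  have horth : ∀ i j, i ≠ j → f₂ (w i) (w j) = 0 := fun i j hij => by
    simp only [w, Module.Basis.reindex_apply]
    exact hv fun e => hij (e3.symm.injective e)
  have hne : ∀ i, f₂ (w i) (w i) ≠ 0 := fun i e => by
    obtain ⟨⟨x, hx⟩, -⟩ := hf.nondegenerate (w i) (w.ne_zero i)
    apply hx
    have hBap : ∀ x y, B x y = f₂ x y := fun x y => rfl
    rw [← w.sum_repr x, ← hBap]
    simp only [map_sum, map_smul, LinearMap.sum_apply, LinearMap.smul_apply, hBap]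
    refine Finset.sum_eq_zero fun j _ => ?_
    rcases eq_or_ne j i with rfl | hji
    · rw [e, smul_zero]
    · rw [horth j i hji, smul_zero]
  -- from any three orthogonal vectors of one value a witness
  suffices h : ∃ (z : Fin 3 → Fin 3 → F) (d : F), d ≠ 0 ∧ ∀ i j, f₂ (z i) (z j) = if i = j then d else 0 by
    obtain ⟨z, d, hd, hz⟩ := h
    let M : Matrix (Fin 3) (Fin 3) F := Matrix.of fun a i => z i a
    have hM : Mᵀ * gramMatrix f₂ * M = d • 1 := by
      ext i j
      rw [Matrix.smul_apply, Matrix.one_apply, smul_eq_mul, mul_ite, mul_one, mul_zero, ← hz i j]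
      conv_rhs => rw [bilinear_eq_gram hf.bilinear]
      simp only [Matrix.mul_apply, Matrix.transpose_apply, M, Matrix.of_apply, formOfGram, RingEquiv.refl_apply,
        Finset.sum_mul]
      exact Finset.sum_comm
    have hu : IsUnit M := by
      rw [Matrix.isUnit_iff_isUnit_det]
      have h1 := congrArg Matrix.det hM
      rw [Matrix.det_mul, Matrix.det_mul, Matrix.det_smul, Matrix.det_one, mul_one] at h1
      exact isUnit_iff_ne_zero.2 fun e => by
        rw [e, mul_zero] at h1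
        exact pow_ne_zero _ hd h1.symm
    exact ⟨hu.unit, d, hd, by rw [IsUnit.unit_spec]; exact hM⟩
  have key : ∀ i j k : Fin 3, i ≠ j → i ≠ k → j ≠ k → f₂ (w i) (w i) = f₂ (w j) (w j) →
      ∃ (z : Fin 3 → Fin 3 → F) (d : F), d ≠ 0 ∧ ∀ i j, f₂ (z i) (z j) = if i = j then d else 0 := by
    intro i j k hij hik hjk heq
    set d := f₂ (w i) (w i) with hd
    by_cases hk : f₂ (w k) (w k) = d
    · refine ⟨![w i, w j, w k], d, hne i, fun a b => ?_⟩
      fin_cases a <;> fin_cases b <;>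
        simp [horth _ _ hij, horth _ _ hik, horth _ _ hjk, horth _ _ hij.symm, horth _ _ hik.symm, horth _ _ hjk.symm,
          ← hd, ← heq, hk]
    · have hk' : f₂ (w k) (w k) = -d := by
        rcases pm_one_of_card_three hF (hne k) with e1 | e1 <;>
          rcases pm_one_of_card_three hF (hne i) with e2 | e2 <;> rw [← hd] at e2 <;>
            first | exact absurd (e1.trans e2.symm) hk | simp [e1, e2]
      refine ⟨![w i + w j, w i - w j, w k], -d, neg_ne_zero.2 (hne i), fun a b => ?_⟩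
      have hsub : ∀ x y z : Fin 3 → F, f₂ (x - y) z = f₂ x z - f₂ y z := fun x y z => by
        rw [sub_eq_add_neg, hf.bilinear.add_left, ← neg_one_smul F y, hf.bilinear.smul_left]; ring
      have hsub' : ∀ x y z : Fin 3 → F, f₂ z (x - y) = f₂ z x - f₂ z y := fun x y z => by
        rw [hf.symm, hsub, hf.symm x, hf.symm y]
      have h2d : d + d = -d := by linear_combination d * three_eq_zero hF
      fin_cases a <;> fin_cases b <;>
        simp [hf.bilinear.add_left, hf.bilinear.add_right, hsub, hsub', horth _ _ hij, horth _ _ hik, horth _ _ hjk,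
          horth _ _ hij.symm, horth _ _ hik.symm, horth _ _ hjk.symm, ← hd, ← heq, hk', h2d]
  rcases pm_one_of_card_three hF (hne 0) with a | a <;> rcases pm_one_of_card_three hF (hne 1) with b | b <;>
    rcases pm_one_of_card_three hF (hne 2) with c | c <;>
    first
      | exact key 0 1 2 (by decide) (by decide) (by decide) (a.trans b.symm)
      | exact key 0 2 1 (by decide) (by decide) (by decide) (a.trans c.symm)
      | exact key 1 2 0 (by decide) (by decide) (by decide) (b.trans c.symm)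

/-- The similitudes of the identity form in three variables over three elements are monomial. -/
theorem monomial_of_sim (hF : Fintype.card F = 3) {T : Matrix (Fin 3) (Fin 3) F} {b : F} (hb : b ≠ 0)
    (hT : Tᵀ * T = b • 1) : ∃ σ : Equiv.Perm (Fin 3), ∀ i k, k ≠ σ i → T k i = 0 := by
  have hdet := congrArg Matrix.det hT
  rw [Matrix.det_mul, Matrix.det_transpose, Matrix.det_smul, Matrix.det_one, mul_one, Fintype.card_fin] at hdet
  have hb1 : b = 1 := by
    have hd : T.det ≠ 0 := fun e => pow_ne_zero 3 hb (by rw [← hdet, e, mul_zero])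
    rw [sq_eq_one_of_card_three hF hd, pow_succ, sq, sq_eq_one_of_card_three hF hb, one_mul] at hdet
    exact hdet.symm
  subst hb1
  rw [one_smul] at hT
  have hcol : ∀ i, T 0 i * T 0 i + T 1 i * T 1 i + T 2 i * T 2 i = 1 := fun i => by
    have := congrFun (congrFun hT i) i
    simpa [Matrix.mul_apply, Fin.sum_univ_three] using this
  have hone : ∀ i, ∃ l, ∀ k, k ≠ l → T k i = 0 := by
    intro i
    have h := hcol i
    by_cases a : T 0 i = 0 <;> by_cases b : T 1 i = 0 <;> by_cases c : T 2 i = 0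
    all_goals
      first
        | (refine ⟨0, fun k hk => ?_⟩; fin_cases k <;> first | exact absurd rfl hk | assumption)
        | (refine ⟨1, fun k hk => ?_⟩; fin_cases k <;> first | exact absurd rfl hk | assumption)
        | (refine ⟨2, fun k hk => ?_⟩; fin_cases k <;> first | exact absurd rfl hk | assumption)
        | (exfalso
           simp only [*, mul_zero, sq_eq_one_of_card_three hF, not_false_eq_true, ne_eq, add_zero, zero_add] at h
           first
             | exact zero_ne_one h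
             | exact one_ne_zero (show (1 : F) = 0 by linear_combination h)
             | exact one_ne_zero (show (1 : F) = 0 by linear_combination three_eq_zero hF - h))
  choose l hl using hone
  have hinj : Function.Injective l := by
    intro i j hij
    by_contra hne
    have h := congrFun (congrFun hT i) j
    rw [Matrix.mul_apply, Matrix.one_apply_ne hne, Finset.sum_eq_single (l i) (fun k _ hk => by
      rw [Matrix.transpose_apply, hl i k hk, zero_mul]) (by simp), Matrix.transpose_apply] at h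
    have hii : T (l i) i ≠ 0 := fun e => by
      have := hcol i
      have hz : ∀ k, T k i = 0 := fun k => if hk : k = l i then hk ▸ e else hl i k hk
      simp [hz] at this
    have hjj : T (l j) j ≠ 0 := fun e => by
      have := hcol j
      have hz : ∀ k, T k j = 0 := fun k => if hk : k = l j then hk ▸ e else hl j k hk
      simp [hz] at this
    rw [hij] at h hii
    exact (mul_eq_zero.1 h).elim hii hjj
  exact ⟨Equiv.ofBijective l (Finite.injective_iff_bijective.1 hinj), hl⟩

/-- `Sp ⊗ O₃` over three elements lies in a decomposition stabiliser. -/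
theorem tensor_three_decomp (hF : Fintype.card F = 3) (hn₁ : 1 ≤ n₁) {e : I₂ ≃ Fin n₁ × Fin 3} {P : GL I₂ F}
    {f₁ : (Fin n₁ → F) → (Fin n₁ → F) → F} {f₂ : (Fin 3 → F) → (Fin 3 → F) → F}
    (hf₁ : IsSymplecticForm f₁) (hf₂ : IsSymmetricForm f₂) (hT : IsTensorFormStructure id sf f₁ f₂ e P) :
    ∃ D : Fin 3 → Submodule F (I₂ → F), IsNondegenerateMDecomposition sf n₁ D ∧
      tensorProductSubgroup n₁ 3 e P ⊓ spGL m F ≤ decompositionStabilizer D := by
  classical
  obtain ⟨U, d, hd, hU⟩ := ternary_diag hF hf₂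
  have hf := sympForm_symplectic m F
  let Um : Matrix (Fin 3) (Fin 3) F := (U : Matrix (Fin 3) (Fin 3) F)
  let L : Fin 3 → (Fin n₁ → F) →ₗ[F] (I₂ → F) := fun i =>
    (Matrix.mulVecLin (P : Matrix I₂ I₂ F)) ∘ₗ (LinearMap.funLeft F F e) ∘ₗ
      { toFun := fun a p => a p.1 * Um p.2 i
        map_add' := fun a a' => funext fun p => by simp [add_mul]
        map_smul' := fun c a => funext fun p => by simp [mul_assoc] }
  have hL : ∀ i a, L i a = (P : Matrix I₂ I₂ F) *ᵥ ((fun p => a p.1 * Um p.2 i) ∘ e) := fun i a => rfl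
  obtain ⟨c, hc, hT'⟩ := hT
  have hcol : ∀ i j, formOfGram id (gramMatrix f₂) (fun k => Um k i) (fun k => Um k j) = if i = j then d else 0 := by
    intro i j
    have h := congrFun (congrFun hU i) j
    simp only [Matrix.smul_apply, Matrix.one_apply, smul_eq_mul, mul_ite, mul_one, mul_zero] at h
    rw [← h]
    simp only [formOfGram, id_eq, Matrix.mul_apply, Matrix.transpose_apply, Finset.sum_mul, Um]
    exact Finset.sum_comm
  have hform : ∀ i j a a', sf (L i a) (L j a') = if i = j then c * d * f₁ a a' else 0 := by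
    intro i j a a'
    rw [hL, hL, hT', form_pure (b := fun k => Um k i) (b' := fun k => Um k j), hcol]
    conv_rhs => rw [bilinear_eq_gram hf₁.bilinear]
    split_ifs
    · show _ = c * d * formOfGram id (gramMatrix f₁) a a'
      ring
    · simp
  have hinj : ∀ i, Function.Injective (L i) := fun i => (injective_iff_map_eq_zero _).2 fun a ha => by
    by_contra hne
    obtain ⟨⟨x, hx⟩, -⟩ := hf₁.nondegenerate a hne
    have := hform i i x a
    rw [ha, if_pos rfl, ← zero_smul F (L i x), hf.bilinear.smul_right, zero_mul] at this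
    simp [hc, hd, hx] at this
  let D : Fin 3 → Submodule F (I₂ → F) := fun i => LinearMap.range (L i)
  have horth : ∀ i j, i ≠ j → AreOrthogonalFor sf (D i) (D j) := by
    rintro i j hij _ ⟨a, rfl⟩ _ ⟨a', rfl⟩
    rw [hform, if_neg hij]
  have hnd : ∀ i, IsNondegenerateOn sf (D i) := by
    rintro i _ ⟨a, rfl⟩ h0
    obtain ⟨⟨x, hx⟩, ⟨y, hy⟩⟩ := hf₁.nondegenerate a fun e => h0 (by rw [e, map_zero])
    exact ⟨⟨_, ⟨x, rfl⟩, by rw [hform, if_pos rfl]; simp [hc, hd, hx]⟩,
      ⟨_, ⟨y, rfl⟩, by rw [hform, if_pos rfl]; simp [hc, hd, hy]⟩⟩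
  have htop : iSup D = ⊤ := by
    refine eq_top_iff.2 fun v _ => ?_
    let x : Fin n₁ × Fin 3 → F := ((↑P⁻¹ : Matrix I₂ I₂ F) *ᵥ v) ∘ e.symm
    have hv : v = ∑ i, L i (fun a => ∑ k, x (a, k) * (↑U⁻¹ : Matrix (Fin 3) (Fin 3) F) i k) := by
      simp only [hL, ← Matrix.mulVec_sum]
      have : (∑ i, (fun p : Fin n₁ × Fin 3 => (∑ k, x (p.1, k) * (↑U⁻¹ : Matrix (Fin 3) (Fin 3) F) i k) * Um p.2 i) ∘ e) =
          x ∘ e := by
        funext l
        simp only [Finset.sum_apply, Function.comp_apply]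
        calc ∑ i, (∑ k, x ((e l).1, k) * (↑U⁻¹ : Matrix (Fin 3) (Fin 3) F) i k) * Um (e l).2 i
            = ∑ k, x ((e l).1, k) * (Um * (↑U⁻¹ : Matrix (Fin 3) (Fin 3) F)) (e l).2 k := by
              simp only [Matrix.mul_apply, Finset.mul_sum, Finset.sum_mul]
              rw [Finset.sum_comm]
              exact Finset.sum_congr rfl fun k _ => Finset.sum_congr rfl fun i _ => by ring
          _ = x (e l) := by simp [Um, Matrix.one_apply]
      rw [this]
      simp [x, Function.comp_assoc, Matrix.mulVec_mulVec]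
    rw [hv]
    exact Submodule.sum_mem _ fun i _ => Submodule.mem_iSup_of_mem i ⟨_, rfl⟩
  refine ⟨D, ⟨⟨by norm_num, hn₁, fun i => ?_, ?_, htop⟩, hnd, horth⟩, ?_⟩
  · rw [LinearMap.finrank_range_of_inj (hinj i), Module.finrank_fin_fun]
  · refine fun i => Submodule.disjoint_def.2 fun v hv hv' => ?_
    by_contra h0
    obtain ⟨⟨x, hx, hne⟩, -⟩ := hnd i v hv h0
    apply hne
    let Z : Submodule F (I₂ → F) :=
      { carrier := {z | sf x z = 0}
        zero_mem' := by show sf x 0 = 0; rw [← zero_smul F x, hf.bilinear.smul_right, zero_mul]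
        add_mem' := fun {a b} ha hb => by
          show sf x (a + b) = 0
          rw [hf.bilinear.add_right, show sf x a = 0 from ha, show sf x b = 0 from hb, add_zero]
        smul_mem' := fun r a ha => by
          show sf x (r • a) = 0
          rw [hf.bilinear.smul_right, show sf x a = 0 from ha, mul_zero] }
    exact (iSup₂_le fun j hj w hw => horth i j hj.symm x hx w hw : (⨆ (j) (_ : j ≠ i), D j) ≤ Z) hv'
  rintro g ⟨hg, hgS⟩
  obtain ⟨A, B, b, hb, hAB, hB, -⟩ := tensor_coord_data hf₁ hf₂ hn₁ (by norm_num) ⟨c, hc, hT'⟩ hg hgS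
  set Bm := (B : Matrix (Fin 3) (Fin 3) F)
  set T := (↑U⁻¹ : Matrix (Fin 3) (Fin 3) F) * Bm * Um with hTdef
  have hUT : Um * T = Bm * Um := by simp [hTdef, Um, mul_assoc]
  have hTT : Tᵀ * T = b • 1 := by
    have h1 : (Um * T)ᵀ * gramMatrix f₂ * (Um * T) = (b * d) • 1 := by
      rw [hUT, Matrix.transpose_mul]
      calc Umᵀ * Bmᵀ * gramMatrix f₂ * (Bm * Um) = Umᵀ * (Bmᵀ * gramMatrix f₂ * Bm) * Um := by simp only [mul_assoc]
        _ = (b * d) • 1 := by rw [hB, Matrix.mul_smul, Matrix.smul_mul, hU, smul_smul]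
    rw [Matrix.transpose_mul, show Tᵀ * Umᵀ * gramMatrix f₂ * (Um * T) = Tᵀ * (Umᵀ * gramMatrix f₂ * Um) * T by
      simp only [mul_assoc], hU, Matrix.mul_smul, Matrix.smul_mul, mul_one, mul_comm b d, ← smul_smul] at h1
    exact smul_right_injective _ hd h1
  obtain ⟨σ, hσ⟩ := monomial_of_sim hF hb hTT
  refine ⟨σ, fun i => ?_⟩
  have hTne : T (σ i) i ≠ 0 := fun e => by
    have h1 := congrFun (congrFun hTT i) i
    have hz : ∀ k, T k i = 0 := fun k => if hk : k = σ i then hk ▸ e else hσ i k hk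
    simp [Matrix.mul_apply, hz] at h1
    exact hb h1.symm
  have key : ∀ a, Matrix.toLin' (g : Matrix I₂ I₂ F) (L i a) =
      L (σ i) (T (σ i) i • ((A : Matrix (Fin n₁) (Fin n₁) F) *ᵥ a)) := by
    intro a
    rw [Matrix.toLin'_apply, hL, coordR_mulVec, hAB, kron_pure _ _ a fun k => Um k i, hL]
    congr 2
    funext p
    have h1 := congrFun (congrFun hUT p.2) i
    rw [Matrix.mul_apply, Finset.sum_eq_single (σ i) (fun k _ hk => by rw [hσ i k hk, mul_zero]) (by simp)] at h1
    show ((A : Matrix (Fin n₁) (Fin n₁) F) *ᵥ a) p.1 * (Bm *ᵥ fun k => Um k i) p.2 = _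
    rw [show (Bm *ᵥ fun k => Um k i) p.2 = (Bm * Um) p.2 i from rfl, ← h1]
    simp only [Pi.smul_apply, smul_eq_mul]
    ring
  refine le_antisymm ?_ ?_
  · rintro _ ⟨_, ⟨a, rfl⟩, rfl⟩
    exact ⟨_, (key a).symm⟩
  · rintro _ ⟨a, rfl⟩
    refine ⟨L i ((T (σ i) i)⁻¹ • ((↑A⁻¹ : Matrix (Fin n₁) (Fin n₁) F) *ᵥ a)), ⟨_, rfl⟩, ?_⟩
    rw [key]
    congr 1
    rw [Matrix.mulVec_smul, smul_smul, mul_inv_cancel₀ hTne, one_smul, Matrix.mulVec_mulVec, Units.mul_inv,
      Matrix.one_mulVec]

end CfsgLib.AschbacherForm.Cases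

namespace CfsgLib.AschbacherForm.Cases

open Cfsg Cfsg.Geo

universe u
variable {F : Type u} [Field F] [Fintype F] {m n₁ : ℕ}

theorem sp_tensor_three (hm : 2 ≤ m) (hn₁ : 2 ≤ n₁) (hodd : Odd (Fintype.card F)) (h5 : ¬ 5 ≤ Fintype.card F)
    {H : Subgroup (Matrix.GeneralLinearGroup (Fin m ⊕ Fin m) F)} (hH : IsMaximalIn (spGL m F) H)
    {e : (Fin m ⊕ Fin m) ≃ Fin n₁ × Fin 3} {P : Matrix.GeneralLinearGroup (Fin m ⊕ Fin m) F}
    {f₁ : (Fin n₁ → F) → (Fin n₁ → F) → F} {f₂ : (Fin 3 → F) → (Fin 3 → F) → F}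
    (hf₁ : IsSymplecticForm f₁) (hf₂ : IsSymmetricForm f₂)
    (hT : IsTensorFormStructure id (sympForm m F) f₁ f₂ e P)
    (heq : H = tensorProductSubgroup n₁ 3 e P ⊓ spGL m F) :
    3 ≤ Fintype.card F ∧ ∃ D : Fin 3 → Submodule F (Fin m ⊕ Fin m → F),
      IsNondegenerateMDecomposition (sympForm m F) n₁ D ∧ H = decompositionStabilizer D ⊓ spGL m F := by
  have h3 : Fintype.card F = 3 := by
    have := Fintype.one_lt_card (α := F)
    obtain ⟨a, ha⟩ := hodd
    omega
  obtain ⟨D, hD, hle⟩ := tensor_three_decomp h3 (by omega) hf₁ hf₂ hT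
  exact ⟨h3.ge, D, hD, sp_eq_inf hH (heq.le.trans hle)
    (not_le_decomposition (rich_sp (by omega)) hn₁ hD.decomp)⟩

theorem no_wreath {t k : ℕ} (ht : 3 ≤ t) (e : (Fin m ⊕ Fin m) ≃ (Fin t → Fin k)) (hm : 1 ≤ m) (hm' : m ≤ 13)
    (h2 : ∀ j, 2 * m ≠ 2 ^ j) : False := by
  have hc : 2 * m = k ^ t := by simpa [two_mul] using Fintype.card_congr e
  rcases k with _ | _ | _ | k
  · rw [zero_pow (by omega)] at hc; omega
  · rw [zero_add, one_pow] at hc; omega
  · exact h2 t hc
  · have h27 : 3 ^ 3 ≤ (k + 1 + 1 + 1) ^ t :=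
      le_trans (Nat.pow_le_pow_left (by omega) 3) (Nat.pow_le_pow_right (by omega) ht)
    omega

end CfsgLib.AschbacherForm.Cases
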