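import Cfsg.Agent.Lib.AschbacherForm.Cases.UnitTwo
import Cfsg.Agent.Lib.AschbacherForm.Cases.FrameCoord
import Mathlib.RingTheory.Norm.Transitivity
import Mathlib.FieldTheory.Finite.GaloisField
import Mathlib.FieldTheory.Finite.Trace
import Mathlib.Data.ZMod.Basic
import Mathlib.LinearAlgebra.Matrix.Permutation
import Mathlib.RingTheory.RootsOfUnity.PrimitiveRoots
import Mathlib.GroupTheory.Perm.Cycle.Type

/-!
`SU₅(2)`: the normaliser of an adjoint-closed quintic subfield (`11 : 5`) is not maximal; it fixes a set of 66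
vectors with a larger stabiliser.
-/

set_option autoImplicit false
set_option linter.unusedSectionVars false

namespace CfsgLib.AschbacherForm.Cases

open Cfsg Cfsg.Geo CfsgLib.Aschbacher
open CfsgLib.Maximal (tv fvec un_tv_dot)
open scoped Matrix MatrixGroups

universe u

local notation "Q₄" => ZMod 2 × ZMod 2

/-- Multiplication of the coefficient pairs with respect to a primitive cube root of unity. -/
def pairMul (p r : Q₄) : Q₄ := (p.1 * r.1 + p.2 * r.2, p.1 * r.2 + p.2 * r.1 + p.2 * r.2)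

/-- The trace of the powers of an eleventh root of unity. -/
def elevenTr : Fin 11 → Q₄ :=
  ![(1, 0), (0, 1), (1, 1), (0, 1), (0, 1), (0, 1), (1, 1), (1, 1), (1, 1), (0, 1), (1, 1)]

/-- The squares modulo eleven. -/
def elevenSq : Fin 5 → Fin 11 := ![1, 4, 5, 9, 3]

/-- The involution `i ↦ -1 / i`, fixing zero. -/
def elevenInv : Fin 11 → Fin 11 := ![0, 10, 5, 7, 8, 2, 9, 3, 4, 6, 1]

/-- The index lists of the images of the eleven vectors under the extra element. -/
def elevenImg (i : Fin 11) : List (Fin 11) := if i = 0 then [0] else [elevenInv i, 0]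

/-- The inverse of the Gram matrix of the basis. -/
def elevenGramInv : Matrix (Fin 5) (Fin 5) Q₄ :=
  !![(0, 0), (0, 1), (0, 0), (0, 0), (1, 1); (1, 1), (0, 0), (0, 1), (0, 0), (0, 0);
     (0, 0), (1, 1), (0, 0), (0, 1), (0, 0); (0, 0), (0, 0), (1, 1), (0, 0), (0, 1);
     (0, 1), (0, 0), (0, 0), (1, 1), (0, 0)]

theorem eleven_img_gram : ∀ i j : Fin 11,
    ((elevenImg i).map fun x => ((elevenImg j).map fun y => elevenTr (x - y)).sum).sum = elevenTr (i - j) := by
  decide +kernel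

theorem eleven_gram_inv : ∀ i j : Fin 5,
    (∑ k, pairMul (elevenTr (elevenSq i - elevenSq k)) (elevenGramInv k j)) = if i = j then (1, 0) else 0 := by
  decide +kernel

theorem eleven_single : ∀ j : Fin 11, ∃ k : Fin 5,
    elevenTr (10 - elevenSq k) + elevenTr (0 - elevenSq k) ≠ elevenTr (j - elevenSq k) := by
  decide +kernel

theorem eleven_moved : ∀ i j : Fin 11,
    (∃ k : Fin 5, ([0, 1, 2, 3, 4].map fun x => elevenTr (x - elevenSq k)).sum ≠ elevenTr (i - elevenSq k)) ∧
    (i ≠ j → ∃ k : Fin 5, ([0, 1, 2, 3, 4].map fun x => elevenTr (x - elevenSq k)).sum ≠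
      elevenTr (i - elevenSq k) + elevenTr (j - elevenSq k)) := by
  decide +kernel

theorem eleven_inv_facts : ∀ i : Fin 11,
    elevenInv (elevenInv i) = i ∧ (i ≠ 0 → elevenInv i ≠ 0) ∧ ∀ j, elevenInv i = elevenInv j → i = j := by
  decide +kernel

theorem eleven_square_or : ∀ a : Fin 11, a = 0 ∨ (∃ m : Fin 5, ∀ k, a * elevenSq k = elevenSq (k + m)) ∨
    elevenTr a = (1, 1) := by
  decide +kernel

variable {F : Type u} [Field F] [Fintype F] {q : ℕ} {τ : F ≃+* F}

/-- In `SU₅(2)` a maximal subgroup does not normalise an adjoint-closed quintic subfield. -/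
theorem field_five_two (hU : UForm 5 q τ) (hq : q = 2) {H : Subgroup (GL (Fin 5) F)}
    (hH : IsMaximalIn (GU 5 F q ⊓ specialLinear (Fin 5) F) H) {K : Subalgebra F (Matrix (Fin 5) (Fin 5) F)}
    (hK : IsFieldSubalgebra 5 K) (hadj : IsAdjointClosedFor (hermForm 5 F q) K) :
    ¬ H ≤ subalgebraNormalizer K := by
  classical
  intro hleK
  subst hq
  have hf := unitaryForm hU
  have hcF : Nat.card F = 4 := by rw [Nat.card_eq_fintype_card, hU.card]; norm_num
  have h2F : (2 : F) = 0 := by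
    by_contra h
    exact absurd (hU.two_iff.1 h) (by decide)
  have hKF : IsField K :=
    { exists_pair_ne := ⟨1, 0, fun h => one_ne_zero (congrArg Subtype.val h : (1 : Matrix (Fin 5) (Fin 5) F) = 0)⟩
      mul_comm := fun a b => Subtype.ext (hK.comm _ a.2 _ b.2)
      mul_inv_cancel := fun {a} ha => by
        obtain ⟨y, hy, h⟩ := hK.inv a a.2 fun e => ha (Subtype.ext e)
        exact ⟨⟨y, hy⟩, Subtype.ext h⟩ }
  letI : Field K := hKF.toField
  letI : Module K (Fin 5 → F) :=
    { smul := fun k v => (k : Matrix (Fin 5) (Fin 5) F) *ᵥ v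
      one_smul := fun v => Matrix.one_mulVec v
      mul_smul := fun a b v => (Matrix.mulVec_mulVec v _ _).symm
      smul_zero := fun a => Matrix.mulVec_zero _
      smul_add := fun a v w => Matrix.mulVec_add _ v w
      add_smul := fun a b v => Matrix.add_mulVec _ _ v
      zero_smul := fun v => Matrix.zero_mulVec v }
  have hsm : ∀ (k : K) (v : Fin 5 → F), k • v = (k : Matrix (Fin 5) (Fin 5) F) *ᵥ v := fun _ _ => rfl
  haveI : IsScalarTower F K (Fin 5 → F) := ⟨fun c k v => Matrix.smul_mulVec c _ v⟩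
  haveI : Finite (Matrix (Fin 5) (Fin 5) F) := inferInstanceAs (Finite (Fin 5 → Fin 5 → F))
  haveI : Finite K := Subtype.finite
  haveI : Module.Finite F K := Module.Finite.of_finite
  have hcK : Nat.card K = 1024 := by
    rw [Module.natCard_eq_pow_finrank (K := F) (V := K), hK.finrank_eq, hcF]; norm_num
  have h2 : (2 : K) = 0 := by rw [← map_ofNat (algebraMap F K) 2, h2F, map_zero]
  have hrk : Module.finrank K (Fin 5 → F) = 1 := by
    have h := Module.finrank_mul_finrank F K (Fin 5 → F)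
    rw [hK.finrank_eq, Module.finrank_fin_fun] at h
    omega
  have htr : ∀ x : K, algebraMap F K (Algebra.trace F K x) = x + x ^ 4 + x ^ 16 + x ^ 64 + x ^ 256 := fun x => by
    rw [FiniteField.algebraMap_trace_eq_sum_pow, hcF, hK.finrank_eq]
    simp [Finset.sum_range_succ]
  -- the adjoint
  obtain ⟨φ, hφ⟩ : ∃ φ : K ≃+* K, ∀ (k : K) v w, hermForm 5 F 2 (k • v) w = hermForm 5 F 2 v (φ k • w) := by
    have hA := (hU.geom.adjClosed_iff K).1 hadj
    refine ⟨{ toFun := fun k => ⟨adj τ 1 (k : Matrix (Fin 5) (Fin 5) F), hA _ k.2⟩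
              invFun := fun k => ⟨adj τ 1 (k : Matrix (Fin 5) (Fin 5) F), hA _ k.2⟩
              left_inv := fun k => Subtype.ext (adj_adj hU.geom _)
              right_inv := fun k => Subtype.ext (adj_adj hU.geom _)
              map_mul' := fun a c => Subtype.ext ?_
              map_add' := fun a c => Subtype.ext (adj_add τ 1 _ _) }, fun k v w => hU.geom.mulVec_left _ v w⟩
    show adj τ 1 ((a : Matrix (Fin 5) (Fin 5) F) * (c : Matrix (Fin 5) (Fin 5) F)) =
      adj τ 1 (a : Matrix (Fin 5) (Fin 5) F) * adj τ 1 (c : Matrix (Fin 5) (Fin 5) F)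
    rw [adj_mul]
    exact hK.comm _ (hA _ c.2) _ (hA _ a.2)
  have hφ' : ∀ (k : K) v w, hermForm 5 F 2 v (k • w) = hermForm 5 F 2 (φ k • v) w := fun k v w => by
    rw [hf.herm, hφ, ← hf.herm]
  obtain ⟨e₀, he₀, hspan₀⟩ := finrank_eq_one_iff'.1 hrk
  have hnd : ∀ x y : Fin 5 → F, (∀ v, hermForm 5 F 2 v x = hermForm 5 F 2 v y) → x = y := fun x y h => by
    funext i
    have := h (Pi.single i 1)
    simp only [hermForm, Pi.single_apply, ite_mul, one_mul, zero_mul, Finset.sum_ite_eq', Finset.mem_univ, if_true,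
      ← hU.pow] at this
    exact τ.injective this
  have hφφ : ∀ k, φ (φ k) = k := fun k => smul_left_injective K he₀ (hnd _ _ fun u => by
    rw [← hφ, ← hφ'])
  have hφalg : ∀ c : F, φ (algebraMap F K c) = algebraMap F K (τ c) := fun c =>
    smul_left_injective K he₀ (hnd _ _ fun v => by
      beta_reduce
      rw [← hφ, algebraMap_smul, algebraMap_smul, hf.smul_left, CfsgLib.Maximal.un_smul_right hf, hU.invol])
  have hφne : φ ≠ RingEquiv.refl K := fun e => hU.ne (RingEquiv.ext fun c =>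
    (algebraMap F K).injective (by rw [← hφalg, e]; rfl))
  have hτtr : ∀ x, τ (Algebra.trace F K x) = Algebra.trace F K (φ x) := fun x =>
    (algebraMap F K).injective (by rw [← hφalg, htr, htr]; simp only [map_add, map_pow])
  -- a normalised vector
  let f : Module.Dual F K :=
    { toFun := fun k => hermForm 5 F 2 (k • e₀) e₀
      map_add' := fun a c => by rw [add_smul, hf.add_left]
      map_smul' := fun a c => by rw [smul_assoc, hf.smul_left]; rfl }
  obtain ⟨a, ha⟩ : ∃ a : K, ∀ k, hermForm 5 F 2 (k • e₀) e₀ = Algebra.trace F K (a * k) :=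
    ⟨((Algebra.traceForm F K).toDual (traceForm_nondegenerate F K)).symm f, fun k => by
      rw [← Algebra.traceForm_apply, LinearMap.BilinForm.apply_toDual_symm_apply]; rfl⟩
  have haφ : φ a = a := by
    refine sub_eq_zero.1 ((traceForm_nondegenerate F K).1 _ fun k => ?_)
    rw [Algebra.traceForm_apply, sub_mul, map_sub, ← hφφ k, ← ha, ← map_mul, ← hτtr, ← ha, ← hf.herm, hφ', sub_self]
  have ha0 : a ≠ 0 := fun e => by
    obtain ⟨y, hy⟩ := CfsgLib.Maximal.un_exists hf e₀ he₀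
    obtain ⟨k, rfl⟩ := hspan₀ y
    rw [hf.herm, ha, e, zero_mul, map_zero, map_zero] at hy
    exact zero_ne_one hy
  obtain ⟨s₀, hs₀⟩ := exists_norm hφne hφφ (e := a⁻¹) (by rw [map_inv₀, haφ])
  have hs00 : s₀ ≠ 0 := fun e => by rw [e, zero_mul] at hs₀; exact inv_ne_zero ha0 hs₀.symm
  set e := s₀ • e₀
  have he : e ≠ 0 := smul_ne_zero hs00 he₀
  have hspan : ∀ v, ∃ k : K, v = k • e := fun v => by
    obtain ⟨k, hk⟩ := hspan₀ v
    exact ⟨k / s₀, by rw [smul_smul, div_mul_cancel₀ _ hs00, hk]⟩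
  have hhK : ∀ k l : K, hermForm 5 F 2 (k • e) (l • e) = Algebra.trace F K (k * φ l) := fun k l => by
    rw [hφ', hφ', smul_smul, smul_smul, smul_smul, ha]
    congr 1
    have := mul_inv_cancel₀ ha0
    linear_combination (k * φ l * a) * hs₀ + (k * φ l) * this
  -- an eleventh root of unity
  haveI : Fintype K := Fintype.ofFinite K
  obtain ⟨β, hβ⟩ : ∃ β : K, IsPrimitiveRoot β 11 := by
    haveI : Fact (Nat.Prime 11) := ⟨by norm_num⟩
    obtain ⟨x, hx⟩ := exists_prime_orderOf_dvd_card' (G := Kˣ) 11 (by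
      rw [Nat.card_units, hcK]; norm_num)
    exact ⟨(x : K), by rw [IsPrimitiveRoot.iff_orderOf, orderOf_units, hx]⟩
  let bp : Fin 11 → K := fun i => β ^ (i : ℕ)
  have hbadd : ∀ i j, bp (i + j) = bp i * bp j := fun i j => by
    simp only [bp, ← pow_add, Fin.val_add]
    exact (pow_eq_pow_mod _ hβ.pow_eq_one).symm
  have hbpow : ∀ (i : Fin 11) (n : ℕ) (j : Fin 11), (i : ℕ) * n % 11 = j → bp i ^ n = bp j := fun i n j h => by
    simp only [bp, ← pow_mul]
    rw [← h]
    exact pow_eq_pow_mod _ hβ.pow_eq_one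
  have hbmul : ∀ i j : Fin 11, bp j ^ (i : ℕ) = bp (j * i) := fun i j => hbpow j i _ (Fin.val_mul j i).symm
  have hb0 : bp 0 = 1 := by simp [bp]
  have hbinj : Function.Injective bp := fun i j h => Fin.ext (hβ.pow_inj i.2 j.2 h)
  have hroot : ∀ x : K, x ^ 11 = 1 → ∃ i, bp i = x := fun x hx => by
    obtain ⟨i, hi, hix⟩ := hβ.eq_pow_of_pow_eq_one hx
    exact ⟨⟨i, hi⟩, hix⟩
  set ω : F := Algebra.trace F K β
  set η := bp 1 + bp 4 + bp 5 + bp 9 + bp 3 with hη
  have hωη : algebraMap F K ω = η := by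
    rw [htr, show β = bp 1 from (pow_one β).symm, hbpow 1 4 4 rfl, hbpow 1 16 5 rfl, hbpow 1 64 9 rfl,
      hbpow 1 256 3 rfl]
  have hη2 : η ^ 2 = bp 2 + bp 8 + bp 10 + bp 7 + bp 6 := by
    have e : ∀ x y : K, (x + y) ^ 2 = x ^ 2 + y ^ 2 := fun x y => by linear_combination x * y * h2
    simp only [hη, e]
    rw [hbpow 1 2 2 rfl, hbpow 4 2 8 rfl, hbpow 5 2 10 rfl, hbpow 9 2 7 rfl, hbpow 3 2 6 rfl]
  have hsum : 1 + η + η ^ 2 = 0 := by
    have h := hβ.geom_sum_eq_zero (by norm_num)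
    rw [← h, hη2, hη]
    simp [bp, Finset.sum_range_succ]
    ring
  have hωeq : ω ^ 2 + ω + 1 = 0 := (algebraMap F K).injective (by
    rw [map_add, map_add, map_pow, hωη, map_one, map_zero]; linear_combination hsum)
  have hω0 : ω ≠ 0 := fun h => by rw [h] at hωeq; simp at hωeq
  let φ₂ : ZMod 2 →+* F :=
    haveI : CharP F 2 := (CharP.charP_iff_prime_eq_zero Nat.prime_two).2 (by exact_mod_cast h2F)
    ZMod.castHom (dvd_refl 2) F
  let ι : Q₄ → F := fun p => φ₂ p.1 + φ₂ p.2 * ω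
  have hιadd : ∀ p r, ι (p + r) = ι p + ι r := fun p r => by
    simp only [ι, Prod.fst_add, Prod.snd_add, map_add]; ring
  have hι0 : ι 0 = 0 := by simp [ι]
  have hι1 : ι (1, 0) = 1 := by simp [ι]
  have hιω : ι (0, 1) = ω := by simp [ι]
  have hιω2 : ι (1, 1) = ω ^ 2 := by simp [ι]; linear_combination -hωeq + (ω + 1) * h2F
  have hιinj : ∀ p r, ι p = ι r → p = r := fun p r h => by
    have hz : ι (p + r) = 0 := by rw [hιadd, h]; linear_combination ι r * h2F
    have key : ∀ z : Q₄, z = 0 ∨ z = (1, 0) ∨ z = (0, 1) ∨ z = (1, 1) := by decide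
    have hpr : p + r = 0 := by
      rcases key (p + r) with e' | e' | e' | e' <;> rw [e'] at hz ⊢
      · exact absurd (hι1.symm.trans hz) one_ne_zero
      · exact absurd (hιω.symm.trans hz) hω0
      · exact absurd (hιω2.symm.trans hz) (pow_ne_zero 2 hω0)
    have key2 : ∀ p r : Q₄, p + r = 0 → p = r := by decide
    exact key2 p r hpr
  have hιlist : ∀ l : List Q₄, ι l.sum = (l.map ι).sum := fun l => by
    induction l with
    | nil => simp [hι0]
    | cons x t ih => simp [hιadd, ih]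
  have hιsum : ∀ g : Fin 5 → Q₄, ι (∑ i, g i) = ∑ i, ι (g i) := fun g => by
    simp only [Fin.sum_univ_five, hιadd]
  have hιmul : ∀ p r, ι (pairMul p r) = ι p * ι r := fun p r => by
    simp only [ι, pairMul, map_add, map_mul]
    linear_combination -(φ₂ p.2 * φ₂ r.2) * hωeq + (φ₂ p.2 * φ₂ r.2 * (ω + 1)) * h2F
  have hγ : ∀ d, Algebra.trace F K (bp d) = ι (elevenTr d) := by
    have step : ∀ d j : Fin 11, (d : ℕ) * 2 % 11 = j →
        Algebra.trace F K (bp j) = Algebra.trace F K (bp d) ^ 2 := fun d j h => by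
      apply (algebraMap F K).injective
      have e : ∀ x y : K, (x + y) ^ 2 = x ^ 2 + y ^ 2 := fun x y => by linear_combination x * y * h2
      rw [map_pow (algebraMap F K), htr (bp j), htr (bp d), ← hbpow d 2 j h]
      simp only [e, ← pow_mul, mul_comm 2]
    have t1 : Algebra.trace F K (bp 1) = ω := congrArg _ (pow_one β)
    have t4' : ω ^ 4 = ω := by
      have h4 := FiniteField.pow_card ω
      rwa [hU.card, show (2 : ℕ) ^ 2 = 4 from rfl] at h4
    have t2 : Algebra.trace F K (bp 2) = ω ^ 2 := by rw [step 1 2 rfl, t1]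
    have t4 : Algebra.trace F K (bp 4) = ω := by rw [step 2 4 rfl, t2, ← pow_mul]; exact t4'
    have t8 : Algebra.trace F K (bp 8) = ω ^ 2 := by rw [step 4 8 rfl, t4]
    have t5 : Algebra.trace F K (bp 5) = ω := by rw [step 8 5 rfl, t8, ← pow_mul]; exact t4'
    have t10 : Algebra.trace F K (bp 10) = ω ^ 2 := by rw [step 5 10 rfl, t5]
    have t9 : Algebra.trace F K (bp 9) = ω := by rw [step 10 9 rfl, t10, ← pow_mul]; exact t4'
    have t7 : Algebra.trace F K (bp 7) = ω ^ 2 := by rw [step 9 7 rfl, t9]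
    have t3 : Algebra.trace F K (bp 3) = ω := by rw [step 7 3 rfl, t7, ← pow_mul]; exact t4'
    have t6 : Algebra.trace F K (bp 6) = ω ^ 2 := by rw [step 3 6 rfl, t3]
    have t0 : Algebra.trace F K (bp 0) = 1 := by
      apply (algebraMap F K).injective
      rw [htr, hb0, map_one]
      simp only [one_pow]
      linear_combination 2 * h2
    intro d
    fin_cases d <;> simp [elevenTr, hι1, hιω, hιω2, t0, t1, t2, t3, t4, t5, t6, t7, t8, t9, t10]
  have hφbp : ∀ i, φ (bp i) = bp (-i) := by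
    obtain ⟨j, hj⟩ := hroot (φ β) (by rw [← map_pow, hβ.pow_eq_one, map_one])
    have hφi : ∀ i, φ (bp i) = bp (j * i) := fun i => by
      show φ (β ^ (i : ℕ)) = _
      rw [map_pow, ← hj, hbmul]
    have hjj : j * j = 1 := hbinj (by rw [← hφi, hj, hφφ]; exact (pow_one β).symm)
    have key : ∀ j : Fin 11, j * j = 1 → j = 1 ∨ j = -1 := by decide
    have hj' := key j hjj
    rcases hj' with rfl | rfl
    · exfalso
      have h1 := hφalg ω
      rw [hωη, hU.pow, map_pow, hωη, show φ η = η by simp only [hη, map_add, hφi, one_mul]] at h1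
      have h3 : (1 : K) = 0 := by linear_combination hsum - h1 - η ^ 2 * h2 + (0 : K)
      exact one_ne_zero h3
    · exact fun i => by rw [hφi, neg_one_mul]
  let v : Fin 11 → Fin 5 → F := fun i => bp i • e
  have hvv : ∀ i j, hermForm 5 F 2 (v i) (v j) = ι (elevenTr (i - j)) := fun i j => by
    rw [hhK, hφbp, ← hbadd, ← sub_eq_add_neg, hγ]
  -- the two bases
  let w : Fin 11 → Fin 5 → F := fun i => ((elevenImg i).map v).sum
  have hw : ∀ i, w i = if i = 0 then v 0 else v (elevenInv i) + v 0 := fun i => by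
    simp only [w, elevenImg]; split_ifs <;> simp
  have hww : ∀ i j, hermForm 5 F 2 (w i) (w j) = ι (elevenTr (i - j)) := fun i j => by
    rw [← eleven_img_gram i j, hιlist]
    simp only [w, elevenImg]
    split_ifs <;> simp [hf.add_left, CfsgLib.Maximal.un_add_right hf, hvv, hιlist, hιadd]
  let G : Matrix (Fin 5) (Fin 5) F := Matrix.of fun i j => ι (elevenTr (elevenSq i - elevenSq j))
  have hG : IsUnit G := by
    refine (Matrix.isUnit_iff_isUnit_det G).2 (IsUnit.of_mul_eq_one (elevenGramInv.map ι).det ?_)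
    rw [← Matrix.det_mul, show G * elevenGramInv.map ι = 1 from ?_, Matrix.det_one]
    ext i j
    rw [Matrix.mul_apply, Matrix.one_apply]
    simp only [G, Matrix.of_apply, Matrix.map_apply, ← hιmul, ← hιsum, eleven_gram_inv]
    split_ifs <;> simp [hι0, hι1]
  obtain ⟨P, hcol, hJ⟩ := exists_coords hU.geom (Equiv.refl (Fin 5)) (fun k => v (elevenSq k)) hG
    (fun k l => hvv _ _)
  obtain ⟨P', hcol', hJ'⟩ := exists_coords hU.geom (Equiv.refl (Fin 5)) (fun k => w (elevenSq k)) hG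
    (fun k l => hww _ _)
  simp only [Equiv.coe_refl, Function.comp_id] at hcol hcol'
  have hextP : ∀ (Q : GL (Fin 5) F) (z : Fin 5 → Fin 5 → F),
      (∀ p, (Q : Matrix (Fin 5) (Fin 5) F) *ᵥ Pi.single p 1 = z p) →
      ∀ x y, (∀ k, hermForm 5 F 2 x (z k) = hermForm 5 F 2 y (z k)) → x = y := by
    intro Q z hz x y h
    by_contra hne
    obtain ⟨t, ht⟩ := CfsgLib.Maximal.un_exists hf (x - y) (sub_ne_zero.2 hne)
    obtain ⟨u, rfl⟩ : ∃ u, (Q : Matrix (Fin 5) (Fin 5) F) *ᵥ u = t :=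
      ⟨(↑Q⁻¹ : Matrix (Fin 5) (Fin 5) F) *ᵥ t, by rw [Matrix.mulVec_mulVec, Units.mul_inv, Matrix.one_mulVec]⟩
    have hu : (Q : Matrix (Fin 5) (Fin 5) F) *ᵥ u = ∑ k, u k • z k := by
      conv_lhs => rw [← (Pi.basisFun F (Fin 5)).sum_repr u, Matrix.mulVec_sum]
      simp [Matrix.mulVec_smul, ← hz]
    have hsub : ∀ r, hermForm 5 F 2 (x - y) r = hermForm 5 F 2 x r - hermForm 5 F 2 y r := fun r => by
      rw [eq_sub_iff_add_eq, ← hf.add_left, sub_add_cancel]
    rw [hsub, hu] at ht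
    simp only [Fin.sum_univ_five, CfsgLib.Maximal.un_add_right hf, CfsgLib.Maximal.un_smul_right hf, h, sub_self] at ht
    exact zero_ne_one ht
  have hext := hextP P _ hcol
  have hext' := hextP P' _ hcol'
  let s : GL (Fin 5) F := P' * P⁻¹
  have hsP : ∀ u, (s : Matrix (Fin 5) (Fin 5) F) *ᵥ ((P : Matrix (Fin 5) (Fin 5) F) *ᵥ u) =
      (P' : Matrix (Fin 5) (Fin 5) F) *ᵥ u := fun u => by
    rw [Matrix.mulVec_mulVec, ← Units.val_mul]; simp [s]
  have hsiso : ∀ x y, hermForm 5 F 2 ((s : Matrix (Fin 5) (Fin 5) F) *ᵥ x) ((s : Matrix (Fin 5) (Fin 5) F) *ᵥ y) =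
      hermForm 5 F 2 x y := fun x y => by
    obtain ⟨x, rfl⟩ : ∃ u, (P : Matrix (Fin 5) (Fin 5) F) *ᵥ u = x :=
      ⟨(↑P⁻¹ : Matrix (Fin 5) (Fin 5) F) *ᵥ x, by rw [Matrix.mulVec_mulVec, Units.mul_inv, Matrix.one_mulVec]⟩
    obtain ⟨y, rfl⟩ : ∃ u, (P : Matrix (Fin 5) (Fin 5) F) *ᵥ u = y :=
      ⟨(↑P⁻¹ : Matrix (Fin 5) (Fin 5) F) *ᵥ y, by rw [Matrix.mulVec_mulVec, Units.mul_inv, Matrix.one_mulVec]⟩
    have h1 := coord_form hU.geom (Equiv.refl (Fin 5)) P x y
    have h1' := coord_form hU.geom (Equiv.refl (Fin 5)) P' x y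
    simp only [Equiv.coe_refl, Function.comp_id] at h1 h1'
    rw [hsP, hsP, h1', hJ', h1, hJ]
  have hsv : ∀ i, (s : Matrix (Fin 5) (Fin 5) F) *ᵥ v i = w i := fun i => hext' _ _ fun k => by
    beta_reduce
    rw [hww, ← hvv, ← hsiso (v i) (v (elevenSq k))]
    congr 1
    rw [← hcol', ← hsP, hcol]
  have hvadd : ∀ x : Fin 5 → F, x + x = 0 := fun x => funext fun i => by
    show x i + x i = 0
    linear_combination x i * h2F
  have hs0 : (s : Matrix (Fin 5) (Fin 5) F) *ᵥ v 0 = v 0 := by rw [hsv, hw, if_pos rfl]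
  have hsi : ∀ i, i ≠ 0 → (s : Matrix (Fin 5) (Fin 5) F) *ᵥ v i = v (elevenInv i) + v 0 := fun i hi => by
    rw [hsv, hw, if_neg hi]
  have hinvol : (s : Matrix (Fin 5) (Fin 5) F) * (s : Matrix (Fin 5) (Fin 5) F) = 1 := by
    refine Matrix.toLin'.injective (LinearMap.ext fun x => ?_)
    rw [Matrix.toLin'_apply, Matrix.toLin'_apply, Matrix.one_mulVec]
    obtain ⟨u, rfl⟩ : ∃ u, (P : Matrix (Fin 5) (Fin 5) F) *ᵥ u = x :=
      ⟨(↑P⁻¹ : Matrix (Fin 5) (Fin 5) F) *ᵥ x, by rw [Matrix.mulVec_mulVec, Units.mul_inv, Matrix.one_mulVec]⟩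
    conv_lhs => rw [← (Pi.basisFun F (Fin 5)).sum_repr u]
    conv_rhs => rw [← (Pi.basisFun F (Fin 5)).sum_repr u]
    simp only [Matrix.mulVec_sum, Matrix.mulVec_smul, Pi.basisFun_apply, hcol]
    refine Finset.sum_congr rfl fun k _ => congrArg _ ?_
    have key : ∀ k, elevenSq k ≠ 0 := by decide
    have hk := key k
    obtain ⟨hii, hi0, -⟩ := eleven_inv_facts (elevenSq k)
    rw [← Matrix.mulVec_mulVec, hsi _ hk, Matrix.mulVec_add, hsi _ (hi0 hk), hs0, hii, add_assoc, hvadd, add_zero]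
  have hsdet : Matrix.GeneralLinearGroup.det s = 1 := Units.ext (by
    rw [Matrix.GeneralLinearGroup.val_det_apply, Units.val_one]
    have h := congrArg Matrix.det hinvol
    rw [Matrix.det_mul, Matrix.det_one] at h
    exact sub_eq_zero.1 (mul_self_eq_zero.1 (by
      linear_combination h + (1 - (s : Matrix (Fin 5) (Fin 5) F).det) * h2F)))
  have hsΩ : s ∈ GU 5 F 2 ⊓ specialLinear (Fin 5) F := ⟨hsiso, hsdet⟩
  -- the action of `H` on the eleven vectors
  have hspanK : ∀ k : K, ∃ x : Fin 5 → F, k = ∑ i, algebraMap F K (x i) * bp (elevenSq i) := fun k => by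
    refine ⟨(↑P⁻¹ : Matrix (Fin 5) (Fin 5) F) *ᵥ (k • e), smul_left_injective K he ?_⟩
    simp only [Finset.sum_smul, ← smul_smul, algebraMap_smul]
    conv_lhs => rw [← Matrix.one_mulVec (k • e), ← Units.mul_inv P, ← Matrix.mulVec_mulVec,
      ← (Pi.basisFun F (Fin 5)).sum_repr ((↑P⁻¹ : Matrix (Fin 5) (Fin 5) F) *ᵥ (k • e))]
    simp only [Matrix.mulVec_sum, Matrix.mulVec_smul, Pi.basisFun_apply, hcol, Pi.basisFun_repr]
    rfl
  have hφ32 : ∀ k : K, φ k = k ^ 32 := fun k => by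
    haveI : CharP K 2 := (CharP.charP_iff_prime_eq_zero Nat.prime_two).2 (by exact_mod_cast h2)
    haveI : ExpChar K 2 := ExpChar.prime Nat.prime_two
    obtain ⟨x, rfl⟩ := hspanK k
    rw [show (32 : ℕ) = 2 ^ 5 from rfl, map_sum, sum_pow_char_pow 2 5]
    refine Finset.sum_congr rfl fun i _ => ?_
    rw [map_mul, mul_pow, hφalg, hφbp, hbpow _ _ (-(elevenSq i)) (by revert i; decide), ← map_pow, hU.pow]
    congr 2
    have h4 := FiniteField.pow_card (x i)
    rw [hU.card] at h4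
    calc x i ^ 2 = ((x i ^ 2 ^ 2) ^ 2 ^ 2) ^ 2 := by rw [h4, h4]
      _ = x i ^ 2 ^ 5 := by rw [← pow_mul, ← pow_mul]; norm_num
  have hmono : ∀ g ∈ H, ∃ a b : Fin 11, a ≠ 0 ∧
      ∀ i, (g : Matrix (Fin 5) (Fin 5) F) *ᵥ v i = v (a * i + b) := by
    intro g hg
    have hgN := hleK hg
    set Gm := (g : Matrix (Fin 5) (Fin 5) F) with hGm
    obtain ⟨α, hα⟩ : ∃ α : K ≃ₐ[F] K, ∀ (k : K) x, Gm *ᵥ (k • x) = α k • (Gm *ᵥ x) := by
      have hgN' := (subalgebraNormalizer K).inv_mem hgN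
      refine ⟨{ toFun := fun k => ⟨_, (hgN (k : Matrix (Fin 5) (Fin 5) F)).1 k.2⟩
                invFun := fun k => ⟨_, (hgN' (k : Matrix (Fin 5) (Fin 5) F)).1 k.2⟩
                left_inv := fun k => Subtype.ext (by simp [← mul_assoc])
                right_inv := fun k => Subtype.ext (by simp [← mul_assoc])
                map_mul' := fun a c => Subtype.ext (by simp [mul_assoc])
                map_add' := fun a c => Subtype.ext (by simp [mul_add, add_mul])
                commutes' := fun c => Subtype.ext (by simp [Algebra.algebraMap_eq_smul_one]) }, fun k x => ?_⟩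
      show Gm *ᵥ ((k : Matrix (Fin 5) (Fin 5) F) *ᵥ x) =
        (Gm * (k : Matrix (Fin 5) (Fin 5) F) * (↑g⁻¹ : Matrix (Fin 5) (Fin 5) F)) *ᵥ (Gm *ᵥ x)
      simp [Matrix.mulVec_mulVec, mul_assoc, hGm]
    obtain ⟨c, hc⟩ := hspan (Gm *ᵥ e)
    have hgU : ∀ x y, hermForm 5 F 2 (Gm *ᵥ x) (Gm *ᵥ y) = hermForm 5 F 2 x y := (hH.1.le hg).1
    have hc33 : c ^ 33 = 1 := by
      have h1 : c * φ c = 1 := by
        refine sub_eq_zero.1 ((traceForm_nondegenerate F K).1 _ fun k => ?_)
        rw [Algebra.traceForm_apply, sub_mul, one_mul, map_sub, sub_eq_zero]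
        have h3 := hgU (α.symm k • e) e
        rw [hα, AlgEquiv.apply_symm_apply, hc, smul_smul, hhK] at h3
        conv_rhs => rw [← Algebra.trace_eq_of_algEquiv α.symm k]
        rw [show c * φ c * k = k * c * φ c by ring, h3]
        conv_lhs => rw [show e = (1 : K) • e from (one_smul K e).symm]
        rw [smul_smul, hhK, map_one, mul_one, mul_one]
      rw [hφ32] at h1
      rw [pow_succ']
      exact h1
    obtain ⟨a, ha'⟩ := hroot (α β) (by rw [← map_pow, hβ.pow_eq_one, map_one])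
    have hαbp : ∀ i, α (bp i) = bp (a * i) := fun i => by
      show α (β ^ (i : ℕ)) = _
      rw [map_pow, ← ha', hbmul]
    have hgv : ∀ i, Gm *ᵥ v i = (bp (a * i) * c) • e := fun i => by
      rw [hα, hαbp, hc, smul_smul]
    rcases eleven_square_or a with rfl | ⟨m, hm⟩ | hnr
    · exfalso
      rw [hb0] at ha'
      exact hβ.ne_one (by norm_num) (α.injective (by rw [← ha', map_one]))
    swap
    · exfalso
      have h1 := Algebra.trace_eq_of_algEquiv α β
      rw [← ha', hγ, hnr, hιω2] at h1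
      have h3 : (1 : F) = 0 := by linear_combination hωeq - h1 - ω * h2F
      exact one_ne_zero h3
    let π : Equiv.Perm (Fin 5) := Equiv.addRight m
    let Q₀ : Matrix (Fin 5) (Fin 5) F := (1 : Matrix (Fin 5) (Fin 5) F).submatrix π.symm id
    have hQ : Q₀.det = 1 := by
      rw [Matrix.det_permute, Matrix.det_one, mul_one]
      rcases Int.units_eq_one_or (Equiv.Perm.sign π.symm) with e' | e' <;> rw [e'] <;> simp
      linear_combination -h2F
    have hdec : Gm * (P : Matrix (Fin 5) (Fin 5) F) =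
        (c : Matrix (Fin 5) (Fin 5) F) * (P : Matrix (Fin 5) (Fin 5) F) * Q₀ := by
      refine Matrix.toLin'.injective ((Pi.basisFun F (Fin 5)).ext fun k => ?_)
      rw [Pi.basisFun_apply, Matrix.toLin'_apply, Matrix.toLin'_apply, ← Matrix.mulVec_mulVec, hcol, hgv, hm,
        ← Matrix.mulVec_mulVec, show Q₀ *ᵥ Pi.single k (1 : F) = Pi.single (k + m) 1 from ?_,
        ← Matrix.mulVec_mulVec, hcol, mul_comm]
      · rw [← smul_smul, hsm]
      · funext i
        simp [Q₀, π, Pi.single_apply, Matrix.one_apply, ← sub_eq_add_neg, sub_eq_iff_eq_add]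
    have hcdet : (c : Matrix (Fin 5) (Fin 5) F).det = 1 := by
      have hd : Matrix.GeneralLinearGroup.det g = 1 := (hH.1.le hg).2
      have h := congrArg Matrix.det hdec
      rw [Matrix.det_mul, Matrix.det_mul, Matrix.det_mul, hQ, mul_one, hGm, ← Matrix.GeneralLinearGroup.val_det_apply g,
        hd, Units.val_one] at h
      exact (mul_right_cancel₀ ((Matrix.isUnit_iff_isUnit_det _).1 P.isUnit).ne_zero h).symm
    have hc341 : c ^ 341 = 1 := by
      let l : (Fin 5 → F) →ₗ[K] (Fin 5 → F) := c • LinearMap.id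
      have e1 : l.restrictScalars F = Matrix.toLin' (c : Matrix (Fin 5) (Fin 5) F) :=
        LinearMap.ext fun x => by simp [l, hsm]
      have e2 := LinearMap.det_restrictScalars (R := F) (f := l)
      rw [e1, LinearMap.det_toLin', hcdet, LinearMap.det_smul, hrk, LinearMap.det_id, mul_one, pow_one] at e2
      have e3 := congrArg (algebraMap F K) e2
      rw [map_one, FiniteField.algebraMap_norm_eq_pow, hcK, hcF] at e3
      simpa using e3.symm
    have hc11 : c ^ 11 = 1 := by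
      calc c ^ 11 = (c ^ 33) ^ 10 * c ^ 11 := by rw [hc33, one_pow, one_mul]
        _ = 1 := by rw [← pow_mul, ← pow_add, hc341]
    obtain ⟨b, hb⟩ := hroot c hc11
    refine ⟨a, b, fun e' => ?_, fun i => ?_⟩
    · have h := hm 0
      rw [e', zero_mul, zero_add] at h
      have key : ∀ m, (0 : Fin 11) ≠ elevenSq m := by decide
      exact key m h
    · rw [hgv, ← hb, ← hbadd]
  -- the configuration
  let S : Set (Fin 5 → F) := {x | ∃ i, x = v i ∨ ∃ j, i ≠ j ∧ x = v i + v j}
  let X : Subgroup (GL (Fin 5) F) :=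
    { carrier := {g | ∀ x, (g : Matrix (Fin 5) (Fin 5) F) *ᵥ x ∈ S ↔ x ∈ S}
      one_mem' := fun x => by simp
      mul_mem' := fun {a c} ha hc x => by
        rw [Units.val_mul, ← Matrix.mulVec_mulVec]; exact (ha _).trans (hc x)
      inv_mem' := fun {a} ha x => by
        rw [← ha ((↑a⁻¹ : Matrix (Fin 5) (Fin 5) F) *ᵥ x), Matrix.mulVec_mulVec, Units.mul_inv, Matrix.one_mulVec] }
  have hHX : H ≤ X := fun g hg x => by
    have hfw : ∀ g ∈ H, ∀ x ∈ S, (g : Matrix (Fin 5) (Fin 5) F) *ᵥ x ∈ S := by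
      intro g hg x hx
      obtain ⟨a, b, ha, hv⟩ := hmono g hg
      obtain ⟨i, rfl | ⟨j, hij, rfl⟩⟩ := hx
      · exact ⟨_, Or.inl (hv i)⟩
      · refine ⟨_, Or.inr ⟨a * j + b, fun e' => hij ?_, by rw [Matrix.mulVec_add, hv, hv]⟩⟩
        have e'' := add_right_cancel e'
        have key : ∀ a i j : Fin 11, a ≠ 0 → a * i = a * j → i = j := by decide
        exact key a i j ha e''
    refine ⟨fun h => ?_, hfw g hg x⟩
    have := hfw _ (H.inv_mem hg) _ h
    rwa [Matrix.mulVec_mulVec, Units.inv_mul, Matrix.one_mulVec] at this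
  have hsX : s ∈ X := fun x => by
    have hfw : ∀ x ∈ S, (s : Matrix (Fin 5) (Fin 5) F) *ᵥ x ∈ S := by
      intro x hx
      obtain ⟨i, rfl | ⟨j, hij, rfl⟩⟩ := hx
      · rcases eq_or_ne i 0 with rfl | hi
        · exact ⟨0, Or.inl hs0⟩
        · exact ⟨_, Or.inr ⟨0, (eleven_inv_facts i).2.1 hi, hsi i hi⟩⟩
      rw [Matrix.mulVec_add]
      rcases eq_or_ne i 0 with rfl | hi
      · exact ⟨elevenInv j, Or.inl (by
          rw [hs0, hsi j (Ne.symm hij), add_comm, add_assoc, hvadd, add_zero])⟩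
      rcases eq_or_ne j 0 with rfl | hj
      · exact ⟨elevenInv i, Or.inl (by rw [hs0, hsi i hi, add_assoc, hvadd, add_zero])⟩
      · exact ⟨elevenInv i, Or.inr ⟨elevenInv j, fun e' => hij ((eleven_inv_facts i).2.2 j e'), by
          rw [hsi i hi, hsi j hj, add_add_add_comm, hvadd, add_zero]⟩⟩
    refine ⟨fun h => ?_, hfw x⟩
    have := hfw _ h
    rwa [Matrix.mulVec_mulVec, hinvol, Matrix.one_mulVec] at this
  set z := v 1 + v 2 + v 3 + v 4
  have hzl : hermForm 5 F 2 (v 0) z = 1 := by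
    simp only [z, CfsgLib.Maximal.un_add_right hf, hvv, ← hιadd]
    rw [show elevenTr (0 - 1) + elevenTr (0 - 2) + elevenTr (0 - 3) + elevenTr (0 - 4) = ((1, 0) : Q₄) by decide, hι1]
  have hzz : hermForm 5 F 2 z z = 0 := by
    simp only [z, hf.add_left, CfsgLib.Maximal.un_add_right hf, hvv, ← hιadd]
    rw [← hι0]
    congr 1
  have hk1 : τ (1 : F) = -1 := by rw [map_one]; linear_combination h2F
  have hnX : ¬ GU 5 F 2 ⊓ specialLinear (Fin 5) F ≤ X := fun hall => by
    have h := (hall (utv_mem hU hzz hk1) (v 0)).2 ⟨0, Or.inl rfl⟩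
    rw [utv_apply hU hzz, hzl, one_mul, one_smul] at h
    have key : ∀ k, hermForm 5 F 2 (v 0 + z) (v (elevenSq k)) =
        ι (([0, 1, 2, 3, 4] : List (Fin 11)).map fun x => elevenTr (x - elevenSq k)).sum := fun k => by
      simp only [z, hf.add_left, hvv, List.map, List.sum_cons, List.sum_nil, hιadd, hι0]
      ring
    obtain ⟨i, h | ⟨j, hij, h⟩⟩ := h
    · obtain ⟨k, hk⟩ := (eleven_moved i i).1
      exact hk (hιinj _ _ (by rw [← key, h, hvv]))
    · obtain ⟨k, hk⟩ := (eleven_moved i j).2 hij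
      exact hk (hιinj _ _ (by rw [← key, h, hf.add_left, hvv, hvv, hιadd]))
  have hsH : s ∈ H := su_eq_inf hH hHX hnX ▸ ⟨hsX, hsΩ⟩
  obtain ⟨a, b, -, hv⟩ := hmono s hsH
  have h1 := hv 1
  rw [hsi 1 (by decide), mul_one] at h1
  obtain ⟨k, hk⟩ := eleven_single (a + b)
  refine hk (hιinj _ _ ?_)
  rw [hιadd, ← hvv, ← hvv, ← hf.add_left, ← hvv]
  exact congrArg (fun x => hermForm 5 F 2 x (v (elevenSq k))) h1

end CfsgLib.AschbacherForm.Cases
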