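import Cfsg.Agent.Lib.AschbacherForm.Cases.UnitTwo
import Mathlib.RingTheory.Norm.Transitivity
import Mathlib.FieldTheory.Finite.GaloisField

/-!
`SU₆(2)`: the normaliser of an adjoint-closed cubic subfield lies in a symplectic subfield group.
-/

set_option autoImplicit false
set_option linter.unusedSectionVars false

namespace CfsgLib.AschbacherForm.Cases

open Cfsg Cfsg.Geo CfsgLib.Aschbacher
open scoped Matrix MatrixGroups

universe u
variable {F : Type u} [Field F] [Fintype F] {q : ℕ} {τ : F ≃+* F}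

/-- A seventh root of unity fixed up to inversion by a ring endomorphism is trivial in characteristic two. -/
theorem seventh_root_eq_one {L : Type*} [Field L] (h2 : (2 : L) = 0) (φ : L →+* L) {y : L} (hy : y ^ 7 = 1)
    (hφ : φ y = y⁻¹) : y = 1 := by
  by_contra hne
  have hy0 : y ≠ 0 := fun e => by rw [e] at hy; simp at hy
  have h1 : (y - 1) * ((y ^ 3 + y + 1) * (y ^ 3 + y ^ 2 + 1)) = 0 := by
    linear_combination hy + (y ^ 4 - y ^ 3) * h2
  have h3 : y ^ 3 + y + 1 = 0 ∧ y ^ 3 + y ^ 2 + 1 = 0 := by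
    rcases mul_eq_zero.1 ((mul_eq_zero.1 h1).resolve_left (sub_ne_zero.2 hne)) with h | h <;>
      refine ⟨?_, ?_⟩ <;> first | exact h | skip
    · have := congrArg φ h
      simp only [map_add, map_pow, map_one, map_zero, hφ, inv_pow] at this
      field_simp at this
      linear_combination this
    · have := congrArg φ h
      simp only [map_add, map_pow, map_one, map_zero, hφ, inv_pow] at this
      field_simp at this
      linear_combination this
  have h4 : y * (y - 1) = 0 := by linear_combination h3.2 - h3.1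
  exact hne (sub_eq_zero.1 ((mul_eq_zero.1 h4).resolve_left hy0))

/-- In `SU₆(2)` the normaliser of an adjoint-closed cubic subfield lies in a symplectic subfield group. -/
theorem subfield_of_field_two (hU : UForm 6 q τ) (hq : q = 2) {K : Subalgebra F (Matrix (Fin 6) (Fin 6) F)}
    (hK : IsFieldSubalgebra 3 K) (hadj : IsAdjointClosedFor (hermForm 6 F q) K) :
    ∃ (F₀ : Subfield F) (P : GL (Fin 6) F) (ζ : F), Fintype.card F = Nat.card F₀ ^ 2 ∧ ζ ≠ 0 ∧ ζ + ζ ^ q = 0 ∧
      IsFormRationalStructure (hermForm 6 F q) F₀ ζ P ∧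
      (∀ u : Fin 6 → F, (∀ i, u i ∈ F₀) → hermForm 6 F q ((P : Matrix (Fin 6) (Fin 6) F) *ᵥ u)
        ((P : Matrix (Fin 6) (Fin 6) F) *ᵥ u) = 0) ∧
      subalgebraNormalizer K ⊓ (GU 6 F q ⊓ specialLinear (Fin 6) F) ≤ subfieldSubgroup F₀ P := by
  classical
  subst hq
  have hcF : Nat.card F = 4 := by rw [Nat.card_eq_fintype_card, hU.card]; norm_num
  have h2F : (2 : F) = 0 := by
    by_contra h
    exact absurd (hU.two_iff.1 h) (by decide)
  have hKF : IsField K :=
    { exists_pair_ne := ⟨1, 0, fun h => one_ne_zero (congrArg Subtype.val h : (1 : Matrix (Fin 6) (Fin 6) F) = 0)⟩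
      mul_comm := fun a b => Subtype.ext (hK.comm _ a.2 _ b.2)
      mul_inv_cancel := fun {a} ha => by
        obtain ⟨y, hy, h⟩ := hK.inv a a.2 fun e => ha (Subtype.ext e)
        exact ⟨⟨y, hy⟩, Subtype.ext h⟩ }
  letI : Field K := hKF.toField
  letI : Module K (Fin 6 → F) :=
    { smul := fun k v => (k : Matrix (Fin 6) (Fin 6) F) *ᵥ v
      one_smul := fun v => Matrix.one_mulVec v
      mul_smul := fun a b v => (Matrix.mulVec_mulVec v _ _).symm
      smul_zero := fun a => Matrix.mulVec_zero _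
      smul_add := fun a v w => Matrix.mulVec_add _ v w
      add_smul := fun a b v => Matrix.add_mulVec _ _ v
      zero_smul := fun v => Matrix.zero_mulVec v }
  have hsm : ∀ (k : K) (v : Fin 6 → F), k • v = (k : Matrix (Fin 6) (Fin 6) F) *ᵥ v := fun _ _ => rfl
  haveI : IsScalarTower F K (Fin 6 → F) := ⟨fun c k v => Matrix.smul_mulVec c _ v⟩
  haveI : Finite (Matrix (Fin 6) (Fin 6) F) := inferInstanceAs (Finite (Fin 6 → Fin 6 → F))
  haveI : Finite K := Subtype.finite
  have hcK : Nat.card K = 64 := by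
    rw [Module.natCard_eq_pow_finrank (K := F) (V := K), hK.finrank_eq, hcF]; norm_num
  have h2 : (2 : K) = 0 := by rw [← map_ofNat (algebraMap F K) 2, h2F, map_zero]
  have hrk : Module.finrank K (Fin 6 → F) = 2 := by
    have h := Module.finrank_mul_finrank F K (Fin 6 → F)
    rw [hK.finrank_eq, Module.finrank_fin_fun] at h
    omega
  let bK := Module.finBasisOfFinrankEq K (Fin 6 → F) hrk
  let X : (Fin 6 → F) → Fin 2 → K := fun v i => bK.repr v i
  have hXadd : ∀ v w i, X (v + w) i = X v i + X w i := fun v w i => by simp [X]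
  have hXsmul : ∀ (k : K) v i, X (k • v) i = k * X v i := fun k v i => by simp [X]
  have hXsum : ∀ v, X v 0 • bK 0 + X v 1 • bK 1 = v := fun v => by
    have h := bK.sum_repr v
    rwa [Fin.sum_univ_two] at h
  -- the alternating `K`-form
  let D : (Fin 6 → F) → (Fin 6 → F) → K := fun v w => X v 0 * X w 1 + X v 1 * X w 0
  have hDadd : ∀ u v w, D (u + v) w = D u w + D v w := fun u v w => by simp only [D, hXadd]; ring
  have hDsmul : ∀ k v w, D (k • v) w = k * D v w := fun k v w => by simp only [D, hXsmul]; ring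
  have hDcomm : ∀ v w, D v w = D w v := fun v w => by simp only [D]; ring
  have hDsmul' : ∀ k v w, D v (k • w) = k * D v w := fun k v w => by rw [hDcomm, hDsmul, hDcomm]
  have hDself : ∀ v, D v v = 0 := fun v => by linear_combination (X v 0 * X v 1) * h2
  have hDnd : ∀ w, (∀ v, D v w = 0) → w = 0 := fun w h => by
    have h0 := h (bK 0)
    have h1 := h (bK 1)
    simp only [D, X, Module.Basis.repr_self] at h0 h1
    simp at h0 h1
    rw [← hXsum w]
    simp [X, h0, h1]
  -- the bilinear form and the semilinear map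
  haveI : Module.Finite F K := Module.Finite.of_finite
  haveI : FiniteDimensional F K := inferInstance
  let b : (Fin 6 → F) → (Fin 6 → F) → F := fun v w => Algebra.trace F K (D v w)
  have hbcomm : ∀ v w, b v w = b w v := fun v w => by simp only [b]; rw [hDcomm]
  have hbk : ∀ (k : K) v w, b (k • v) w = b v (k • w) := fun k v w => by simp only [b]; rw [hDsmul, hDsmul']
  have hbadd : ∀ u v w, b (u + v) w = b u w + b v w := fun u v w => by simp only [b]; rw [hDadd, map_add]
  have hbsmul : ∀ (c : F) v w, b (c • v) w = c * b v w := fun c v w => by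
    simp only [b]
    rw [← algebraMap_smul K c v, hDsmul, ← Algebra.smul_def, map_smul, smul_eq_mul]
  have hbnd : ∀ w, (∀ v, b v w = 0) → w = 0 := fun w h => hDnd w fun v => by
    refine (traceForm_nondegenerate F K).1 _ fun k => ?_
    rw [Algebra.traceForm_apply, mul_comm]
    simpa [b, hDsmul] using h (k • v)
  have hf := unitaryForm hU
  have hh1 : ∀ v u : Fin 6 → F, hermForm 6 F 2 v u = ∑ i, v i * τ (u i) := fun v u => by
    simp only [hermForm, hU.pow]
  let T : (Fin 6 → F) → (Fin 6 → F) := fun w i => τ (b (Pi.single i 1) w)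
  have hhT : ∀ v w, hermForm 6 F 2 v (T w) = b v w := fun v w => by
    let L : (Fin 6 → F) →ₗ[F] F :=
      { toFun := fun v => b v w
        map_add' := fun a c => hbadd a c w
        map_smul' := fun a c => hbsmul a c w }
    rw [hh1, show b v w = L v from rfl]
    conv_rhs => rw [← (Pi.basisFun F (Fin 6)).sum_repr v, map_sum]
    refine Finset.sum_congr rfl fun i _ => ?_
    simp [T, L, hU.invol, hbsmul]
  have hnd : ∀ x y : Fin 6 → F, (∀ v, hermForm 6 F 2 v x = hermForm 6 F 2 v y) → x = y := fun x y h => by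
    funext i
    have := h (Pi.single i 1)
    simp only [hh1, Pi.single_apply, ite_mul, one_mul, zero_mul, Finset.sum_ite_eq', Finset.mem_univ, if_true] at this
    exact τ.injective this
  -- the adjoint
  obtain ⟨φ, hφ⟩ : ∃ φ : K ≃+* K, ∀ (k : K) v w, hermForm 6 F 2 (k • v) w = hermForm 6 F 2 v (φ k • w) := by
    have hA := (hU.geom.adjClosed_iff K).1 hadj
    refine ⟨{ toFun := fun k => ⟨adj τ 1 (k : Matrix (Fin 6) (Fin 6) F), hA _ k.2⟩
              invFun := fun k => ⟨adj τ 1 (k : Matrix (Fin 6) (Fin 6) F), hA _ k.2⟩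
              left_inv := fun k => Subtype.ext (adj_adj hU.geom _)
              right_inv := fun k => Subtype.ext (adj_adj hU.geom _)
              map_mul' := fun a c => Subtype.ext ?_
              map_add' := fun a c => Subtype.ext (adj_add τ 1 _ _) }, fun k v w => hU.geom.mulVec_left _ v w⟩
    show adj τ 1 ((a : Matrix (Fin 6) (Fin 6) F) * (c : Matrix (Fin 6) (Fin 6) F)) =
      adj τ 1 (a : Matrix (Fin 6) (Fin 6) F) * adj τ 1 (c : Matrix (Fin 6) (Fin 6) F)
    rw [adj_mul]
    exact hK.comm _ (hA _ c.2) _ (hA _ a.2)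
  have hswap : ∀ v w, hermForm 6 F 2 (T v) w = τ (hermForm 6 F 2 v (T w)) := fun v w => by
    rw [hf.herm, hhT, hhT, hbcomm]
  have hφφ : ∀ k, φ (φ k) = k := fun k => by
    refine eq_of_sub_eq_zero ?_
    by_contra hne
    have h0 : ∀ v : Fin 6 → F, (φ (φ k) - k) • v = 0 := fun v => by
      rw [sub_smul, sub_eq_zero]
      refine hnd _ _ fun u => ?_
      rw [← hφ, hf.herm (φ k • u) v, ← hφ, ← hf.herm]
    exact bK.ne_zero 0 ((smul_eq_zero.1 (h0 (bK 0))).resolve_left hne)
  have hTk : ∀ (k : K) w, T (k • w) = φ k • T w := fun k w => hnd _ _ fun v => by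
    rw [hhT, ← hbk, ← hhT, hφ]
  have hTadd : ∀ v w, T (v + w) = T v + T w := fun v w => funext fun i => by
    simp only [T, Pi.add_apply]
    rw [hbcomm, hbadd, hbcomm v, hbcomm w, map_add]
  have hTinj : ∀ w, T w = 0 → w = 0 := fun w h => hbnd w fun v => by
    rw [← hhT, h]; simp [hh1]
  -- its square is a scalar
  have hMD : ∀ v, D (T (T v)) v = 0 := fun v => by
    have h0 : ∀ u, b (T (T u)) u = 0 := fun u => by
      rw [← hhT, hswap, hhT]
      simp [b, hDself]
    refine (traceForm_nondegenerate F K).1 _ fun k => ?_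
    obtain ⟨c, hc⟩ := exists_sq h2 k
    rw [Algebra.traceForm_apply, mul_comm, ← hc]
    have := h0 (c • v)
    simp only [b, hTk, hφφ, hDsmul, hDsmul'] at this
    rw [mul_assoc]
    exact this
  set lam := X (T (T (bK 0))) 0 with hlam
  have hTT : ∀ v, T (T v) = lam • v := fun v => by
    have e0 : X (T (T (bK 0))) 1 = 0 := by
      have := hMD (bK 0); simpa [D, X] using this
    have e1 : X (T (T (bK 1))) 0 = 0 := by
      have := hMD (bK 1); simpa [D, X] using this
    have e2 : X (T (T (bK 1))) 1 = lam := by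
      have := hMD (bK 0 + bK 1)
      simp only [hTadd, D, hXadd, e0, e1] at this
      simp [X] at this
      rw [hlam]
      linear_combination this - lam * h2
    have f0 : T (T (bK 0)) = lam • bK 0 := by
      conv_lhs => rw [← hXsum (T (T (bK 0))), e0, zero_smul, add_zero]
    have f1 : T (T (bK 1)) = lam • bK 1 := by
      conv_lhs => rw [← hXsum (T (T (bK 1))), e1, e2, zero_smul, zero_add]
    conv_lhs => rw [← hXsum v, hTadd, hTadd, hTk, hTk, hTk, hTk, hφφ, hφφ, f0, f1, smul_comm, smul_comm (X v 1)]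
    rw [← smul_add, hXsum]
  have hlam0 : lam ≠ 0 := fun e => bK.ne_zero 0 (hTinj _ (hTinj _ (by rw [hTT, e, zero_smul])))
  have hlamφ : φ lam = lam := by
    have h1 : φ lam • T (bK 0) = lam • T (bK 0) := by rw [← hTk, ← hTT, hTT]
    exact sub_eq_zero.1 ((smul_eq_zero.1 (show (φ lam - lam) • T (bK 0) = 0 by rw [sub_smul, h1, sub_self])).resolve_right
      fun e => bK.ne_zero 0 (hTinj _ e))
  -- normalise
  have hφalg : ∀ c : F, φ (algebraMap F K c) = algebraMap F K (τ c) := fun c => by
    refine sub_eq_zero.1 ?_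
    by_contra hne
    refine bK.ne_zero 0 ((smul_eq_zero.1 (?_ : (φ (algebraMap F K c) - algebraMap F K (τ c)) • bK 0 = 0)).resolve_left hne)
    rw [sub_smul, sub_eq_zero, algebraMap_smul]
    refine hnd _ _ fun v => ?_
    rw [← hφ, algebraMap_smul, hf.smul_left, CfsgLib.Maximal.un_smul_right hf, hU.invol]
  have hφne : φ ≠ RingEquiv.refl K := fun e => hU.ne (RingEquiv.ext fun c =>
    (algebraMap F K).injective (by rw [← hφalg, e]; rfl))
  obtain ⟨cc, hcc⟩ := exists_norm hφne hφφ (e := lam⁻¹) (by rw [map_inv₀, hlamφ])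
  have hcc0 : cc ≠ 0 := fun e => by rw [e, zero_mul] at hcc; exact inv_ne_zero hlam0 hcc.symm
  let S : (Fin 6 → F) → (Fin 6 → F) := fun w => φ cc • T w
  let β : (Fin 6 → F) → (Fin 6 → F) → F := fun v w => b (cc • v) w
  have hhS : ∀ v w, hermForm 6 F 2 v (S w) = β v w := fun v w => by
    show hermForm 6 F 2 v (φ cc • T w) = b (cc • v) w
    rw [← hφ, hhT]
  have hSS : ∀ w, S (S w) = w := fun w => by
    show φ cc • T (φ cc • T w) = w
    rw [hTk, hφφ, hTT, smul_smul, smul_smul, mul_comm (φ cc), hcc, inv_mul_cancel₀ hlam0, one_smul]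
  have hSk : ∀ (k : K) w, S (k • w) = φ k • S w := fun k w => by
    show φ cc • T (k • w) = φ k • φ cc • T w
    rw [hTk, smul_comm]
  have hSsmul : ∀ (c : F) w, S (c • w) = τ c • S w := fun c w => by
    rw [← algebraMap_smul K c w, hSk, hφalg, algebraMap_smul]
  have hβcomm : ∀ v w, β v w = β w v := fun v w => by simp only [β]; rw [hbk, hbcomm]
  -- the matrix of `S`
  let B : Matrix (Fin 6) (Fin 6) F := Matrix.of fun i j => β (Pi.single i 1) (Pi.single j 1)
  have hSB : ∀ w i, S w i = τ ((B *ᵥ w) i) := fun w i => by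
    have h1 := hhS (Pi.single i 1) w
    simp only [hh1, Pi.single_apply, ite_mul, one_mul, zero_mul, Finset.sum_ite_eq', Finset.mem_univ, if_true] at h1
    rw [show S w i = τ (β (Pi.single i 1) w) by rw [← h1, hU.invol]]
    congr 1
    let L : (Fin 6 → F) →ₗ[F] F :=
      { toFun := fun x => β (Pi.single i 1) x
        map_add' := fun a c => by
          show β _ (a + c) = β _ a + β _ c
          rw [hβcomm, hβcomm _ a, hβcomm _ c]
          simp only [β, smul_add, hbadd]
        map_smul' := fun a c => by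
          show β _ (a • c) = a • β _ c
          rw [hβcomm, hβcomm _ c]
          simp only [β, smul_comm cc a, hbsmul, smul_eq_mul] }
    show L w = _
    conv_lhs => rw [← (Pi.basisFun F (Fin 6)).sum_repr w, map_sum]
    simp [Matrix.mulVec, dotProduct, B, L, mul_comm]
  have hSB' : ∀ w, S w = fun i => τ ((B *ᵥ w) i) := fun w => funext (hSB w)
  have hBB : B.map τ * B = 1 := Matrix.toLin'.injective (LinearMap.ext fun w => by
    rw [Matrix.toLin'_apply, Matrix.toLin'_apply, Matrix.one_mulVec, ← Matrix.mulVec_mulVec]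
    conv_rhs => rw [← hSS w, hSB', hSB']
    rw [map_mulVec' τ]
    simp [hU.invol])
  obtain ⟨P, hP⟩ := hilbert90_matrix hU.ne hU.invol hBB
  have hPfix : ∀ u : Fin 6 → F, (∀ i, u i ∈ fixField τ) →
      S ((P : Matrix (Fin 6) (Fin 6) F) *ᵥ u) = (P : Matrix (Fin 6) (Fin 6) F) *ᵥ u := fun u hu => by
    funext i
    rw [hSB, Matrix.mulVec_mulVec, hP]
    conv_lhs => rw [show u = fun i => τ (u i) from funext fun i => (mem_fixField.1 (hu i)).symm]
    rw [← map_mulVec' τ, hU.invol]
  refine ⟨fixField τ, P, 1, hU.card_sq, one_ne_zero, ?_, fun u v hu hv => ?_, fun u hu => ?_, ?_⟩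
  · rw [one_pow]; linear_combination h2F
  · rw [one_mul, mem_fixField]
    rw [← hf.herm, ← hPfix u hu, ← hPfix v hv]
    conv_rhs => rw [hPfix u hu]
    conv_lhs => rw [hPfix v hv]
    rw [hhS, hhS, hβcomm]
  · rw [show ∀ p, hermForm 6 F 2 p ((P : Matrix (Fin 6) (Fin 6) F) *ᵥ u) =
      hermForm 6 F 2 p (S ((P : Matrix (Fin 6) (Fin 6) F) *ᵥ u)) from fun p => by rw [hPfix u hu], hhS]
    simp only [β, b, hDsmul, hDself, mul_zero, map_zero]
  rintro g ⟨hgN, hgU, hgdet⟩
  set G := (g : Matrix (Fin 6) (Fin 6) F) with hG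
  obtain ⟨α, hα⟩ : ∃ α : K ≃ₐ[F] K, ∀ (k : K) v, G *ᵥ (k • v) = α k • (G *ᵥ v) := by
    have hgN' := (subalgebraNormalizer K).inv_mem hgN
    refine ⟨{ toFun := fun k => ⟨_, (hgN (k : Matrix (Fin 6) (Fin 6) F)).1 k.2⟩
              invFun := fun k => ⟨_, (hgN' (k : Matrix (Fin 6) (Fin 6) F)).1 k.2⟩
              left_inv := fun k => Subtype.ext (by simp [← mul_assoc])
              right_inv := fun k => Subtype.ext (by simp [← mul_assoc])
              map_mul' := fun a c => Subtype.ext (by simp [mul_assoc])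
              map_add' := fun a c => Subtype.ext (by simp [mul_add, add_mul])
              commutes' := fun c => Subtype.ext (by simp [Algebra.algebraMap_eq_smul_one]) }, fun k v => ?_⟩
    show G *ᵥ ((k : Matrix (Fin 6) (Fin 6) F) *ᵥ v) = (G * (k : Matrix (Fin 6) (Fin 6) F) * (↑g⁻¹ : Matrix (Fin 6) (Fin 6) F)) *ᵥ (G *ᵥ v)
    simp [Matrix.mulVec_mulVec, mul_assoc, hG]
  set c₀ := D (G *ᵥ bK 0) (G *ᵥ bK 1)
  have hDg : ∀ v w, D (G *ᵥ v) (G *ᵥ w) = c₀ * α (D v w) := fun v w => by
    conv_lhs => rw [← hXsum v, ← hXsum w]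
    simp only [Matrix.mulVec_add, hα, hDadd, hDsmul]
    rw [hDcomm (G *ᵥ bK 0), hDcomm (G *ᵥ bK 1)]
    simp only [hDadd, hDsmul, hDself, hDcomm (G *ᵥ bK 1) (G *ᵥ bK 0)]
    show _ = c₀ * α (X v 0 * X w 1 + X v 1 * X w 0)
    simp only [map_add, map_mul]
    ring
  set d := cc⁻¹ * α.symm (cc * c₀) with hd
  have hβg : ∀ v w, β (G *ᵥ v) (G *ᵥ w) = β (d • v) w := fun v w => by
    simp only [β, b, hDsmul, hDg]
    rw [← Algebra.trace_eq_of_algEquiv α (cc * (d * D v w))]
    congr 1
    rw [← mul_assoc cc d, hd, ← mul_assoc cc cc⁻¹, mul_inv_cancel₀ hcc0, one_mul, map_mul, AlgEquiv.apply_symm_apply, mul_assoc]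
  have hiso : ∀ v w, hermForm 6 F 2 (G *ᵥ v) (G *ᵥ w) = hermForm 6 F 2 v w := hgU
  have hSg : ∀ w, S (G *ᵥ w) = G *ᵥ (φ d • S w) := fun w => hnd _ _ fun v => by
    obtain ⟨v, rfl⟩ : ∃ v', G *ᵥ v' = v := ⟨(↑g⁻¹ : Matrix (Fin 6) (Fin 6) F) *ᵥ v, by simp [hG, Matrix.mulVec_mulVec]⟩
    rw [hhS, hβg, hiso, ← hhS, hφ]
  have hdd : φ d * d = 1 := by
    have h1 : ∀ w, G *ᵥ w = G *ᵥ ((φ d * d) • w) := fun w => by
      conv_lhs => rw [← hSS (G *ᵥ w), hSg, hSg, hSk, hφφ, hSS, smul_smul]
    have h2' := Matrix.mulVec_injective_of_isUnit g.isUnit (h1 (bK 0))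
    exact (sub_eq_zero.1 ((smul_eq_zero.1 (show (1 - φ d * d) • bK 0 = 0 by
      rw [sub_smul, one_smul, ← h2', sub_self])).resolve_right (bK.ne_zero 0))).symm
  -- the determinant
  have hdet : ((φ d : K) : Matrix (Fin 6) (Fin 6) F).det = 1 := by
    have h1 : B * G = (G * ((φ d : K) : Matrix (Fin 6) (Fin 6) F)).map τ * B :=
      Matrix.toLin'.injective (LinearMap.ext fun w => by
        have h := hSg w
        rw [hsm, Matrix.mulVec_mulVec, hSB', hSB'] at h
        rw [Matrix.toLin'_apply, Matrix.toLin'_apply, ← Matrix.mulVec_mulVec, ← Matrix.mulVec_mulVec]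
        funext i
        have hi := congrArg τ (congrFun h i)
        simp only [hU.invol] at hi
        rw [hi, congrFun (map_mulVec' τ _ _) i]
        simp [hU.invol])
    have h2' := congrArg Matrix.det h1
    have hgd' : Matrix.GeneralLinearGroup.det g = 1 := hgdet
    have hgd : G.det = 1 := (Matrix.GeneralLinearGroup.val_det_apply g).symm.trans (by rw [hgd', Units.val_one])
    rw [Matrix.det_mul, Matrix.det_mul, hgd, mul_one,
      show ∀ M : Matrix (Fin 6) (Fin 6) F, (M.map τ).det = τ M.det from fun M => (RingHom.map_det τ.toRingHom M).symm,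
      Matrix.det_mul, hgd, one_mul] at h2'
    have hB0 : B.det ≠ 0 := fun e => by
      have := congrArg Matrix.det hBB
      rw [Matrix.det_mul, Matrix.det_one, e, mul_zero] at this
      exact zero_ne_one this
    exact τ.injective (by rw [map_one]; exact mul_right_cancel₀ hB0 (by rw [one_mul]; exact h2'.symm))
  have hk3 : φ d ^ 3 = 1 := by
    set k := φ d
    have hk63 : k ^ 63 = 1 := by
      have hk0 : k ≠ 0 := fun e => by rw [e, zero_mul] at hdd; exact zero_ne_one hdd
      have := FiniteField.pow_card_sub_one_eq_one (K := K)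
      haveI : Fintype K := Fintype.ofFinite K
      have h := FiniteField.pow_card_sub_one_eq_one k hk0
      rwa [← Nat.card_eq_fintype_card, hcK] at h
    have hk42 : k ^ 42 = 1 := by
      let l : (Fin 6 → F) →ₗ[K] (Fin 6 → F) := k • LinearMap.id
      have e1 : l.restrictScalars F = Matrix.toLin' (k : Matrix (Fin 6) (Fin 6) F) :=
        LinearMap.ext fun v => by simp [l, hsm]
      have e2 := LinearMap.det_restrictScalars (R := F) (f := l)
      rw [e1, LinearMap.det_toLin', hdet, LinearMap.det_smul, hrk, LinearMap.det_id, mul_one] at e2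
      have e3 := congrArg (algebraMap F K) e2
      rw [map_one, FiniteField.algebraMap_norm_eq_pow, hcK, hcF, ← pow_mul] at e3
      simpa using e3.symm
    have hy : (k ^ 3) ^ 7 = 1 := by
      rw [← pow_mul]
      calc k ^ (3 * 7) = k ^ 21 * k ^ 42 := by rw [hk42, mul_one]
        _ = 1 := by rw [← pow_add, hk63]
    refine seventh_root_eq_one h2 φ.toRingHom hy ?_
    show φ (k ^ 3) = (k ^ 3)⁻¹
    rw [map_pow, ← inv_pow, show φ k = k⁻¹ from eq_inv_of_mul_eq_one_left (by rw [hφφ, mul_comm]; exact hdd)]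
  obtain ⟨δ, hδ⟩ : ∃ δ : F, algebraMap F K δ = φ d := by
    have h4 : φ d ^ Nat.card F = φ d := by rw [hcF, pow_succ, hk3, one_mul]
    have hi := Function.Injective.bijective_of_nat_card_le
      (f := fun c : F => (⟨algebraMap F K c, by
        rw [← map_pow, Nat.card_eq_fintype_card, FiniteField.pow_card]⟩ : {x : K // x ^ Nat.card F = x}))
      (fun a c e => (algebraMap F K).injective (congrArg Subtype.val e :)) (natCard_fixed K (M := Nat.card F)
        Finite.one_lt_card (by rw [hcK, hcF]; norm_num)).le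
    obtain ⟨δ, hδ⟩ := hi.2 ⟨φ d, h4⟩
    exact ⟨δ, congrArg Subtype.val hδ⟩
  have hδ3 : δ ^ 3 = 1 := (algebraMap F K).injective (by rw [map_pow, hδ, hk3, map_one])
  have hδτ : τ δ = δ ^ 2 := hU.pow δ
  have key : B * G = (τ δ • G.map τ) * B := Matrix.toLin'.injective (LinearMap.ext fun w => by
    have h := hSg w
    rw [← hδ, algebraMap_smul, Matrix.mulVec_smul, hSB', hSB'] at h
    rw [Matrix.toLin'_apply, Matrix.toLin'_apply, ← Matrix.mulVec_mulVec, Matrix.smul_mul, Matrix.smul_mulVec,
      ← Matrix.mulVec_mulVec]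
    funext i
    have hi := congrArg τ (congrFun h i)
    simp only [hU.invol, Pi.smul_apply, smul_eq_mul, map_mul] at hi ⊢
    rw [congrFun (map_mulVec' τ G _) i] at hi
    simpa [hU.invol] using hi)
  set N := ((P⁻¹ * g * P : GL (Fin 6) F) : Matrix (Fin 6) (Fin 6) F) with hN
  have hPN : (P : Matrix (Fin 6) (Fin 6) F) * N = G * (P : Matrix (Fin 6) (Fin 6) F) := by
    rw [hN, hG, ← Units.val_mul, ← Units.val_mul]
    congr 1
    group
  refine mem_subfieldSubgroup P g (z := τ δ) (fun e => ?_) fun i j => ?_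
  · rw [map_eq_zero_iff τ τ.injective] at e; rw [e] at hδ3; simp at hδ3
  rw [mem_fixField]
  have hP' : (P : Matrix (Fin 6) (Fin 6) F).map τ * (τ δ • N.map τ) = (P : Matrix (Fin 6) (Fin 6) F).map τ * N := by
    rw [Matrix.mul_smul, ← map_mul_equiv, hPN, map_mul_equiv, ← hP, ← mul_assoc, ← Matrix.smul_mul, ← Matrix.smul_mul,
      ← key, mul_assoc, ← hPN, ← mul_assoc]
  have hτN : τ δ • N.map τ = N := (P.isUnit.map (RingHom.mapMatrix (τ : F →+* F))).mul_left_cancel hP'
  have := congrFun (congrFun hτN i) j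
  show τ (τ δ * N i j) = τ δ * N i j
  simp only [Matrix.smul_apply, Matrix.map_apply, smul_eq_mul] at this
  rw [map_mul, hU.invol]
  conv_rhs => rw [← this, ← mul_assoc, hδτ, ← pow_add, pow_succ, hδ3, one_mul]

end CfsgLib.AschbacherForm.Cases
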