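import Cfsg.Agent.Lib.AschbacherForm.Cases.UnitPairs
import Mathlib.Data.ZMod.Basic
import Mathlib.LinearAlgebra.Matrix.Permutation

/-!
`SU₄(3)`: the stabiliser of an orthogonal frame normalises the Pauli group and is not maximal.
-/

set_option autoImplicit false
set_option linter.unusedSectionVars false

namespace CfsgLib.AschbacherForm.Cases

open Cfsg Cfsg.Geo CfsgLib.Aschbacher
open scoped Matrix MatrixGroups

universe u

local notation "κ₂" => Fin 2 × Fin 2

/-! ### Pauli matrices -/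

/-- The pairing of two indices. -/
def pairBit (a p : κ₂) : Fin 2 := a.1 * p.1 + a.2 * p.2

/-- The sign of a bit. -/
def bitSign (R : Type*) [CommRing R] (b : Fin 2) : R := if b = 0 then 1 else -1

/-- The Pauli matrices. -/
def pauliMat (R : Type*) [CommRing R] (a v : κ₂) : Matrix κ₂ κ₂ R :=
  Matrix.of fun p q => if q = p + v then bitSign R (pairBit a p) else 0

/-- A block Hadamard matrix. -/
def blockHad (R : Type*) [CommRing R] : Matrix κ₂ κ₂ R :=
  Matrix.of fun p q => if p.1 = q.1 then (if p.1 = 0 then (!![1, 1; 1, -1] : Matrix (Fin 2) (Fin 2) R) p.2 q.2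
    else (!![1, 1; -1, 1] : Matrix (Fin 2) (Fin 2) R) p.2 q.2) else 0

/-- The finite facts. -/
def PauliFacts (R : Type*) [CommRing R] : Prop :=
  (blockHad R * (blockHad R)ᵀ = -1 ∧ (blockHad R)ᵀ * blockHad R = -1) ∧
  (∀ a v : κ₂, ∃ (a' v' : κ₂) (b : Fin 2),
    blockHad R * pauliMat R a v = (bitSign R b • pauliMat R a' v') * blockHad R) ∧
  (∀ a v : κ₂, ∃ (a' v' : κ₂) (b : Fin 2),
    (blockHad R)ᵀ * pauliMat R a v = (bitSign R b • pauliMat R a' v') * (blockHad R)ᵀ) ∧
  ((blockHad R).det = -1) ∧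
  (∀ p q i j : κ₂, (∑ a : κ₂, bitSign R (pairBit a p) * pauliMat R a (q + p) i j) = if i = p ∧ j = q then 1 else 0)

theorem pauliFacts_zmod : PauliFacts (ZMod 3) := by
  unfold PauliFacts
  refine ⟨⟨?_, ?_⟩, ?_, ?_, ?_, ?_⟩ <;> decide +kernel

theorem bitSign_map {R S : Type*} [CommRing R] [CommRing S] (φ : R →+* S) (b : Fin 2) :
    φ (bitSign R b) = bitSign S b := by
  simp only [bitSign]; split_ifs <;> simp

theorem pauliMat_map {R S : Type*} [CommRing R] [CommRing S] (φ : R →+* S) (a v : κ₂) :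
    (pauliMat R a v).map φ = pauliMat S a v := by
  ext p q; simp [pauliMat, apply_ite φ, bitSign_map]

theorem blockHad_map {R S : Type*} [CommRing R] [CommRing S] (φ : R →+* S) :
    (blockHad R).map φ = blockHad S := by
  ext ⟨i, a⟩ ⟨j, b⟩
  fin_cases i <;> fin_cases a <;> fin_cases j <;> fin_cases b <;> simp [blockHad]

variable {F : Type u} [Field F]

theorem pauliFacts (h3 : (3 : F) = 0) : PauliFacts F := by
  haveI hchar : CharP F 3 := (CharP.charP_iff_prime_eq_zero Nat.prime_three).2 (by exact_mod_cast h3)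
  let φ : ZMod 3 →+* F := ZMod.castHom (dvd_refl 3) F
  let Φ := φ.mapMatrix (m := κ₂)
  have hΦ : ∀ M, Φ M = M.map φ := fun M => rfl
  have hsm : ∀ (c : ZMod 3) (M : Matrix κ₂ κ₂ (ZMod 3)), (c • M).map φ = φ c • M.map φ := fun c M => by
    ext i j; simp
  obtain ⟨⟨a1, a2⟩, b1, b2, d, c⟩ := pauliFacts_zmod
  refine ⟨⟨?_, ?_⟩, fun a v => ?_, fun a v => ?_, ?_, fun p q i j => ?_⟩
  · have h := congrArg Φ a1
    rw [map_neg, map_one] at h
    simpa [hΦ, Matrix.transpose_map, blockHad_map] using h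
  · have h := congrArg Φ a2
    rw [map_neg, map_one] at h
    simpa [hΦ, Matrix.transpose_map, blockHad_map] using h
  · obtain ⟨a', v', b, h⟩ := b1 a v
    exact ⟨a', v', b, by simpa [hΦ, blockHad_map, pauliMat_map, hsm, bitSign_map] using congrArg Φ h⟩
  · obtain ⟨a', v', b, h⟩ := b2 a v
    exact ⟨a', v', b, by
      simpa [hΦ, Matrix.transpose_map, blockHad_map, pauliMat_map, hsm, bitSign_map] using congrArg Φ h⟩
  · have h := congrArg φ d
    rw [φ.map_det, map_neg, map_one] at h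
    rwa [show φ.mapMatrix (blockHad (ZMod 3)) = blockHad F from blockHad_map φ] at h
  · have h := congrArg φ (c p q i j)
    simp only [map_sum, map_mul, bitSign_map, apply_ite φ, map_one, map_zero] at h
    rw [← h]
    refine Finset.sum_congr rfl fun a _ => ?_
    rw [← pauliMat_map φ]; rfl

theorem pairBit_add (a b p : κ₂) :
    pairBit (a + b) p = pairBit a p + pairBit b p ∧ pairBit b (p + a) = pairBit b p + pairBit b a := by
  revert a b p; decide

theorem bitSign_add (i j : Fin 2) : bitSign F (i + j) = bitSign F i * bitSign F j := by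
  fin_cases i <;> fin_cases j <;> simp [bitSign]

theorem bitSign_ne (i : Fin 2) : bitSign F i ≠ 0 := by
  fin_cases i <;> simp [bitSign]

theorem pair_add_self : ∀ a : κ₂, a + a = 0 := by decide

theorem pauliMat_mul (a b v w : κ₂) :
    pauliMat F a v * pauliMat F b w = bitSign F (pairBit b v) • pauliMat F (a + b) (v + w) := by
  ext p r
  rw [Matrix.mul_apply, Finset.sum_eq_single (p + v)]
  · simp only [pauliMat, Matrix.of_apply, Matrix.smul_apply, smul_eq_mul, if_true, add_assoc]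
    split_ifs
    · rw [(pairBit_add a b p).1, (pairBit_add v b p).2, bitSign_add, bitSign_add]; ring
    · simp
  · intro q _ hq
    simp [pauliMat, hq]
  · simp

theorem pauliMat_zero : pauliMat F (0 : κ₂) 0 = 1 := by
  ext p q
  simp [pauliMat, Matrix.one_apply, bitSign, pairBit, eq_comm]

/-- The Pauli group with the scalars. -/
def pauliGroup (F : Type u) [Field F] : Subgroup (GL κ₂ F) where
  carrier := {g | ∃ (c : F) (a v : κ₂), (g : Matrix κ₂ κ₂ F) = c • pauliMat F a v}
  one_mem' := ⟨1, 0, 0, by rw [Units.val_one, one_smul, pauliMat_zero]⟩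
  mul_mem' := by
    rintro g h ⟨c, a, v, hg⟩ ⟨d, b, w, hh⟩
    exact ⟨c * d * bitSign F (pairBit b v), a + b, v + w, by
      rw [Units.val_mul, hg, hh, Matrix.smul_mul, Matrix.mul_smul, pauliMat_mul, smul_smul, smul_smul, mul_assoc]⟩
  inv_mem' := by
    rintro g ⟨c, a, v, hg⟩
    have hc : c ≠ 0 := fun e => g.isUnit.ne_zero (by rw [hg, e, zero_smul])
    refine ⟨(c * bitSign F (pairBit a v))⁻¹, a, v, Units.inv_eq_of_mul_eq_one_right ?_⟩
    rw [hg, Matrix.smul_mul, Matrix.mul_smul, pauliMat_mul, smul_smul, smul_smul, pair_add_self a,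
      pair_add_self v, pauliMat_zero, mul_right_comm,
      mul_inv_cancel₀ (mul_ne_zero hc (bitSign_ne _)), one_smul]

theorem pauliGroup_comm {x y : GL κ₂ F} (hx : x ∈ pauliGroup F) (hy : y ∈ pauliGroup F) :
    x * y * x⁻¹ * y⁻¹ ∈ scalars κ₂ F := by
  obtain ⟨c, a, v, hx⟩ := hx
  obtain ⟨d, b, w, hy⟩ := hy
  obtain ⟨k, hk⟩ : ∃ k : F, (x : Matrix κ₂ κ₂ F) * y = k • ((y : Matrix κ₂ κ₂ F) * x) := by
    refine ⟨bitSign F (pairBit b v) / bitSign F (pairBit a w), ?_⟩
    rw [hx, hy]
    simp only [Matrix.smul_mul, Matrix.mul_smul, pauliMat_mul, smul_smul, add_comm b a, add_comm w v]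
    congr 1
    field_simp [bitSign_ne]
  refine mem_scalars_of_eq_smul (c := k) ?_
  rw [Units.val_mul, Units.val_mul, Units.val_mul, hk, Matrix.smul_mul, Matrix.smul_mul, mul_assoc _ (x : Matrix κ₂ κ₂ F),
    Units.mul_inv, mul_one, Units.mul_inv]

theorem pauliGroup_sq {x : GL κ₂ F} (hx : x ∈ pauliGroup F) : x ^ 2 ∈ scalars κ₂ F := by
  obtain ⟨c, a, v, hx⟩ := hx
  refine mem_scalars_of_eq_smul (c := c * c * bitSign F (pairBit a v)) ?_
  rw [sq, Units.val_mul, hx, Matrix.smul_mul, Matrix.mul_smul, pauliMat_mul, smul_smul, smul_smul,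
    pair_add_self a, pair_add_self v, pauliMat_zero, mul_assoc]

theorem exists_shift : ∀ (π : Equiv.Perm κ₂) (v : κ₂), ∃ v', ∀ s, π (s + v) = π s + v' := by
  decide +kernel

theorem exists_character : ∀ (π : Equiv.Perm κ₂) (s : κ₂ → Fin 2), (∑ x, s x = 0) →
    ∃ (a : κ₂) (k : Fin 2), ∀ x, s x = pairBit a (π x) + k := by
  decide +kernel

theorem pair_partition : ∀ v x : κ₂, v ≠ 0 → x ≠ 0 → x ≠ v →
    ({0, v, x, x + v} : Finset κ₂) = Finset.univ ∧ x + v ≠ 0 ∧ x + v ≠ v ∧ x + v ≠ x := by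
  decide

theorem pairBit_sum : ∀ a : κ₂, ∑ x, pairBit a x = 0 := by decide

theorem bitSign_sum (s : κ₂ → Fin 2) : ∏ x, bitSign F (s x) = bitSign F (∑ x, s x) := by
  classical
  induction (Finset.univ : Finset κ₂) using Finset.induction with
  | empty => simp [bitSign]
  | insert a t hat ih => rw [Finset.prod_insert hat, Finset.sum_insert hat, bitSign_add, ih]

/-- A monomial matrix with entries of norm one and determinant one normalises the Pauli group. -/
theorem monomial_pauli (h2 : (2 : F) ≠ 0) {t : κ₂ → F} (ht : ∀ x, t x ^ 4 = 1) (hprod : (∏ x, t x) ^ 2 = 1) (π : Equiv.Perm κ₂)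
    (a v : κ₂) : ∃ (c : F) (a' v' : κ₂),
    (Matrix.of fun r x => if r = π x then t x else 0) * pauliMat F a v =
      (c • pauliMat F a' v') * Matrix.of fun r x => if r = π x then t x else 0 := by
  classical
  obtain ⟨v', hv'⟩ := exists_shift π v
  have ht0 : ∀ x, t x ≠ 0 := fun x e => by simpa [e] using ht x
  set r : κ₂ → F := fun s => t (s + v) * bitSign F (pairBit a (s + v)) / t s with hr
  have hr4 : ∀ s, r s ^ 4 = 1 := fun s => by
    have hb : ∀ i, bitSign F i ^ 4 = 1 := fun i => by fin_cases i <;> norm_num [bitSign]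
    simp only [hr, div_pow, mul_pow, ht, hb, mul_one, div_one]
  have hr0 : ∀ s, r s ≠ 0 := fun s e => by simpa [e] using hr4 s
  have hb2 : ∀ i, bitSign F i ^ 2 = 1 := fun i => by fin_cases i <;> norm_num [bitSign]
  have hr2 : ∀ s, r s ^ 2 = r 0 ^ 2 := by
    intro s
    by_cases hv : v = 0
    · simp only [hr, hv, add_zero, div_pow, mul_pow, hb2, mul_one]
      rw [div_self (pow_ne_zero _ (ht0 _)), div_self (pow_ne_zero _ (ht0 _))]
    simp only [hr, div_pow, mul_pow, hb2, mul_one, zero_add]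
    rw [div_eq_div_iff (pow_ne_zero _ (ht0 _)) (pow_ne_zero _ (ht0 _))]
    have hvv : v + v = 0 := pair_add_self v
    by_cases hs0 : s = 0
    · rw [hs0, zero_add]
    by_cases hsv : s = v
    · have e1 : t v ^ 2 * t v ^ 2 = 1 := by rw [← pow_add, ht]
      have e2 : t 0 ^ 2 * t 0 ^ 2 = 1 := by rw [← pow_add, ht]
      rw [hsv, hvv]
      linear_combination e2 - e1
    obtain ⟨hu, n1, n2, n3⟩ := pair_partition v s hv hs0 hsv
    have hp : (t 0 * (t v * (t s * t (s + v)))) ^ 2 = 1 := by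
      rw [← hprod, ← hu, Finset.prod_insert, Finset.prod_insert, Finset.prod_pair n3.symm]
      · simp [Ne.symm hsv, n2.symm]
      · simp [hs0, Ne.symm hs0, Ne.symm hv, n1.symm]
    have e1 : t s ^ 2 * t s ^ 2 = 1 := by rw [← pow_add, ht]
    have e2 : t v ^ 2 * t v ^ 2 = 1 := by rw [← pow_add, ht]
    linear_combination (t v ^ 2 * t s ^ 2) * hp - (t (s + v) ^ 2 * t 0 ^ 2 * (t v ^ 2 * t v ^ 2)) * e1 -
      (t (s + v) ^ 2 * t 0 ^ 2) * e2
  have hsgn : ∀ s, ∃ b : Fin 2, r s = bitSign F b * r 0 := fun s => by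
    rcases eq_or_eq_neg_of_sq_eq_sq _ _ (hr2 s) with e | e
    · exact ⟨0, by simp [e, bitSign]⟩
    · exact ⟨1, by simp [e, bitSign]⟩
  choose σ hσ using hsgn
  have hsum : bitSign F (∑ x, σ x) = 1 := by
    have h1 : ∏ s, r s = 1 := by
      simp only [hr, Finset.prod_div_distrib, Finset.prod_mul_distrib]
      rw [show ∏ s, t (s + v) = ∏ s, t s from Equiv.prod_comp (Equiv.addRight v) t,
        show ∏ s, bitSign F (pairBit a (s + v)) = ∏ s, bitSign F (pairBit a s) from
          Equiv.prod_comp (Equiv.addRight v) fun s => bitSign F (pairBit a s), bitSign_sum, pairBit_sum]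
      rw [show bitSign F (0 : Fin 2) = 1 from if_pos rfl, mul_one, div_self]
      exact Finset.prod_ne_zero_iff.2 fun x _ => ht0 x
    rw [Finset.prod_congr rfl fun s _ => hσ s, Finset.prod_mul_distrib, bitSign_sum, Finset.prod_const,
      Finset.card_univ] at h1
    rwa [show Fintype.card κ₂ = 4 from rfl, hr4, mul_one] at h1
  have hsum0 : ∑ x, σ x = 0 := by
    by_contra h
    rw [bitSign, if_neg h] at hsum
    exact h2 (by linear_combination -hsum)
  obtain ⟨a', k, hk⟩ := exists_character ((Equiv.addRight v).trans π) σ hsum0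
  refine ⟨bitSign F k * r 0, a', v', ?_⟩
  ext x s
  rw [Matrix.mul_apply, Finset.sum_eq_single (s + v), Matrix.mul_apply, Finset.sum_eq_single (π s)]
  · simp only [pauliMat, Matrix.of_apply, Matrix.smul_apply, smul_eq_mul, if_true]
    rw [add_assoc, pair_add_self v, add_zero, if_pos rfl]
    by_cases hx : x = π (s + v)
    · have hs : π s = x + v' := by
        rw [hx, hv', add_assoc, pair_add_self v', add_zero]
      rw [if_pos hx, if_pos hs]
      have h1 := hσ s
      simp only [hk, bitSign_add, Equiv.trans_apply, Equiv.coe_addRight, ← hx] at h1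
      simp only [hr] at h1 ⊢
      rw [div_eq_iff (ht0 s)] at h1
      rw [h1]; ring
    · rw [if_neg hx, if_neg, mul_zero, zero_mul, zero_mul]
      intro hs; apply hx
      rw [hv', hs, add_assoc, pair_add_self v', add_zero]
  · intro y _ hy; simp [Matrix.of_apply, hy]
  · simp
  · intro y _ hy
    have : ¬ s = y + v := fun e => hy (by
      rw [e, add_assoc, pair_add_self v, add_zero])
    simp [pauliMat, this]
  · simp

/-- Sufficient conditions to normalise the Pauli group. -/
theorem mem_pauli_normalizer {k : GL κ₂ F}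
    (h : ∀ a v, ∃ (c : F) (a' v' : κ₂), (k : Matrix κ₂ κ₂ F) * pauliMat F a v = (c • pauliMat F a' v') * k) :
    ∀ y ∈ pauliGroup F, k * y * k⁻¹ ∈ pauliGroup F := by
  rintro y ⟨c, a, v, hy⟩
  obtain ⟨d, a', v', hd⟩ := h a v
  refine ⟨c * d, a', v', ?_⟩
  rw [Units.val_mul, Units.val_mul, hy, Matrix.mul_smul, hd, Matrix.smul_mul, mul_assoc, Units.mul_inv, mul_one,
    smul_smul]

/-! ### The member -/

variable [Fintype F] {q : ℕ} {τ : F ≃+* F}

local notation "h4" => hermForm 4 F q

theorem frame_four_not_maximal (hU : UForm 4 q τ) (hq : q = 3) {H : Subgroup (GL (Fin 4) F)}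
    (hH : IsMaximalIn (GU 4 F q ⊓ specialLinear (Fin 4) F) H) {D : Fin 4 → Submodule F (Fin 4 → F)}
    (hD : IsNondegenerateMDecomposition h4 1 D) :
    H ≠ decompositionStabilizer D ⊓ (GU 4 F q ⊓ specialLinear (Fin 4) F) := by
  classical
  intro heq
  subst hq
  have hf := unitaryForm hU
  have h3 : (3 : F) = 0 := by
    have := FiniteField.cast_card_eq_zero F
    rw [hU.card] at this
    norm_num at this
    refine pow_eq_zero_iff (n := 2) two_ne_zero |>.1 ?_
    linear_combination this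
  obtain ⟨⟨hB1, hB2⟩, hconj, hconj', hBdet, hspan⟩ := pauliFacts h3
  -- an orthonormal frame
  have hb : ∀ i, ∃ w ∈ D i, hermForm 4 F 3 w w = 1 ∧ ∀ x ∈ D i, ∃ c : F, x = c • w := by
    intro i
    obtain ⟨w, hw, hspan⟩ := finrank_eq_one_iff'.1 (hD.decomp.finrank_eq i)
    obtain ⟨⟨x, hx, hne⟩, -⟩ := hD.nondegenerate i _ w.2 fun e => hw (Subtype.ext e)
    obtain ⟨c, hc⟩ := hspan ⟨x, hx⟩
    have hww : hermForm 4 F 3 (w : Fin 4 → F) w ≠ 0 := fun e => hne (by
      rw [show x = c • (w : Fin 4 → F) from congrArg Subtype.val hc.symm, hf.smul_left, e, mul_zero])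
    obtain ⟨s, hs⟩ := exists_norm hU.ne hU.invol (e := (hermForm 4 F 3 (w : Fin 4 → F) w)⁻¹)
      (by rw [map_inv₀, ← hf.herm])
    have hs0 : s ≠ 0 := fun e => by rw [e, zero_mul] at hs; exact hww (inv_eq_zero.1 hs.symm)
    refine ⟨s • (w : Fin 4 → F), (D i).smul_mem _ w.2, ?_, fun y hy => ?_⟩
    · rw [hf.smul_left, CfsgLib.Maximal.un_smul_right hf, ← mul_assoc, hs, inv_mul_cancel₀ hww]
    · obtain ⟨d, hd⟩ := hspan ⟨y, hy⟩
      exact ⟨d / s, by rw [smul_smul, div_mul_cancel₀ _ hs0]; exact (congrArg Subtype.val hd).symm⟩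
  choose w hwD hw1 hwspan using hb
  let e : Fin 4 ≃ κ₂ := (finProdFinEquiv : Fin 2 × Fin 2 ≃ Fin 4).symm
  let z : κ₂ → Fin 4 → F := fun p => w (e.symm p)
  have hz : ∀ p q, hermForm 4 F 3 (z p) (z q) = (1 : Matrix κ₂ κ₂ F) p q := by
    intro p q
    rcases eq_or_ne p q with rfl | hpq
    · rw [Matrix.one_apply_eq]; exact hw1 _
    · rw [Matrix.one_apply_ne hpq]
      exact hD.orthogonal _ _ (fun h => hpq (e.symm.injective h)) _ (hwD _) _ (hwD _)
  obtain ⟨P, hcol, hJ⟩ := exists_coords hU.geom e z isUnit_one hz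
  let f := frameEquiv e P
  let X : Subgroup (GL (Fin 4) F) := subgroupNormalizer ((pauliGroup F).map f.toMonoidHom)
  have hXmem : ∀ k : GL κ₂ F, (∀ y ∈ pauliGroup F, k * y * k⁻¹ ∈ pauliGroup F) →
      (∀ y ∈ pauliGroup F, k⁻¹ * y * k⁻¹⁻¹ ∈ pauliGroup F) → f k ∈ X := by
    intro k hk hk'
    refine Subgroup.mem_normalizer_iff.2 fun x => ⟨?_, ?_⟩
    · rintro ⟨y, hy, rfl⟩
      exact ⟨_, hk y hy, by simp⟩
    · rintro ⟨y, hy, hyx⟩
      refine ⟨k⁻¹ * y * k⁻¹⁻¹, hk' y hy, ?_⟩
      simp only [map_mul, map_inv]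
      rw [hyx]
      simp [mul_assoc]
  -- monomial form
  have hmono : ∀ g ∈ decompositionStabilizer D ⊓ (GU 4 F 3 ⊓ specialLinear (Fin 4) F),
      ∀ y ∈ pauliGroup F, f.symm g * y * (f.symm g)⁻¹ ∈ pauliGroup F := by
    rintro g ⟨⟨σ, hσ⟩, hgU, hgdet⟩
    refine mem_pauli_normalizer ?_
    have himg : ∀ i, ∃ c : F, (g : Matrix (Fin 4) (Fin 4) F) *ᵥ w i = c • w (σ i) := fun i =>
      hwspan _ _ (hσ i ▸ ⟨w i, hwD i, Matrix.toLin'_apply _ _⟩)
    choose c hc using himg
    let π : Equiv.Perm κ₂ := (e.symm.trans σ).trans e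
    let t : κ₂ → F := fun p => c (e.symm p)
    have hN : coordR e P (g : Matrix (Fin 4) (Fin 4) F) = Matrix.of fun r x => if r = π x then t x else 0 := by
      refine coordR_of_cols e P hcol fun p => ?_
      rw [Finset.sum_eq_single (π p)]
      · show (g : Matrix (Fin 4) (Fin 4) F) *ᵥ w (e.symm p) = _
        simp [hc, π, t, z]
      · intro r _ hr; simp [hr]
      · simp
    have ht4 : ∀ p, t p ^ 4 = 1 := fun p => by
      have h1 := (CfsgLib.Maximal.mem_GU_iff g).1 hgU (w (e.symm p)) (w (e.symm p))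
      rw [hc, hf.smul_left, CfsgLib.Maximal.un_smul_right hf, hw1, hw1, mul_one, hU.pow] at h1
      rw [← h1]; ring
    have hprod : (∏ p, t p) ^ 2 = 1 := by
      have h1 := congrArg Units.val hgdet
      have h2 : (coordR e P (g : Matrix (Fin 4) (Fin 4) F)).det = 1 := by rw [det_frame]; exact h1
      rw [hN, show (Matrix.of fun r x => if r = π x then t x else 0) =
          (Matrix.diagonal t * π.permMatrix F)ᵀ from ?_, Matrix.det_transpose, Matrix.det_mul, Matrix.det_diagonal,
        Matrix.det_permutation] at h2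
      · rcases Int.units_eq_one_or (Equiv.Perm.sign π) with e1 | e1 <;> rw [e1] at h2 <;> push_cast at h2
        · rw [mul_one] at h2; rw [h2, one_pow]
        · linear_combination (-(∏ p, t p) + 1) * h2
      · ext r x
        simp [Matrix.diagonal_mul, Equiv.Perm.permMatrix, PEquiv.toMatrix_apply, eq_comm]
    have hval : ((f.symm g : GL κ₂ F) : Matrix κ₂ κ₂ F) = Matrix.of fun r x => if r = π x then t x else 0 := by
      rw [← hN, ← coordR_frame e P (f.symm g)]
      show coordR e P ((f (f.symm g) : GL (Fin 4) F) : Matrix (Fin 4) (Fin 4) F) = _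
      rw [f.apply_symm_apply]
    intro a v
    obtain ⟨d, a', v', hd⟩ := monomial_pauli (fun e2 => one_ne_zero (show (1 : F) = 0 by linear_combination h3 - e2)) ht4 hprod π a v
    exact ⟨d, a', v', by rw [hval]; exact hd⟩
  have hle : H ≤ X := by
    rw [heq]
    intro g hg
    have := hXmem (f.symm g) (hmono g hg) (by rw [← map_inv]; exact hmono _ (inv_mem hg))
    rwa [f.apply_symm_apply] at this
  -- properness
  have hX : ¬ GU 4 F 3 ⊓ specialLinear (Fin 4) F ≤ X := by
    refine not_le_normalizer (rich_su hU (by norm_num)) (by simp) ?_ ?_ (Or.inr ⟨fun e2 => ?_, ?_⟩)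
    · refine absIrred_of_alg_top (eq_top_iff.2 fun x _ => ?_)
      have hp : ∀ a v, (coordR e P).symm (pauliMat F a v) ∈ alg ((pauliGroup F).map f.toMonoidHom) := by
        intro a v
        obtain ⟨k, hk⟩ : IsUnit (pauliMat F a v) := by
          refine IsUnit.of_mul_eq_one (bitSign F (pairBit a v) • pauliMat F a v) ?_
          rw [Matrix.mul_smul, pauliMat_mul, smul_smul, pair_add_self a,
            pair_add_self v, pauliMat_zero, ← bitSign_add,
            show pairBit a v + pairBit a v = 0 by generalize pairBit a v = i; revert i; decide]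
          simp [bitSign]
        rw [← hk, ← coordR_frame e P k, AlgEquiv.symm_apply_apply]
        exact val_mem_alg ⟨k, ⟨1, a, v, by rw [hk, one_smul]⟩, rfl⟩
      have hE : ∀ p r : κ₂, (coordR e P).symm (Matrix.single p r (1 : F)) ∈ alg ((pauliGroup F).map f.toMonoidHom) := by
        intro p r
        rw [show Matrix.single p r (1 : F) = ∑ a : κ₂, bitSign F (pairBit a p) • pauliMat F a (r + p) by
          ext i j
          rw [Matrix.sum_apply]
          simp only [Matrix.smul_apply, smul_eq_mul, hspan p r i j, Matrix.single_apply]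
          exact if_congr ⟨fun h => ⟨h.1.symm, h.2.symm⟩, fun h => ⟨h.1.symm, h.2.symm⟩⟩ rfl rfl, map_sum]
        exact Subalgebra.sum_mem _ fun a _ => by rw [map_smul]; exact Subalgebra.smul_mem _ (hp _ _) _
      rw [← (coordR e P).symm_apply_apply x, Matrix.matrix_eq_sum_single (coordR e P x), map_sum]
      refine Subalgebra.sum_mem _ fun a _ => ?_
      rw [map_sum]
      refine Subalgebra.sum_mem _ fun b _ => ?_
      rw [show Matrix.single a b (coordR e P x a b) = (coordR e P x a b) • Matrix.single a b (1 : F) by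
        rw [Matrix.smul_single, smul_eq_mul, mul_one], map_smul]
      exact Subalgebra.smul_mem _ (hE _ _) _
    · rintro _ ⟨x, hx, rfl⟩ _ ⟨y, hy, rfl⟩
      obtain ⟨d, hd⟩ := exists_sc (pauliGroup_comm hx hy)
      show f x * f y * (f x)⁻¹ * (f y)⁻¹ ∈ _
      rw [← map_inv, ← map_inv, ← map_mul, ← map_mul, ← map_mul, ← hd]
      refine mem_scalars_of_eq_smul (c := (d : F)) ((coordR e P).injective ?_)
      rw [coordR_frame, map_smul, map_one, sc_val]
    · exact one_ne_zero (show (1 : F) = 0 by linear_combination h3 - e2)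
    · rintro _ ⟨x, hx, rfl⟩
      obtain ⟨d, hd⟩ := exists_sc (pauliGroup_sq hx)
      show f x ^ 2 ∈ _
      rw [← map_pow, ← hd]
      refine mem_scalars_of_eq_smul (c := (d : F)) ((coordR e P).injective ?_)
      rw [coordR_frame, map_smul, map_one, sc_val]
  -- a further element
  obtain ⟨s, hs⟩ := exists_norm hU.ne hU.invol (e := (-1 : F)) (by rw [map_neg, map_one])
  have hs0 : s ≠ 0 := fun e => by rw [e, zero_mul] at hs; exact one_ne_zero (neg_eq_zero.1 hs.symm)
  let k : GL κ₂ F := ⟨s • blockHad F, (-s⁻¹) • (blockHad F)ᵀ,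
    by rw [Matrix.smul_mul, Matrix.mul_smul, hB1, smul_smul, mul_neg, mul_inv_cancel₀ hs0, neg_one_smul, neg_neg],
    by rw [Matrix.smul_mul, Matrix.mul_smul, hB2, smul_smul, neg_mul, inv_mul_cancel₀ hs0, neg_one_smul, neg_neg]⟩
  have hkX : f k ∈ X := by
    refine hXmem k (mem_pauli_normalizer fun a v => ?_) (mem_pauli_normalizer fun a v => ?_)
    · obtain ⟨a', v', b, h⟩ := hconj a v
      exact ⟨bitSign F b, a', v', by
        show (s • blockHad F) * _ = _ * (s • blockHad F)
        rw [Matrix.smul_mul, h, Matrix.mul_smul]⟩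
    · obtain ⟨a', v', b, h⟩ := hconj' a v
      exact ⟨bitSign F b, a', v', by
        show ((-s⁻¹) • (blockHad F)ᵀ) * _ = _ * ((-s⁻¹) • (blockHad F)ᵀ)
        rw [Matrix.smul_mul, h, Matrix.mul_smul]⟩
  have hkΩ : f k ∈ GU 4 F 3 ⊓ specialLinear (Fin 4) F := by
    refine ⟨hU.mem_GU ((hU.geom.isSim_iff _ _).2 fun u v => ?_), Units.ext ?_⟩
    · rw [one_mul]
      refine frame_isometry hU.geom e P k ?_ u v
      rw [hJ]
      show (s • blockHad F)ᵀ * 1 * (s • blockHad F).map τ = 1
      rw [Matrix.transpose_smul, mul_one, Matrix.map_smul' (hf := map_mul τ), Matrix.smul_mul, Matrix.mul_smul,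
        smul_smul, hs, show (blockHad F).map τ = blockHad F from blockHad_map (τ : F →+* F), hB2, neg_one_smul, neg_neg]
    · show ((f k : GL (Fin 4) F) : Matrix (Fin 4) (Fin 4) F).det = 1
      rw [← det_frame e P, coordR_frame]
      show (s • blockHad F).det = 1
      rw [Matrix.det_smul, show Fintype.card κ₂ = 4 from rfl]
      have hs4 : s ^ 4 = -1 := by rw [← hs, hU.pow]; ring
      rw [hBdet, hs4]; ring
  have hH' : H = X ⊓ (GU 4 F 3 ⊓ specialLinear (Fin 4) F) := su_eq_inf hH hle hX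
  have hkH : f k ∈ H := hH' ▸ ⟨hkX, hkΩ⟩
  rw [heq] at hkH
  obtain ⟨⟨σ, hσ⟩, -⟩ := hkH
  -- a column with two entries
  have hk0 : ((f k : GL (Fin 4) F) : Matrix (Fin 4) (Fin 4) F) *ᵥ w (e.symm (0, 0)) =
      s • (z (0, 0) + z (0, 1)) := by
    rw [show w (e.symm (0, 0)) = z (0, 0) from rfl, ← hcol, coordR_mulVec, coordR_frame]
    show (P : Matrix (Fin 4) (Fin 4) F) *ᵥ (((s • blockHad F) *ᵥ Pi.single (0, 0) 1) ∘ e) = _
    rw [← hcol, ← Matrix.mulVec_add, ← Matrix.mulVec_smul]
    congr 1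
    rw [show ((s • blockHad F) *ᵥ Pi.single (0, 0) (1 : F)) =
      s • (Pi.single (0, 0) 1 + Pi.single (0, 1) 1) from ?_]
    · rfl
    funext p
    obtain ⟨i, j⟩ := p
    fin_cases i <;> fin_cases j <;> simp [blockHad, Pi.single_apply]
  obtain ⟨d, hd⟩ := hwspan _ _ (hσ (e.symm (0, 0)) ▸
    ⟨_, hwD _, Matrix.toLin'_apply _ _⟩ : ((f k : GL (Fin 4) F) : Matrix (Fin 4) (Fin 4) F) *ᵥ
      w (e.symm (0, 0)) ∈ D (σ (e.symm (0, 0))))
  rw [hk0] at hd
  have key : ∀ p : κ₂, p = (0, 0) ∨ p = (0, 1) → σ (e.symm (0, 0)) = e.symm p := by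
    intro p hp
    by_contra hne
    have h1 := congrArg (fun x => hermForm 4 F 3 x (z p)) hd
    simp only [hf.smul_left, hf.add_left, hz, hD.orthogonal _ _ hne _ (hwD _) _ (hwD (e.symm p)), mul_zero, z] at h1
    rcases hp with rfl | rfl <;> simp [hs0] at h1
  exact absurd (e.symm.injective ((key _ (Or.inl rfl)).symm.trans (key _ (Or.inr rfl)))) (by decide)

end CfsgLib.AschbacherForm.Cases
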