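import Cfsg.Agent.Lib.AschbacherForm.Cases.UnitProper
import Cfsg.Agent.Lib.Aschbacher.Cases.Rows

/-!
The numerical side of the unitary case lists.
-/

set_option autoImplicit false
set_option linter.unusedSectionVars false

namespace CfsgLib.AschbacherForm.Cases

open Cfsg Cfsg.Geo CfsgLib.Aschbacher
open scoped Matrix MatrixGroups

universe u
variable {F : Type u} [Field F] [Fintype F] {n q : ℕ} {τ : F ≃+* F}

/-- The exponent of the minimal field for a cyclic group of odd prime order `r`. -/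
theorem minField_odd (hU : UForm n q τ) {r p e : ℕ} (hr : r.Prime) (hg : IsMinimalFieldFor r p e F) :
    ∃ f, 1 ≤ f ∧ q = p ^ f ∧ e = 2 * f ∧ e < r ∧ (p % r) ^ e % r = 1 ∧
      ∀ d, 0 < d → d < e → (p % r) ^ d % r ≠ 1 := by
  obtain ⟨hp, -, hcard, hdvd, hmin⟩ := hg
  have hq2 : q ^ 2 = p ^ e := by rw [← hU.card, hcard]
  have hq : q ∣ p ^ e := hq2 ▸ dvd_pow_self q two_ne_zero
  obtain ⟨f, -, rfl⟩ := (Nat.dvd_prime_pow hp).1 hq
  have he : e = 2 * f := by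
    have := Nat.pow_right_injective hp.two_le (show p ^ (f * 2) = p ^ e by rw [pow_mul]; exact hq2)
    omega
  have hf : 1 ≤ f := by
    rcases f with _ | f
    · have := hU.q_pos; simp at this
    · omega
  obtain ⟨h1, h2⟩ := CfsgLib.Aschbacher.Cases.six_exponent_lt hr hp (by omega) hdvd hmin
  refine ⟨f, hf, rfl, he, h1, h2, fun d hd0 hde hd => hmin d hd0 hde ?_⟩
  rw [← Nat.pow_mod] at hd
  exact (Nat.modEq_iff_dvd' (Nat.one_le_pow _ _ hp.pos)).1 (by rw [Nat.ModEq, hd, Nat.mod_eq_of_lt hr.one_lt])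

/-- The sixth class for `r = 2`. -/
theorem minField_two (hU : UForm n q τ) {p : ℕ} (hg : IsMinimalFieldFor 4 p 2 F) (h : 4 ∣ q + 1) :
    q = p ∧ p % 4 = 3 := by
  obtain ⟨hp, -, hcard, -⟩ := hg
  have hq : q = p := Nat.pow_left_injective two_ne_zero (show q ^ 2 = p ^ 2 by rw [← hU.card, hcard])
  subst hq
  exact ⟨rfl, by omega⟩

theorem unit_eq_card {t k : ℕ} {D : Fin t → Submodule F (Fin n → F)}
    (hD : IsNondegenerateMDecomposition (hermForm n F q) k D) : t * k = n ∧ 2 ≤ t ∧ 1 ≤ k :=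
  ⟨CfsgLib.Aschbacher.Cases.mul_eq_of_decomposition hD.decomp, hD.decomp.two_le, hD.decomp.pos⟩

theorem eq_of_pow_eq_prime {r k a : ℕ} (hr : r.Prime) (ha : a.Prime) (h : a = r ^ k) : r = a ∧ k = 1 := by
  subst h
  have hk := Nat.Prime.eq_one_of_pow ha
  subst hk
  simp

theorem eq_of_pow_eq_prime' {r k a : ℕ} (ha : a.Prime) (h : a = r ^ k) : r = a ∧ k = 1 := by
  subst h
  have hk := Nat.Prime.eq_one_of_pow ha
  subst hk
  simp

/-- The sixth class in prime dimension. -/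
theorem unit_six_prime (hU : UForm n q τ) (hn : n.Prime) (hn2 : n ≠ 2) {r : ℕ} {R : Subgroup (GL (Fin n) F)}
    {p e k : ℕ} (a : IsSymplecticTypeGroup r R) (g : IsMinimalFieldFor (Nat.card (Subgroup.center R)) p e F)
    (i : (Odd r ∧ Nat.card (Subgroup.center R) = r ∧ 1 ≤ k ∧ Nat.card R = r ^ (1 + 2 * k)) ∨
       (r = 2 ∧ e = 2 ∧ Nat.card (Subgroup.center R) = 4 ∧ Nat.card R = 2 ^ (2 + 2 * k)))
    (hnk : n = r ^ k) (hGU : Odd r → R ≤ GU n F q) :
    IsSymplecticTypeGroup n R ∧ R ≤ GU n F q ∧ Nat.card R = n ^ 3 ∧ Nat.card (Subgroup.center R) = n ∧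
      p.Prime ∧ CharP F p ∧ ∃ f, 1 ≤ f ∧ 2 * f < n ∧ q = p ^ f ∧ (p % n) ^ (2 * f) % n = 1 ∧
        ∀ d < n, 0 < d → d < 2 * f → (p % n) ^ d % n ≠ 1 := by
  obtain ⟨rfl, rfl⟩ := eq_of_pow_eq_prime a.prime hn hnk
  rcases i with ⟨hodd, hcz, -, hR⟩ | ⟨hr, -⟩
  swap
  · exact absurd hr hn2
  rw [hcz] at g
  obtain ⟨f, hf, hq, rfl, hlt, h1, h2⟩ := minField_odd hU hn g
  exact ⟨a, hGU hodd, hR, hcz, g.1, g.2.1, f, hf, hlt, hq, h1, fun d _ => h2 d⟩

end CfsgLib.AschbacherForm.Cases
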