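import Cfsg.Agent.Lib.AschbacherForm.Cases.FrameCoord
import Cfsg.Agent.Lib.AschbacherForm.Cases.UnitNum

/-!
`SU₄(2)` and `SU₄(3)`: the stabiliser of a pair of Lagrangians lies in a symplectic subfield group.
-/

set_option autoImplicit false
set_option linter.unusedSectionVars false

namespace CfsgLib.AschbacherForm.Cases

open Cfsg Cfsg.Geo CfsgLib.Aschbacher
open scoped Matrix MatrixGroups

universe u
variable {F : Type u} [Field F] [Fintype F] {q : ℕ} {τ : F ≃+* F}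

/-- The Gram matrix of two dual pairs. -/
def pairGram (F : Type u) [Field F] : Matrix (Fin 4) (Fin 4) F := !![0, 0, 1, 0; 0, 0, 0, 1; 1, 0, 0, 0; 0, 1, 0, 0]

/-- The semilinear involution in coordinates. -/
def pairTau (F : Type u) [Field F] : Matrix (Fin 4) (Fin 4) F :=
  !![0, 0, 0, 1; 0, 0, -1, 0; 0, -1, 0, 0; 1, 0, 0, 0]

theorem fixed_pm_one (hU : UForm 4 q τ) (hq : q ≤ 3) {d : F} (hd : τ d = d) (h0 : d ≠ 0) : d = 1 ∨ d = -1 := by
  have := hU.q_pos
  have h1 : d ^ (q - 1) = 1 := by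
    refine mul_right_cancel₀ h0 ?_
    rw [← pow_succ, Nat.sub_add_cancel (by omega), one_mul, ← hU.pow, hd]
  interval_cases q
  · exact Or.inl (by simpa using h1)
  · exact mul_self_eq_one_iff.1 (by simpa [sq] using h1)

/-- The stabiliser of two dual pairs commutes with the involution up to sign. -/
theorem pair_commute (hU : UForm 4 q τ) (hq : q ≤ 3) {N : Matrix (Fin 4) (Fin 4) F}
    (hiso : Nᵀ * pairGram F * N.map τ = pairGram F) (hdet : N.det = 1)
    (hblock : (N 2 0 = 0 ∧ N 3 0 = 0 ∧ N 2 1 = 0 ∧ N 3 1 = 0 ∧ N 0 2 = 0 ∧ N 1 2 = 0 ∧ N 0 3 = 0 ∧ N 1 3 = 0) ∨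
      (N 0 0 = 0 ∧ N 1 0 = 0 ∧ N 0 1 = 0 ∧ N 1 1 = 0 ∧ N 2 2 = 0 ∧ N 3 2 = 0 ∧ N 2 3 = 0 ∧ N 3 3 = 0)) :
    N * pairTau F = pairTau F * N.map τ ∨ N * pairTau F = -(pairTau F * N.map τ) := by
  classical
  have e : ∀ i j, (Nᵀ * pairGram F * N.map τ) i j = pairGram F i j := fun i j => by rw [hiso]
  rcases hblock with ⟨h20, h30, h21, h31, h02, h12, h03, h13⟩ | ⟨h00, h10, h01, h11, h22, h32, h23, h33⟩
  · have r00 : N 0 0 * τ (N 2 2) + N 1 0 * τ (N 3 2) = 1 := by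
      simpa [Matrix.mul_apply, Fin.sum_univ_four, pairGram, h20, h30, h02, h12] using e 0 2
    have r10 : N 0 1 * τ (N 2 2) + N 1 1 * τ (N 3 2) = 0 := by
      simpa [Matrix.mul_apply, Fin.sum_univ_four, pairGram, h21, h31, h02, h12] using e 1 2
    have r01 : N 0 0 * τ (N 2 3) + N 1 0 * τ (N 3 3) = 0 := by
      simpa [Matrix.mul_apply, Fin.sum_univ_four, pairGram, h20, h30, h03, h13] using e 0 3
    have r11 : N 0 1 * τ (N 2 3) + N 1 1 * τ (N 3 3) = 1 := by
      simpa [Matrix.mul_apply, Fin.sum_univ_four, pairGram, h21, h31, h03, h13] using e 1 3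
    set a := N 0 0
    set b := N 1 0
    set c := N 0 1
    set d' := N 1 1
    set x₀ := N 2 2
    set y₀ := N 3 2
    set x₁ := N 2 3
    set y₁ := N 3 3
    have hN : (a * d' - b * c) * (x₀ * y₁ - y₀ * x₁) = 1 := by
      rw [← hdet, Matrix.det_succ_row_zero]
      simp [Fin.sum_univ_succ, Matrix.det_fin_three, Fin.succAbove, a, b, c, d', x₀, y₀, x₁, y₁, h20, h30, h21, h31,
        h02, h12, h03, h13]
      ring
    set d := a * d' - b * c with hd
    have hτW : d * τ (x₀ * y₁ - y₀ * x₁) = 1 := by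
      rw [map_sub, map_mul, map_mul, hd]
      linear_combination (c * τ x₁ + d' * τ y₁) * r00 + r11 - (c * τ x₀ + d' * τ y₀) * r01
    have hd0 : d ≠ 0 := left_ne_zero_of_mul_eq_one hN
    have hdfix : τ d = d := by
      have h1 := congrArg τ hN
      rw [map_mul, map_one] at h1
      have h2 : τ (x₀ * y₁ - y₀ * x₁) ≠ 0 := right_ne_zero_of_mul_eq_one hτW
      exact mul_right_cancel₀ h2 (h1.trans hτW.symm)
    have hdd : d * d = 1 := by rcases fixed_pm_one hU hq hdfix hd0 with h | h <;> rw [h] <;> ring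
    have k1 : τ x₀ = d' * d := by linear_combination (d * d') * r00 - (d * b) * r10 - τ x₀ * hdd
    have k2 : τ y₀ = -c * d := by linear_combination (d * a) * r10 - (d * c) * r00 - τ y₀ * hdd
    have k3 : τ x₁ = -b * d := by linear_combination (d * d') * r01 - (d * b) * r11 - τ x₁ * hdd
    have k4 : τ y₁ = a * d := by linear_combination (d * a) * r11 - (d * c) * r01 - τ y₁ * hdd
    have k1' : x₀ = τ d' * d := by have := congrArg τ k1; rwa [hU.invol, map_mul, hdfix] at this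
    have k2' : y₀ = -τ c * d := by have := congrArg τ k2; rwa [hU.invol, map_mul, hdfix, map_neg] at this
    have k3' : x₁ = -τ b * d := by have := congrArg τ k3; rwa [hU.invol, map_mul, hdfix, map_neg] at this
    have k4' : y₁ = τ a * d := by have := congrArg τ k4; rwa [hU.invol, map_mul, hdfix] at this
    rcases fixed_pm_one hU hq hdfix hd0 with h1 | h1
    · left
      rw [h1] at k1 k2 k3 k4 k1' k2' k3' k4'
      simp [a, b, c, d', x₀, y₀, x₁, y₁] at k1 k2 k3 k4 k1' k2' k3' k4'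
      ext i j
      fin_cases i <;> fin_cases j <;>
        simp [Matrix.mul_apply, Matrix.vecMul, dotProduct, Fin.sum_univ_four, pairTau, h20, h30, h21, h31, h02, h12, h03, h13, k1, k2, k3, k4, k1', k2', k3', k4', hU.invol]
    · right
      rw [h1] at k1 k2 k3 k4 k1' k2' k3' k4'
      simp [a, b, c, d', x₀, y₀, x₁, y₁] at k1 k2 k3 k4 k1' k2' k3' k4'
      ext i j
      fin_cases i <;> fin_cases j <;>
        simp [Matrix.mul_apply, Matrix.vecMul, dotProduct, Fin.sum_univ_four, pairTau, h20, h30, h21, h31, h02, h12, h03, h13, k1, k2, k3, k4, k1', k2', k3', k4', hU.invol]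
  · have r00 : N 2 0 * τ (N 0 2) + N 3 0 * τ (N 1 2) = 1 := by
      simpa [Matrix.mul_apply, Fin.sum_univ_four, pairGram, h00, h10, h22, h32] using e 0 2
    have r10 : N 2 1 * τ (N 0 2) + N 3 1 * τ (N 1 2) = 0 := by
      simpa [Matrix.mul_apply, Fin.sum_univ_four, pairGram, h01, h11, h22, h32] using e 1 2
    have r01 : N 2 0 * τ (N 0 3) + N 3 0 * τ (N 1 3) = 0 := by
      simpa [Matrix.mul_apply, Fin.sum_univ_four, pairGram, h00, h10, h23, h33] using e 0 3
    have r11 : N 2 1 * τ (N 0 3) + N 3 1 * τ (N 1 3) = 1 := by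
      simpa [Matrix.mul_apply, Fin.sum_univ_four, pairGram, h01, h11, h23, h33] using e 1 3
    set a := N 2 0
    set b := N 3 0
    set c := N 2 1
    set d' := N 3 1
    set x₀ := N 0 2
    set y₀ := N 1 2
    set x₁ := N 0 3
    set y₁ := N 1 3
    have hN : (a * d' - b * c) * (x₀ * y₁ - y₀ * x₁) = 1 := by
      rw [← hdet, Matrix.det_succ_row_zero]
      simp [Fin.sum_univ_succ, Matrix.det_fin_three, Fin.succAbove, a, b, c, d', x₀, y₀, x₁, y₁, h00, h10, h01, h11,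
        h22, h32, h23, h33]
      ring
    set d := a * d' - b * c with hd
    have hτW : d * τ (x₀ * y₁ - y₀ * x₁) = 1 := by
      rw [map_sub, map_mul, map_mul, hd]
      linear_combination (c * τ x₁ + d' * τ y₁) * r00 + r11 - (c * τ x₀ + d' * τ y₀) * r01
    have hd0 : d ≠ 0 := left_ne_zero_of_mul_eq_one hN
    have hdfix : τ d = d := by
      have h1 := congrArg τ hN
      rw [map_mul, map_one] at h1
      have h2 : τ (x₀ * y₁ - y₀ * x₁) ≠ 0 := right_ne_zero_of_mul_eq_one hτW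
      exact mul_right_cancel₀ h2 (h1.trans hτW.symm)
    have hdd : d * d = 1 := by rcases fixed_pm_one hU hq hdfix hd0 with h | h <;> rw [h] <;> ring
    have k1 : τ x₀ = d' * d := by linear_combination (d * d') * r00 - (d * b) * r10 - τ x₀ * hdd
    have k2 : τ y₀ = -c * d := by linear_combination (d * a) * r10 - (d * c) * r00 - τ y₀ * hdd
    have k3 : τ x₁ = -b * d := by linear_combination (d * d') * r01 - (d * b) * r11 - τ x₁ * hdd
    have k4 : τ y₁ = a * d := by linear_combination (d * a) * r11 - (d * c) * r01 - τ y₁ * hdd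
    have k1' : x₀ = τ d' * d := by have := congrArg τ k1; rwa [hU.invol, map_mul, hdfix] at this
    have k2' : y₀ = -τ c * d := by have := congrArg τ k2; rwa [hU.invol, map_mul, hdfix, map_neg] at this
    have k3' : x₁ = -τ b * d := by have := congrArg τ k3; rwa [hU.invol, map_mul, hdfix, map_neg] at this
    have k4' : y₁ = τ a * d := by have := congrArg τ k4; rwa [hU.invol, map_mul, hdfix] at this
    rcases fixed_pm_one hU hq hdfix hd0 with h1 | h1
    · right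
      rw [h1] at k1 k2 k3 k4 k1' k2' k3' k4'
      simp [a, b, c, d', x₀, y₀, x₁, y₁] at k1 k2 k3 k4 k1' k2' k3' k4'
      ext i j
      fin_cases i <;> fin_cases j <;>
        simp [Matrix.mul_apply, Matrix.vecMul, dotProduct, Fin.sum_univ_four, pairTau, h00, h10, h01, h11, h22, h32, h23, h33, k1, k2, k3, k4, k1', k2', k3', k4', hU.invol]
    · left
      rw [h1] at k1 k2 k3 k4 k1' k2' k3' k4'
      simp [a, b, c, d', x₀, y₀, x₁, y₁] at k1 k2 k3 k4 k1' k2' k3' k4'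
      ext i j
      fin_cases i <;> fin_cases j <;>
        simp [Matrix.mul_apply, Matrix.vecMul, dotProduct, Fin.sum_univ_four, pairTau, h00, h10, h01, h11, h22, h32, h23, h33, k1, k2, k3, k4, k1', k2', k3', k4', hU.invol]

local notation "h4" => hermForm 4 F q

/-- Over at most nine elements a pair of Lagrangians gives way to a symplectic subfield structure. -/
theorem subfield_of_ts_small (hU : UForm 4 q τ) (hq : q ≤ 3) {D : Fin 2 → Submodule F (Fin 4 → F)}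
    (hD : IsMDecomposition 2 D) (hts : ∀ i, IsTotallySingularFor h4 (D i)) :
    ∃ (F₀ : Subfield F) (P : GL (Fin 4) F) (ζ : F), Fintype.card F = Nat.card F₀ ^ 2 ∧ ζ ≠ 0 ∧ ζ + ζ ^ q = 0 ∧
      IsFormRationalStructure h4 F₀ ζ P ∧
      (∀ u : Fin 4 → F, (∀ i, u i ∈ F₀) →
        h4 ((P : Matrix (Fin 4) (Fin 4) F) *ᵥ u) ((P : Matrix (Fin 4) (Fin 4) F) *ᵥ u) = 0) ∧
      decompositionStabilizer D ⊓ (GU 4 F q ⊓ specialLinear (Fin 4) F) ≤ subfieldSubgroup F₀ P := by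
  classical
  have hf := unitaryForm hU
  have hsmul := CfsgLib.Maximal.un_smul_right hf
  -- bases
  let bU := Module.finBasisOfFinrankEq F (D 0) (hD.finrank_eq 0)
  let u : Fin 2 → Fin 4 → F := fun i => (bU i : Fin 4 → F)
  have hu : ∀ i, u i ∈ D 0 := fun i => (bU i).2
  have huspan : ∀ x ∈ D 0, ∃ a b : F, x = a • u 0 + b • u 1 := fun x hx =>
    ⟨bU.repr ⟨x, hx⟩ 0, bU.repr ⟨x, hx⟩ 1, by
      have h := bU.sum_repr ⟨x, hx⟩
      rw [Fin.sum_univ_two] at h
      exact (congrArg Subtype.val h).symm⟩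
  have hsup : ∀ x : Fin 4 → F, ∃ a ∈ D 0, ∃ b ∈ D 1, a + b = x := fun x => Submodule.mem_sup.1 (by
    have h : (D 0 ⊔ D 1 : Submodule F (Fin 4 → F)) = ⊤ := by
      rw [eq_top_iff, ← hD.iSup_eq_top]
      exact iSup_le fun i => by fin_cases i <;> simp
    rw [h]; exact Submodule.mem_top)
  let L : D 1 →ₗ[F] (Fin 2 → F) :=
    { toFun := fun w i => h4 (w : Fin 4 → F) (u i)
      map_add' := fun a b => funext fun i => hf.add_left _ _ _
      map_smul' := fun c a => funext fun i => hf.smul_left _ _ _ }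
  have hinj : Function.Injective L := (injective_iff_map_eq_zero L).2 fun w hw => by
    by_contra hne
    obtain ⟨x, hx⟩ := CfsgLib.Maximal.un_exists hf (w : Fin 4 → F) fun e => hne (Subtype.ext e)
    obtain ⟨a, ha, b, hb', rfl⟩ := hsup x
    obtain ⟨α, β, rfl⟩ := huspan a ha
    rw [CfsgLib.Maximal.un_add_right hf, CfsgLib.Maximal.un_add_right hf, hsmul, hsmul, hts 1 _ w.2 b hb',
      show h4 (w : Fin 4 → F) (u 0) = 0 from congrFun hw 0, show h4 (w : Fin 4 → F) (u 1) = 0 from congrFun hw 1,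
      mul_zero, mul_zero, add_zero, add_zero] at hx
    exact zero_ne_one hx
  have hsurj : Function.Surjective L :=
    (LinearMap.injective_iff_surjective_of_finrank_eq_finrank (by simp [hD.finrank_eq])).1 hinj
  obtain ⟨⟨w₀, hw₀⟩, hL₀⟩ := hsurj ![1, 0]
  obtain ⟨⟨w₁, hw₁⟩, hL₁⟩ := hsurj ![0, 1]
  have a00 : h4 w₀ (u 0) = 1 := congrFun hL₀ 0
  have a01 : h4 w₀ (u 1) = 0 := congrFun hL₀ 1
  have a10 : h4 w₁ (u 0) = 0 := congrFun hL₁ 0
  have a11 : h4 w₁ (u 1) = 1 := congrFun hL₁ 1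
  have hwspan : ∀ x ∈ D 1, x = h4 x (u 0) • w₀ + h4 x (u 1) • w₁ := fun x hx => by
    refine congrArg Subtype.val (hinj (a₁ := (⟨x, hx⟩ : D 1))
      (a₂ := h4 x (u 0) • ⟨w₀, hw₀⟩ + h4 x (u 1) • ⟨w₁, hw₁⟩) ?_)
    rw [map_add, map_smul, map_smul, hL₀, hL₁]
    funext i
    fin_cases i <;> simp [L]
  let z : Fin 4 → Fin 4 → F := ![u 0, u 1, w₀, w₁]
  have hG : IsUnit (pairGram F) := by
    rw [Matrix.isUnit_iff_isUnit_det, Matrix.det_succ_row_zero]
    simp [Fin.sum_univ_succ, Matrix.det_fin_three, Fin.succAbove, pairGram]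
  have hz : ∀ p q', h4 (z p) (z q') = pairGram F p q' := by
    intro p q'
    have s1 : ∀ i j, h4 (u i) (u j) = 0 := fun i j => hts 0 _ (hu i) _ (hu j)
    have s2 : ∀ i, h4 (u i) w₀ = τ (h4 w₀ (u i)) := fun i => hf.herm _ _
    have s3 : ∀ i, h4 (u i) w₁ = τ (h4 w₁ (u i)) := fun i => hf.herm _ _
    fin_cases p <;> fin_cases q' <;>
      simp [z, pairGram, s1, s2, s3, a00, a01, a10, a11, hts 1 _ hw₀ _ hw₀, hts 1 _ hw₀ _ hw₁, hts 1 _ hw₁ _ hw₀,
        hts 1 _ hw₁ _ hw₁]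
  obtain ⟨P, hcol, hJ⟩ := exists_coords hU.geom (Equiv.refl (Fin 4)) z hG hz
  set P₀ := (P : Matrix (Fin 4) (Fin 4) F)
  -- the rational basis
  obtain ⟨θ, hθ⟩ : ∃ θ : F, τ θ ≠ θ := by
    by_contra h
    push Not at h
    exact hU.ne (RingEquiv.ext h)
  let Q₀ : Matrix (Fin 4) (Fin 4) F := !![1, θ, 0, 0; 0, 0, 1, θ; 0, 0, -1, -τ θ; 1, τ θ, 0, 0]
  have hQτ : pairTau F * Q₀.map τ = Q₀ := by
    ext i j
    fin_cases i <;> fin_cases j <;> simp [pairTau, Q₀, Matrix.mul_apply, Fin.sum_univ_four, hU.invol]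
  obtain ⟨Q, hQ⟩ : IsUnit Q₀ := by
    rw [Matrix.isUnit_iff_isUnit_det, isUnit_iff_ne_zero, Matrix.det_succ_row_zero]
    simp [Fin.sum_univ_succ, Matrix.det_fin_three, Fin.succAbove, Q₀]
    intro h
    exact mul_ne_zero (sub_ne_zero.2 hθ) (sub_ne_zero.2 hθ) (by linear_combination -h)
  set δ := τ θ - θ with hδ
  have hδ0 : δ ≠ 0 := sub_ne_zero.2 hθ
  have hδτ : τ δ = -δ := by rw [hδ, map_sub, hU.invol]; ring
  set F₀ := fixField τ
  let A : Matrix (Fin 4) (Fin 4) F :=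
    !![0, 0, 0, 1; 0, 0, 1, θ + τ θ; 0, -1, 0, 0; -1, -(θ + τ θ), 0, 0]
  have hA : ∀ i j, A i j ∈ F₀ := by
    intro i j
    rw [mem_fixField]
    fin_cases i <;> fin_cases j <;> simp [A, hU.invol] <;> ring
  have hQG : Q₀ᵀ * pairGram F * Q₀.map τ = δ • A := by
    ext i j
    fin_cases i <;> fin_cases j <;>
      simp [A, Q₀, pairGram, Matrix.mul_apply, Fin.sum_univ_four, hU.invol, hδ] <;> ring
  have hform : ∀ a b : Fin 4 → F, (∀ i, b i ∈ F₀) →
      h4 (((P * Q : GL (Fin 4) F) : Matrix (Fin 4) (Fin 4) F) *ᵥ a)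
        (((P * Q : GL (Fin 4) F) : Matrix (Fin 4) (Fin 4) F) *ᵥ b) = δ * ∑ i, ∑ j, a i * A i j * b j := by
    intro a b hb
    have h1 := coord_form hU.geom (Equiv.refl (Fin 4)) P ((Q : Matrix (Fin 4) (Fin 4) F) *ᵥ a)
      ((Q : Matrix (Fin 4) (Fin 4) F) *ᵥ b)
    simp only [Equiv.coe_refl, Function.comp_id, Matrix.mulVec_mulVec] at h1
    rw [Units.val_mul, h1, hJ, formOfGram_mulVec, hQ, hQG]
    simp only [formOfGram, Finset.mul_sum, Matrix.smul_apply, smul_eq_mul]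
    refine Finset.sum_congr rfl fun i _ => Finset.sum_congr rfl fun j _ => ?_
    rw [show τ (b j) = b j from mem_fixField.1 (hb j)]
    ring
  refine ⟨F₀, P * Q, δ⁻¹, hU.card_sq, inv_ne_zero hδ0, ?_, ?_, ?_, ?_⟩
  · rw [← hU.pow, map_inv₀, hδτ, inv_neg, add_neg_cancel]
  · intro a b ha hb
    rw [hform a b hb, ← mul_assoc, inv_mul_cancel₀ hδ0, one_mul]
    exact sum_mem fun i _ => sum_mem fun j _ => mul_mem (mul_mem (ha i) (hA i j)) (hb j)
  · intro a ha
    rw [hform a a ha]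
    simp [Fin.sum_univ_four, A]
    ring_nf
    simp
  rintro g ⟨⟨σ, hσ⟩, hgU, hgdet⟩
  set N := coordR (Equiv.refl (Fin 4)) P (g : Matrix (Fin 4) (Fin 4) F) with hN
  have hiso : Nᵀ * pairGram F * N.map τ = pairGram F := by
    have h := coord_sim τ (Equiv.refl (Fin 4)) P (1 : GL (Fin 4) F) g 1 (hU.isSim hgU)
    rwa [IsSim, one_smul, hJ] at h
  have hdet : N.det = 1 := by rw [hN, det_frame]; exact congrArg Units.val hgdet
  have hblock : (N 2 0 = 0 ∧ N 3 0 = 0 ∧ N 2 1 = 0 ∧ N 3 1 = 0 ∧ N 0 2 = 0 ∧ N 1 2 = 0 ∧ N 0 3 = 0 ∧ N 1 3 = 0) ∨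
      (N 0 0 = 0 ∧ N 1 0 = 0 ∧ N 0 1 = 0 ∧ N 1 1 = 0 ∧ N 2 2 = 0 ∧ N 3 2 = 0 ∧ N 2 3 = 0 ∧ N 3 3 = 0) := by
    have himg : ∀ i x, x ∈ D i → (g : Matrix (Fin 4) (Fin 4) F) *ᵥ x ∈ D (σ i) := fun i x hx =>
      hσ i ▸ ⟨x, hx, Matrix.toLin'_apply _ _⟩
    rcases (by omega : σ 0 = 0 ∨ σ 0 = 1) with h0 | h0
    · have h1 : σ 1 = 1 := by
        have : σ 1 ≠ 0 := fun e => absurd (σ.injective (e.trans h0.symm)) (by decide)
        omega
      obtain ⟨a, b, e0⟩ := huspan _ (h0 ▸ himg 0 _ (hu 0))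
      obtain ⟨c, d, e1⟩ := huspan _ (h0 ▸ himg 0 _ (hu 1))
      have e2 := hwspan _ (h1 ▸ himg 1 _ hw₀)
      have e3 := hwspan _ (h1 ▸ himg 1 _ hw₁)
      left
      rw [hN, coordR_of_cols (Equiv.refl (Fin 4)) P hcol
        (N := Matrix.of fun i j => (![![a, b, 0, 0], ![c, d, 0, 0],
          ![0, 0, h4 ((g : Matrix (Fin 4) (Fin 4) F) *ᵥ w₀) (u 0), h4 ((g : Matrix (Fin 4) (Fin 4) F) *ᵥ w₀) (u 1)],
          ![0, 0, h4 ((g : Matrix (Fin 4) (Fin 4) F) *ᵥ w₁) (u 0), h4 ((g : Matrix (Fin 4) (Fin 4) F) *ᵥ w₁) (u 1)]]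
            : Fin 4 → Fin 4 → F) j i)]
      · simp
      intro p
      fin_cases p <;> simp only [Fin.sum_univ_four, z, Matrix.of_apply] <;> simp
      exacts [e0, e1, e2, e3]
    · have h1 : σ 1 = 0 := by
        have : σ 1 ≠ 1 := fun e => absurd (σ.injective (e.trans h0.symm)) (by decide)
        omega
      have e0 := hwspan _ (h0 ▸ himg 0 _ (hu 0))
      have e1 := hwspan _ (h0 ▸ himg 0 _ (hu 1))
      obtain ⟨a, b, e2⟩ := huspan _ (h1 ▸ himg 1 _ hw₀)
      obtain ⟨c, d, e3⟩ := huspan _ (h1 ▸ himg 1 _ hw₁)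
      right
      rw [hN, coordR_of_cols (Equiv.refl (Fin 4)) P hcol
        (N := Matrix.of fun i j => (![
          ![0, 0, h4 ((g : Matrix (Fin 4) (Fin 4) F) *ᵥ u 0) (u 0), h4 ((g : Matrix (Fin 4) (Fin 4) F) *ᵥ u 0) (u 1)],
          ![0, 0, h4 ((g : Matrix (Fin 4) (Fin 4) F) *ᵥ u 1) (u 0), h4 ((g : Matrix (Fin 4) (Fin 4) F) *ᵥ u 1) (u 1)],
          ![a, b, 0, 0], ![c, d, 0, 0]] : Fin 4 → Fin 4 → F) j i)]
      · simp
      intro p
      fin_cases p <;> simp only [Fin.sum_univ_four, z, Matrix.of_apply] <;> simp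
      exacts [e0, e1, e2, e3]
  obtain ⟨c, hc0, hc⟩ : ∃ c : F, c ≠ 0 ∧ c • (N * pairTau F) = τ c • (pairTau F * N.map τ) := by
    rcases pair_commute hU hq hiso hdet hblock with h | h
    · exact ⟨1, one_ne_zero, by rw [map_one, h]⟩
    · exact ⟨δ, hδ0, by rw [hδτ, h, neg_smul, smul_neg]⟩
  have hM : (((P * Q)⁻¹ * g * (P * Q) : GL (Fin 4) F) : Matrix (Fin 4) (Fin 4) F) =
      (↑Q⁻¹ : Matrix (Fin 4) (Fin 4) F) * N * (Q : Matrix (Fin 4) (Fin 4) F) := by
    rw [hN, coordR_apply]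
    simp [mul_assoc]
  refine mem_subfieldSubgroup (P * Q) g hc0 fun i j => ?_
  rw [hM, mem_fixField]
  set M := c • ((↑Q⁻¹ : Matrix (Fin 4) (Fin 4) F) * N * (Q : Matrix (Fin 4) (Fin 4) F)) with hMd
  have hQM : (Q : Matrix (Fin 4) (Fin 4) F) * M = c • (N * (Q : Matrix (Fin 4) (Fin 4) F)) := by
    rw [hMd, Matrix.mul_smul, ← mul_assoc, ← mul_assoc, Units.mul_inv, one_mul]
  have hfix : (Q : Matrix (Fin 4) (Fin 4) F) * M.map τ = (Q : Matrix (Fin 4) (Fin 4) F) * M := by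
    calc (Q : Matrix (Fin 4) (Fin 4) F) * M.map τ = pairTau F * (Q₀.map τ * M.map τ) := by
          rw [← mul_assoc, hQτ, hQ]
      _ = pairTau F * (c • (N * Q₀)).map τ := by
          rw [← map_mul_equiv, ← hQ, hQM]
      _ = τ c • (pairTau F * N.map τ * Q₀.map τ) := by
          rw [Matrix.map_smul' (hf := map_mul τ), map_mul_equiv, Matrix.mul_smul, mul_assoc]
      _ = c • (N * (pairTau F * Q₀.map τ)) := by
          rw [← Matrix.smul_mul, ← hc, Matrix.smul_mul, mul_assoc]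
      _ = _ := by rw [hQτ, hQM, hQ]
  have h1 := congrArg (fun X => (↑Q⁻¹ : Matrix (Fin 4) (Fin 4) F) * X) hfix
  simp only [← mul_assoc, Units.inv_mul, one_mul] at h1
  exact congrFun (congrFun h1 i) j

end CfsgLib.AschbacherForm.Cases
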