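import Cfsg.Agent.Lib.AschbacherForm.Cases.Proper
import Cfsg.Agent.Lib.AschbacherForm.UnitMain
import Cfsg.Agent.Lib.Maximal.HermTv

/-!
The special unitary group lies in no member of the geometric classes.
-/

set_option autoImplicit false
set_option linter.unusedSectionVars false

namespace CfsgLib.AschbacherForm.Cases

open Cfsg Cfsg.Geo CfsgLib.Aschbacher
open CfsgLib.Maximal (tv tv_mulVec fvec suGL un_dot un_tv_dot utv_mem_su un_skew_exists un_add_right
  un_smul_right un_zero_left un_iso_comb)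
open scoped Matrix MatrixGroups

universe u
variable {F : Type u} [Field F] [Fintype F] {n q : ℕ} {τ : F ≃+* F}

local notation "hh" => hermForm n F q

theorem unitaryForm (hU : UForm n q τ) : IsUnitaryForm τ hh := by
  obtain ⟨τ', hp, hf⟩ := CfsgLib.Maximal.exists_hermSigma hU.card n
  have : τ' = τ := RingEquiv.ext fun x => (hp x).trans (hU.pow x).symm
  exact this ▸ hf

theorem exists_theta (hU : UForm n q τ) : ∃ θ : F, θ + τ θ = 1 :=
  CfsgLib.Geometry.exists_trace_one (σ := (τ : F →+* F))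
    (fun e => hU.ne (RingEquiv.ext fun x => RingHom.congr_fun e x)) hU.invol

/-- The transvections of the special unitary group. -/
theorem utv_mem (hU : UForm n q τ) {a : Fin n → F} (ha : hh a a = 0) {k : F} (hk : τ k = -k) :
    tv (k • a) (fvec hh a) (un_tv_dot (unitaryForm hU) ha k) ∈ GU n F q ⊓ specialLinear (Fin n) F :=
  utv_mem_su (unitaryForm hU) ha hk

theorem utv_apply (hU : UForm n q τ) {a : Fin n → F} (ha : hh a a = 0) (k : F) (x : Fin n → F) :
    (tv (k • a) (fvec hh a) (un_tv_dot (unitaryForm hU) ha k) : Matrix (Fin n) (Fin n) F) *ᵥ x =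
      x + (k * hh x a) • a := by
  rw [tv_mulVec, un_dot (unitaryForm hU), smul_smul, mul_comm]

/-- A hyperbolic pair. -/
theorem exists_hyperbolic (hU : UForm n q τ) (hn : 2 ≤ n) :
    ∃ e f : Fin n → F, hh e e = 0 ∧ hh f f = 0 ∧ hh e f = 1 ∧ hh f e = 1 := by
  classical
  have hf := unitaryForm hU
  obtain ⟨t, ht⟩ := exists_norm hU.ne hU.invol (e := (-1 : F)) (by rw [map_neg, map_one])
  let i : Fin n := ⟨0, by omega⟩
  let j : Fin n := ⟨1, by omega⟩
  have hij : i ≠ j := by simp [i, j, Fin.ext_iff]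
  let e : Fin n → F := Pi.single i 1 + Pi.single j t
  have hs : ∀ (a b : Fin n) (x y : F), hh (Pi.single a x) (Pi.single b y) = if a = b then x * τ y else 0 := by
    intro a b x y
    rw [hU.pow]
    unfold hermForm
    rw [Finset.sum_eq_single a]
    · split_ifs with h
      · subst h; simp
      · rw [Pi.single_eq_of_ne h, zero_pow (by have := hU.q_pos; omega), mul_zero]
    · intro l _ hl; simp [hl]
    · simp
  have he : hh e e = 0 := by
    simp only [e, hf.add_left, un_add_right hf, hs, if_neg hij, if_neg hij.symm, if_pos, map_one]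
    rw [ht]; ring
  have he0 : e ≠ 0 := fun h => by simpa [e, hij] using congrFun h i
  obtain ⟨y, hy⟩ := CfsgLib.Maximal.un_exists hf e he0
  obtain ⟨θ, hθ⟩ := exists_theta hU
  have hyy : τ (hh y y) = hh y y := (hf.herm y y).symm
  have hye : hh y e = 1 := by rw [hf.herm, hy, map_one]
  let f : Fin n → F := y + (-(hh y y) * θ) • e
  have hef : hh e f = 1 := by
    simp only [f, un_add_right hf, un_smul_right hf, he, hy, mul_zero, add_zero]
  refine ⟨e, f, he, ?_, hef, by rw [hf.herm, hef, map_one]⟩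
  simp only [f, hf.add_left, un_add_right hf, hf.smul_left, un_smul_right hf, hy, hye, he, map_mul, map_neg, hyy]
  linear_combination -(hh y y) * hθ

/-- Every vector is a combination of a hyperbolic pair and a vector orthogonal to it. -/
theorem split_pair (hU : UForm n q τ) {e f : Fin n → F} (he : hh e e = 0) (hff : hh f f = 0) (hef : hh e f = 1)
    (hfe : hh f e = 1) (x : Fin n → F) :
    ∃ z, hh z e = 0 ∧ hh z f = 0 ∧ x = hh x f • e + hh x e • f + z := by
  have hf := unitaryForm hU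
  refine ⟨x - hh x f • e - hh x e • f, ?_, ?_, by abel⟩ <;>
    simp only [sub_eq_add_neg, ← neg_smul, hf.add_left, hf.smul_left, he, hff, hef, hfe] <;> ring

/-- An isotropic vector over a vector orthogonal to a hyperbolic pair. -/
theorem lift_isotropic (hU : UForm n q τ) {e f z : Fin n → F} (he : hh e e = 0) (hff : hh f f = 0)
    (hef : hh e f = 1) (hfe : hh f e = 1) (hze : hh z e = 0) (hzf : hh z f = 0) :
    ∃ c : F, hh (z + c • e + f) (z + c • e + f) = 0 := by
  have hf := unitaryForm hU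
  obtain ⟨θ, hθ⟩ := exists_theta hU
  have hez : hh e z = 0 := by rw [hf.herm, hze, map_zero]
  have hfz : hh f z = 0 := by rw [hf.herm, hzf, map_zero]
  refine ⟨-(hh z z) * θ, ?_⟩
  have hzz : τ (hh z z) = hh z z := (hf.herm z z).symm
  simp only [hf.add_left, un_add_right hf, hf.smul_left, un_smul_right hf, he, hff, hef, hfe, hze, hzf, hez, hfz,
    map_mul, map_neg, hzz]
  linear_combination -(hh z z) * hθ

/-- Isotropic vectors span. -/
theorem isotropic_span (hU : UForm n q τ) (hn : 2 ≤ n) (W : Submodule F (Fin n → F))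
    (h : ∀ v, hh v v = 0 → v ∈ W) : W = ⊤ := by
  obtain ⟨e, f, he, hff, hef, hfe⟩ := exists_hyperbolic hU hn
  refine eq_top_iff.2 fun x _ => ?_
  obtain ⟨z, hze, hzf, hx⟩ := split_pair hU he hff hef hfe x
  obtain ⟨c, hc⟩ := lift_isotropic hU he hff hef hfe hze hzf
  have hz : z ∈ W := by
    have := W.sub_mem (W.sub_mem (h _ hc) (W.smul_mem c (h e he))) (h f hff)
    convert this using 1
    abel
  rw [hx]
  exact W.add_mem (W.add_mem (W.smul_mem _ (h e he)) (W.smul_mem _ (h f hff))) hz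

theorem rich_su (hU : UForm n q τ) (hn : 2 ≤ n) : Rich (GU n F q ⊓ specialLinear (Fin n) F) := by
  intro x hx
  have hf := unitaryForm hU
  haveI : Nonempty (Fin n) := ⟨⟨0, by omega⟩⟩
  obtain ⟨k, hk0, hk⟩ := un_skew_exists hf
  have key : ∀ a, hh a a = 0 → ∀ y, hh (x *ᵥ y) a • a = hh y a • (x *ᵥ a) := by
    intro a ha y
    have h1 := congrArg (· *ᵥ y) ((cj_eq_self_iff _ _).1 (hx _ _ _ (utv_mem hU ha hk)))
    simp only [← Matrix.mulVec_mulVec] at h1
    rw [utv_apply hU ha, utv_apply hU ha, Matrix.mulVec_add, Matrix.mulVec_smul] at h1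
    have h2 := add_left_cancel h1
    rw [mul_smul, mul_smul] at h2
    exact smul_right_injective _ hk0 h2
  have eig : ∀ a, hh a a = 0 → a ≠ 0 → ∃ c : F, x *ᵥ a = c • a ∧ ∀ y, hh (x *ᵥ y) a = c * hh y a := by
    intro a ha ha0
    obtain ⟨y, hy⟩ := CfsgLib.Maximal.un_exists hf a ha0
    have hya : hh y a = 1 := by rw [hf.herm, hy, map_one]
    refine ⟨hh (x *ᵥ y) a, ?_, fun z => ?_⟩
    · rw [key a ha y, hya, one_smul]
    · have := key a ha z
      rw [show x *ᵥ a = hh (x *ᵥ y) a • a by rw [key a ha y, hya, one_smul], smul_smul] at this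
      rw [mul_comm]
      exact (smul_left_injective F ha0) this
  obtain ⟨e, f, he, hff, hef, hfe⟩ := exists_hyperbolic hU hn
  have h0 : hh (0 : Fin n → F) f = 0 := un_zero_left hf f
  have h0' : hh (0 : Fin n → F) e = 0 := un_zero_left hf e
  have he0 : e ≠ 0 := fun h => zero_ne_one (α := F) (by rw [← hef, h, h0])
  have hf0 : f ≠ 0 := fun h => zero_ne_one (α := F) (by rw [← hfe, h, h0'])
  obtain ⟨c, hxe, hye⟩ := eig e he he0
  obtain ⟨d, hxf, hyf⟩ := eig f hff hf0
  have hcd : c = d := by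
    have hiso : hh (e + k • f) (e + k • f) = 0 := by
      simp only [hf.add_left, un_add_right hf, hf.smul_left, un_smul_right hf, he, hff, hef, hfe, hk]
      ring
    have hv0 : e + k • f ≠ 0 := fun h => zero_ne_one (α := F) (by
      have h' : hh (e + k • f) f = 1 := by rw [hf.add_left, hf.smul_left, hef, hff, mul_zero, add_zero]
      rw [← h', h, h0])
    obtain ⟨t, hxt, -⟩ := eig _ hiso hv0
    rw [Matrix.mulVec_add, Matrix.mulVec_smul, hxe, hxf] at hxt
    have a1 := congrArg (fun v => hh v f) hxt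
    have a2 := congrArg (fun v => hh v e) hxt
    simp only [hf.add_left, hf.smul_left, he, hff, hef, hfe, mul_zero, mul_one, add_zero, zero_add] at a1 a2
    rw [a1]
    exact (mul_left_cancel₀ hk0 (by linear_combination a2)).symm
  subst hcd
  refine ⟨c, Matrix.toLin'.injective (LinearMap.ext fun y => ?_)⟩
  rw [Matrix.toLin'_apply, Matrix.toLin'_apply, Matrix.smul_mulVec, Matrix.one_mulVec]
  obtain ⟨z, hze, hzf, hy⟩ := split_pair hU he hff hef hfe y
  suffices hz : x *ᵥ z = c • z by
    rw [hy, Matrix.mulVec_add, Matrix.mulVec_add, Matrix.mulVec_smul, Matrix.mulVec_smul, hxe, hxf, hz]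
    simp only [smul_add, smul_smul, mul_comm c]
  obtain ⟨l, hl⟩ := lift_isotropic hU he hff hef hfe hze hzf
  have hv0 : z + l • e + f ≠ 0 := fun h => zero_ne_one (α := F) (by
    have h' : hh (z + l • e + f) e = 1 := by
      rw [hf.add_left, hf.add_left, hf.smul_left, hze, he, hfe, mul_zero, zero_add, zero_add]
    rw [← h', h, h0'])
  obtain ⟨t, hxt, -⟩ := eig _ hl hv0
  have hxz : x *ᵥ z = t • z + ((t - c) * l) • e + (t - c) • f := by
    rw [Matrix.mulVec_add, Matrix.mulVec_add, Matrix.mulVec_smul, hxe, hxf] at hxt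
    linear_combination (norm := module) hxt
  have a := hye z
  rw [hxz, hze, hf.add_left, hf.add_left, hf.smul_left, hf.smul_left, hf.smul_left, hze, he, hfe, mul_zero, mul_zero,
    mul_one, mul_zero, zero_add, zero_add] at a
  rw [hxz, sub_eq_zero.1 a, sub_self, zero_mul, zero_smul, zero_smul, add_zero, add_zero]

theorem not_su_le_subspace (hU : UForm n q τ) (hn : 2 ≤ n) {W : Submodule F (Fin n → F)} (h0 : W ≠ ⊥) (h1 : W ≠ ⊤) :
    ¬ GU n F q ⊓ specialLinear (Fin n) F ≤ subspaceStabilizer W := by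
  intro h
  have hf := unitaryForm hU
  have hmove : ∀ v, hh v v = 0 → v ∉ W → ∀ w ∈ W, hh w v = 0 := by
    intro v hv hvW w hw
    by_contra hne
    obtain ⟨k, hk0, hk⟩ := un_skew_exists hf
    have h4 := ((CfsgLib.Maximal.mem_subspaceStabilizer_iff W _).1 (h (utv_mem hU hv hk)) w).1 hw
    rw [utv_apply hU hv, W.add_mem_iff_right hw, W.smul_mem_iff (mul_ne_zero hk0 hne)] at h4
    exact hvW h4
  obtain ⟨v, hv, hvW⟩ : ∃ v, hh v v = 0 ∧ v ∉ W := by
    by_contra hcon
    push Not at hcon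
    exact h1 (isotropic_span hU hn W hcon)
  obtain ⟨w, hw, hw0⟩ := W.exists_mem_ne_zero_of_ne_bot h0
  let Z : Submodule F (Fin n → F) :=
    { carrier := {x | ∀ w ∈ W, hh x w = 0}
      zero_mem' := fun w _ => un_zero_left hf w
      add_mem' := fun {a b} ha hb w hw => by rw [hf.add_left, ha w hw, hb w hw, add_zero]
      smul_mem' := fun c a ha w hw => by rw [hf.smul_left, ha w hw, mul_zero] }
  obtain ⟨u, hu, huZ⟩ : ∃ u, hh u u = 0 ∧ u ∉ Z := by
    by_contra hcon
    push Not at hcon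
    obtain ⟨y, hy⟩ := (hf.nondegenerate w hw0).1
    exact hy ((isotropic_span hU hn Z hcon ▸ Submodule.mem_top : y ∈ Z) w hw)
  have huW : u ∈ W := by
    by_contra huW
    exact huZ fun w hw => by rw [hf.herm, hmove u hu huW w hw, map_zero]
  obtain ⟨c, hc0, hc⟩ := un_iso_comb hf hu hv
  have hsW : u + c • v ∉ W := fun e => hvW ((W.smul_mem_iff hc0).1 ((W.add_mem_iff_right huW).1 e))
  apply huZ
  intro w hw
  have h2 : hh (u + c • v) w = 0 := by rw [hf.herm, hmove _ hc hsW w hw, map_zero]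
  rwa [hf.add_left, hf.smul_left, show hh v w = 0 by rw [hf.herm, hmove v hv hvW w hw, map_zero], mul_zero,
    add_zero] at h2

/-- A vector of norm sum zero with non-zero coefficients on three lines. -/
theorem exists_three_support (hU : UForm n q τ) (hn : 3 ≤ n) (h : 3 ≤ q ∨ 4 ≤ n) (d : Fin n → F)
    (hd : ∀ i, d i ≠ 0) (hdf : ∀ i, τ (d i) = d i) :
    ∃ x : Fin n → F, ∑ i, x i * τ (x i) * d i = 0 ∧
      x ⟨0, by omega⟩ ≠ 0 ∧ x ⟨1, by omega⟩ ≠ 0 ∧ x ⟨2, by omega⟩ ≠ 0 := by
  classical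
  obtain ⟨a, ha, h0, h1, h2, hsum⟩ : ∃ a : Fin n → F, (∀ i, τ (a i) = a i) ∧ a ⟨0, by omega⟩ ≠ 0 ∧
      a ⟨1, by omega⟩ ≠ 0 ∧ a ⟨2, by omega⟩ ≠ 0 ∧ ∑ i, a i = 0 := by
    by_cases h2 : q = 2
    · subst h2
      have hn4 : 4 ≤ n := by omega
      have h20 : (2 : F) = 0 := by
        by_contra hne
        exact absurd (hU.two_iff.1 hne) (by decide)
      refine ⟨Pi.single ⟨0, by omega⟩ 1 + Pi.single ⟨1, by omega⟩ 1 + Pi.single ⟨2, by omega⟩ 1 +
        Pi.single ⟨3, by omega⟩ 1, fun i => ?_, by simp [Fin.ext_iff], by simp [Fin.ext_iff], by simp [Fin.ext_iff], ?_⟩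
      · simp only [Pi.add_apply, Pi.single_apply, map_add, apply_ite τ, map_one, map_zero]
      · simp only [Pi.add_apply, Finset.sum_add_distrib, Finset.sum_pi_single', Finset.mem_univ, if_true]
        linear_combination 2 * h20
    · have h3 : 3 ≤ q := by have := hU.q_pos; omega
      obtain ⟨s, hs, hs0, hs1⟩ : ∃ s : F, τ s = s ∧ s ≠ 0 ∧ s ≠ -1 := by
        by_contra hcon
        push Not at hcon
        have hsub : (Finset.univ.filter fun s : F => τ s = s) ⊆ {0, -1} := fun s hs => by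
          simp only [Finset.mem_filter, Finset.mem_univ, true_and] at hs
          by_cases h0 : s = 0
          · simp [h0]
          · simp [hcon s hs h0]
        have h4 := Finset.card_le_card hsub
        have h5 : (Finset.univ.filter fun s : F => τ s = s).card = q := by
          rw [← hU.card_fix, Nat.card_eq_fintype_card, Fintype.card_subtype]
          congr 1
        have h6 : ({0, -1} : Finset F).card ≤ 2 := Finset.card_le_two
        omega
      refine ⟨Pi.single ⟨0, by omega⟩ 1 + Pi.single ⟨1, by omega⟩ s + Pi.single ⟨2, by omega⟩ (-1 - s),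
        fun i => ?_, by simp [Fin.ext_iff], by simp [Fin.ext_iff, hs0], ?_, ?_⟩
      · simp only [Pi.add_apply, Pi.single_apply, map_add, apply_ite τ, map_one, map_zero, map_sub, map_neg, hs]
      · simp only [Pi.add_apply, Pi.single_eq_same]
        rw [Pi.single_eq_of_ne (by simp [Fin.ext_iff]), Pi.single_eq_of_ne (by simp [Fin.ext_iff]), zero_add,
          zero_add]
        exact fun e => hs1 (by linear_combination -e)
      · simp only [Pi.add_apply, Finset.sum_add_distrib, Finset.sum_pi_single', Finset.mem_univ, if_true]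
        ring
  have hN : ∀ i, ∃ x : F, x * τ x = a i / d i := fun i =>
    exists_norm hU.ne hU.invol (by rw [map_div₀, ha, hdf])
  choose x hx using hN
  have hne : ∀ i, a i ≠ 0 → x i ≠ 0 := fun i hi e => by
    have := hx i
    rw [e, zero_mul, eq_comm, div_eq_zero_iff] at this
    exact this.elim hi (hd i)
  refine ⟨x, ?_, hne _ h0, hne _ h1, hne _ h2⟩
  rw [← hsum]
  exact Finset.sum_congr rfl fun i _ => by rw [hx, div_mul_cancel₀ _ (hd i)]

theorem not_su_le_frame (hU : UForm n q τ) (hn : 3 ≤ n) (h : 3 ≤ q ∨ 4 ≤ n) {t : ℕ}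
    {D : Fin t → Submodule F (Fin n → F)} (hD : IsNondegenerateMDecomposition hh 1 D) :
    ¬ GU n F q ⊓ specialLinear (Fin n) F ≤ decompositionStabilizer D := by
  intro hle
  classical
  have hf := unitaryForm hU
  have ht : n = t := by
    have hint : DirectSum.IsInternal D :=
      (DirectSum.isInternal_submodule_iff_iSupIndep_and_iSup_eq_top D).2 ⟨hD.decomp.indep, hD.decomp.iSup_eq_top⟩
    have h := Module.finrank_eq_card_basis
      (hint.collectedBasis fun i => Module.finBasisOfFinrankEq F (D i) (hD.decomp.finrank_eq i))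
    rw [Module.finrank_fin_fun, Fintype.card_sigma] at h
    simpa using h
  subst ht
  have hb : ∀ i, ∃ w ∈ D i, hh w w ≠ 0 := by
    intro i
    obtain ⟨w, hw, hspan⟩ := finrank_eq_one_iff'.1 (hD.decomp.finrank_eq i)
    obtain ⟨⟨x, hx, hne⟩, -⟩ := hD.nondegenerate i _ w.2 fun e => hw (Subtype.ext e)
    obtain ⟨c, hc⟩ := hspan ⟨x, hx⟩
    refine ⟨w, w.2, fun e => hne ?_⟩
    rw [show x = c • (w : Fin n → F) from congrArg Subtype.val hc.symm, hf.smul_left, e, mul_zero]
  choose w hw hwd using hb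
  obtain ⟨x, hsum, h0, h1, h2⟩ := exists_three_support hU hn h (fun i => hh (w i) (w i)) hwd
    fun i => (hf.herm _ _).symm
  set v := ∑ i, x i • w i
  have hpair : ∀ j, hh v (w j) = x j * hh (w j) (w j) := by
    intro j
    rw [CfsgLib.Maximal.un_sum_left hf, Finset.sum_eq_single j]
    · rw [hf.smul_left]
    · intro i _ hij; rw [hf.smul_left, hD.orthogonal i j hij _ (hw i) _ (hw j), mul_zero]
    · simp
  have hv : hh v v = 0 := by
    rw [← hsum]
    conv_lhs => rw [CfsgLib.Maximal.un_sum_left hf]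
    refine Finset.sum_congr rfl fun i _ => ?_
    rw [hf.smul_left, hf.herm, hpair, map_mul, ← hf.herm]
    ring
  obtain ⟨k, hk0, hk⟩ := un_skew_exists hf
  obtain ⟨σ, hσ⟩ := hle (utv_mem hU hv hk)
  let i : Fin n := ⟨0, by omega⟩
  have hmem : w i + (k * hh (w i) v) • v ∈ D (σ i) := by
    rw [← hσ i]
    exact ⟨w i, hw i, by rw [Matrix.toLin'_apply, utv_apply hU hv]⟩
  have hc : k * hh (w i) v ≠ 0 := by
    refine mul_ne_zero hk0 ?_
    rw [hf.herm, hpair, map_mul, ← hf.herm]
    exact mul_ne_zero (fun e => h0 (τ.injective (by rw [e, map_zero]))) (hwd i)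
  obtain ⟨j, hji, hjs, hxj⟩ : ∃ j, j ≠ i ∧ j ≠ σ i ∧ x j ≠ 0 := by
    by_cases hs : σ i = ⟨1, by omega⟩
    · exact ⟨⟨2, by omega⟩, by simp [i, Fin.ext_iff], by rw [hs]; simp [Fin.ext_iff], h2⟩
    · exact ⟨⟨1, by omega⟩, by simp [i, Fin.ext_iff], Ne.symm hs, h1⟩
  have h3 := hD.orthogonal (σ i) j hjs.symm _ hmem _ (hw j)
  rw [hf.add_left, hf.smul_left, hpair, hD.orthogonal i j hji.symm _ (hw i) _ (hw j), zero_add] at h3
  exact mul_ne_zero hc (mul_ne_zero hxj (hwd j)) h3

theorem not_su_le_subfield (hU : UForm n q τ) (hn : 3 ≤ n) {F₀ : Subfield F} {r : ℕ} (hr : r.Prime)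
    (hcard : Fintype.card F = Nat.card F₀ ^ r) (P : GL (Fin n) F) :
    ¬ GU n F q ⊓ specialLinear (Fin n) F ≤ subfieldSubgroup F₀ P := by
  intro hle
  classical
  have hf := unitaryForm hU
  have hcard2 : 2 ≤ Fintype.card (Fin n) := by simp; omega
  obtain ⟨k, hk0, hk⟩ := un_skew_exists hf
  obtain ⟨e, f, he, hff, hef, hfe⟩ := exists_hyperbolic hU (by omega)
  have hne0 : ∀ a b : Fin n → F, hh a b = 1 → a ≠ 0 := fun a b h e => by
    rw [e, un_zero_left hf] at h
    exact zero_ne_one h
  have he0 := hne0 _ _ hef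
  have hf0 := hne0 _ _ hfe
  have hvec : ∀ a, a ≠ 0 → fvec hh a ≠ 0 := fun a ha h => by
    obtain ⟨y, hy⟩ := CfsgLib.Maximal.un_exists hf a ha
    have h2 := un_dot hf a y
    rw [h, zero_dotProduct, hf.herm, hy, map_one] at h2
    exact zero_ne_one h2
  have hfix : fixField τ ≤ F₀ := fun s hs => by
    have hs' : τ (s * k) = -(s * k) := by rw [map_mul, mem_fixField.1 hs, hk]; ring
    have h1 := hle (utv_mem hU he hk)
    have h2 := hle (utv_mem hU he hs')
    simp only [mul_smul] at h2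
    exact ratio_rational hcard2 (smul_ne_zero hk0 he0) (hvec e he0) h1 h2
  have hq : q ≤ Nat.card F₀ := by
    rw [← hU.card_fix]
    exact Nat.card_le_card_of_injective (fun s : fixField τ => (⟨s, hfix s.2⟩ : F₀))
      fun a b e => Subtype.ext (congrArg Subtype.val e :)
  rw [hU.card] at hcard
  have hr2 : r = 2 := by
    by_contra hne
    have h3 : 3 ≤ r := by have := hr.two_le; omega
    have h4 : q ^ 3 ≤ Nat.card F₀ ^ r := le_trans (Nat.pow_le_pow_left hq 3)
      (Nat.pow_le_pow_right (by have := hU.q_pos; omega) h3)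
    have h5 : q ^ 2 < q ^ 3 := Nat.pow_lt_pow_right (by have := hU.q_pos; omega) (by norm_num)
    omega
  subst hr2
  have hF₀ : Nat.card F₀ = q := (Nat.pow_left_injective two_ne_zero hcard).symm
  have hfix' : ∀ s ∈ F₀, τ s = s := fun s hs => by
    let g : fixField τ → F₀ := fun s => ⟨s, hfix s.2⟩
    have hg : Function.Bijective g := (Nat.bijective_iff_injective_and_card g).2
      ⟨fun a b e => Subtype.ext (congrArg Subtype.val e :), by rw [hU.card_fix, hF₀]⟩
    obtain ⟨⟨s', hs'⟩, e⟩ := hg.2 ⟨s, hs⟩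
    rw [← show s' = s from congrArg Subtype.val e]
    exact mem_fixField.1 hs'
  -- the semilinear map fixing the rational points
  let Pm : Matrix (Fin n) (Fin n) F := P
  let s : (Fin n → F) → Fin n → F := fun x => Pm *ᵥ (fun i => τ (((↑P⁻¹ : Matrix (Fin n) (Fin n) F) *ᵥ x) i))
  have hs_add : ∀ x y, s (x + y) = s x + s y := fun x y => by
    simp only [s, Matrix.mulVec_add, Pi.add_apply, map_add]
    rw [← Matrix.mulVec_add]; rfl
  have hs_smul : ∀ (c : F) x, s (c • x) = τ c • s x := fun c x => by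
    simp only [s, Matrix.mulVec_smul, Pi.smul_apply, smul_eq_mul, map_mul]
    rw [← Matrix.mulVec_smul]; rfl
  have hline : ∀ a, hh a a = 0 → a ≠ 0 → ∃ t : F, s a = t • a := by
    intro a ha ha0
    have hrat := tv_rational hcard2 (hle (utv_mem hU ha hk))
    set a' := (↑P⁻¹ : Matrix (Fin n) (Fin n) F) *ᵥ a with ha'
    set φ' := fvec hh a ᵥ* Pm with hφ'
    have hM : (↑P⁻¹ : Matrix (Fin n) (Fin n) F) * Matrix.vecMulVec (k • a) (fvec hh a) * (P : Matrix (Fin n) (Fin n) F) =
        Matrix.vecMulVec (k • a') φ' := by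
      rw [Matrix.mul_vecMulVec, Matrix.vecMulVec_mul, Matrix.mulVec_smul]
    obtain ⟨j, hj⟩ : ∃ j, φ' j ≠ 0 := by
      by_contra hcon
      push Not at hcon
      refine hvec a ha0 ?_
      have h1 : φ' = 0 := funext hcon
      have h2 : fvec hh a = φ' ᵥ* (↑P⁻¹ : Matrix (Fin n) (Fin n) F) := by
        rw [hφ', Matrix.vecMul_vecMul, Units.mul_inv, Matrix.vecMul_one]
      rw [h2, h1, Matrix.zero_vecMul]
    set l := k * φ' j with hl
    have hl0 : l ≠ 0 := mul_ne_zero hk0 hj
    refine ⟨l / τ l, ?_⟩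
    have h3 : ∀ i, τ (a' i) = l / τ l * a' i := fun i => by
      have h4 := hfix' _ (hrat i j)
      rw [hM, Matrix.vecMulVec_apply, Pi.smul_apply, smul_eq_mul, map_mul, map_mul] at h4
      have hne : τ l ≠ 0 := fun e => hl0 (τ.injective (by rw [e, map_zero]))
      rw [div_mul_eq_mul_div, eq_div_iff hne, hl, map_mul]
      linear_combination h4
    show Pm *ᵥ (fun i => τ (a' i)) = _
    rw [show (fun i => τ (a' i)) = (l / τ l) • a' from funext h3, Matrix.mulVec_smul, ha', Matrix.mulVec_mulVec,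
      Units.mul_inv, Matrix.one_mulVec]
  obtain ⟨μ, hμ⟩ := hline e he he0
  obtain ⟨ν, hν⟩ := hline f hff hf0
  have hμ0 : μ ≠ 0 := fun e0 => he0 (by
    rw [e0, zero_smul] at hμ
    have h2 := congrArg ((↑P⁻¹ : Matrix (Fin n) (Fin n) F) *ᵥ ·) hμ
    simp only [s, Pm, Matrix.mulVec_mulVec, Units.inv_mul, Matrix.one_mulVec, Matrix.mulVec_zero] at h2
    have h3 : (↑P⁻¹ : Matrix (Fin n) (Fin n) F) *ᵥ e = 0 := funext fun i => τ.injective (by
      rw [Pi.zero_apply, map_zero]; exact congrFun h2 i)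
    have h4 := congrArg (Pm *ᵥ ·) h3
    simpa [Pm, Matrix.mulVec_mulVec] using h4)
  obtain ⟨z, hze, hzf, hzz⟩ : ∃ z, hh z e = 0 ∧ hh z f = 0 ∧ hh z z ≠ 0 := by
    by_contra hcon
    push Not at hcon
    obtain ⟨v, hv0, hv⟩ := exists_perp (by omega) (show 2 < Fintype.card (Fin n) by simp; omega)
      ![fvec hh e, fvec hh f]
    have hve : hh v e = 0 := by rw [← un_dot hf]; exact hv 0
    have hvf : hh v f = 0 := by rw [← un_dot hf]; exact hv 1
    obtain ⟨y, hy⟩ := CfsgLib.Maximal.un_exists hf v hv0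
    obtain ⟨z', hze', hzf', hy'⟩ := split_pair hU he hff hef hfe y
    have hvz : hh v z' = 1 := by
      rw [hy', un_add_right hf, un_add_right hf, un_smul_right hf, un_smul_right hf, hve, hvf, mul_zero, mul_zero,
        zero_add, zero_add] at hy
      exact hy
    obtain ⟨θ, hθ⟩ := exists_theta hU
    have h1 := hcon (v + θ • z') (by rw [hf.add_left, hf.smul_left, hve, hze', mul_zero, add_zero])
      (by rw [hf.add_left, hf.smul_left, hvf, hzf', mul_zero, add_zero])
    have hzv : hh z' v = 1 := by rw [hf.herm, hvz, map_one]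
    simp only [hf.add_left, un_add_right hf, hf.smul_left, un_smul_right hf, hcon v hve hvf, hcon z' hze' hzf', hvz,
      hzv] at h1
    exact one_ne_zero (show (1 : F) = 0 by linear_combination h1 - hθ)
  obtain ⟨θ, hθ⟩ := exists_theta hU
  set c := -(hh z z) * θ
  have hzτ : τ (hh z z) = hh z z := (hf.herm z z).symm
  have hiso : ∀ l : F, l * τ l = 1 → hh (e + c • f + l • z) (e + c • f + l • z) = 0 := by
    intro l hl
    have hez : hh e z = 0 := by rw [hf.herm, hze, map_zero]
    have hfz : hh f z = 0 := by rw [hf.herm, hzf, map_zero]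
    simp only [c, hf.add_left, un_add_right hf, hf.smul_left, un_smul_right hf, he, hff, hef, hfe, hze, hzf, hez,
      hfz, map_mul, map_neg, hzτ]
    linear_combination -(hh z z) * hθ + hh z z * hl
  have hvne : ∀ l : F, e + c • f + l • z ≠ 0 := fun l h => by
    have h1 : hh (e + c • f + l • z) f = 1 := by
      rw [hf.add_left, hf.add_left, hf.smul_left, hf.smul_left, hef, hff, hzf, mul_zero, mul_zero, add_zero, add_zero]
    rw [h, un_zero_left hf] at h1
    exact zero_ne_one h1
  obtain ⟨t₁, ht₁⟩ := hline _ (hiso 1 (by rw [map_one, mul_one])) (hvne 1)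
  rw [hs_add, hs_add, hs_smul, hs_smul, hμ, hν, map_one, one_smul] at ht₁
  have hsz : s z = (t₁ - μ) • e + (t₁ * c - τ c * ν) • f + t₁ • z := by
    linear_combination (norm := module) ht₁
  have hquad : ∀ l : F, l * τ l = 1 → μ * l ^ 2 + (t₁ - μ) * l - t₁ = 0 := by
    intro l hl
    obtain ⟨t, ht⟩ := hline _ (hiso l hl) (hvne l)
    rw [hs_add, hs_add, hs_smul, hs_smul, hμ, hν, hsz] at ht
    have a1 := congrArg (fun v => hh v f) ht
    have a2 := congrArg (fun v => hh v z) ht
    have hez : hh e z = 0 := by rw [hf.herm, hze, map_zero]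
    have hfz : hh f z = 0 := by rw [hf.herm, hzf, map_zero]
    simp only [hf.add_left, hf.smul_left, hef, hff, hzf, hez, hfz, mul_zero, mul_one, add_zero, zero_add] at a1 a2
    have a3 : τ l * t₁ = t * l := mul_right_cancel₀ hzz (by linear_combination a2)
    linear_combination l ^ 2 * a1 - l * a3 + (t₁ - (t₁ - μ) * l) * hl
  obtain ⟨ω, ω', hω, hω', hω1, hω'1, hne⟩ :
      ∃ ω ω' : F, ω * τ ω = 1 ∧ ω' * τ ω' = 1 ∧ ω ≠ 1 ∧ ω' ≠ 1 ∧ ω ≠ ω' := by
    obtain ⟨a, ha⟩ : ∃ a : F, τ a ≠ a := by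
      by_contra hcon
      push Not at hcon
      exact hU.ne (RingEquiv.ext hcon)
    have ha0 : a ≠ 0 := fun e => ha (by rw [e, map_zero])
    have hτa : τ a ≠ 0 := fun e => ha0 (τ.injective (by rw [e, map_zero]))
    have hb : τ (1 + a) ≠ 0 := fun e => ha (by
      have h1 : (1 : F) + a = 0 := τ.injective (by rw [e, map_zero])
      rw [show a = -1 by linear_combination h1, map_neg, map_one])
    have hb' : (1 : F) + a ≠ 0 := fun e => hb (by rw [e, map_zero])
    refine ⟨a / τ a, (1 + a) / τ (1 + a), ?_, ?_, fun e => ha ?_, fun e => ha ?_, fun e => ha ?_⟩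
    · rw [map_div₀, hU.invol]; field_simp
    · rw [map_div₀, hU.invol]; field_simp
    · rw [div_eq_one_iff_eq hτa] at e; exact e.symm
    · rw [div_eq_one_iff_eq hb, map_add, map_one] at e; linear_combination -e
    · rw [div_eq_div_iff hτa hb, map_add, map_one] at e; linear_combination -e
  have q1 := hquad ω hω
  have q2 := hquad ω' hω'
  have e1 : μ * ω + t₁ = 0 := (mul_eq_zero.1 (show (ω - 1) * (μ * ω + t₁) = 0 by
    linear_combination q1)).resolve_left (sub_ne_zero.2 hω1)
  have e2 : μ * ω' + t₁ = 0 := (mul_eq_zero.1 (show (ω' - 1) * (μ * ω' + t₁) = 0 by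
    linear_combination q2)).resolve_left (sub_ne_zero.2 hω'1)
  exact hμ0 ((mul_eq_zero.1 (show μ * (ω - ω') = 0 by linear_combination e1 - e2)).resolve_right
    (sub_ne_zero.2 hne))

/-- The members of the classes do not contain the special unitary group. -/
theorem unit_shape_not_le (hU : UForm n q τ) (hn : 4 ≤ n) (hn' : n ≤ 15) {X : Subgroup (GL (Fin n) F)}
    (hX : UnitShape n q F X) : ¬ GU n F q ⊓ specialLinear (Fin n) F ≤ X := by
  have hR := rich_su hU (show 2 ≤ n by omega)
  have hn3 : 3 ≤ Fintype.card (Fin n) := by simp; omega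
  rcases hX with ⟨W, h0, h1, rfl⟩ | ⟨W, h0, h1, h2, rfl⟩ | ⟨t, k, D, h0, rfl⟩ | ⟨k, D, h0, h1, h2, rfl⟩ |
    ⟨F₀, r, P, h0, h1, h2, h3, rfl⟩ | ⟨F₀, P, h0, h1, h2, rfl⟩ | ⟨F₀, P, ζ, h0, h1, h2, h3, h4, h5, rfl⟩ |
    ⟨r, R, p, e, k, a, b, c, d, g, i, rfl, hnk, -, -, hcomm⟩ |
    ⟨r, K, h0, h1, h2, h3, rfl⟩ | ⟨n₁, n₂, e, P, f₁, f₂, h0, h1, h2, h3, h4, rfl⟩ |
    ⟨k, t, e, P, f₁, h0, h1, h2, h3, h4, rfl⟩
  · refine not_su_le_subspace hU (by omega) h0 fun e => ?_
    subst e
    obtain ⟨a, b, -, -, hab, -⟩ := exists_hyperbolic hU (show 2 ≤ n by omega)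
    exact one_ne_zero (hab ▸ h1 a Submodule.mem_top b Submodule.mem_top)
  · refine not_su_le_subspace hU (by omega) h0 fun e => ?_
    subst e
    rw [finrank_top, Module.finrank_fin_fun] at h2
    omega
  · rcases Nat.lt_or_ge k 2 with hk | hk
    · obtain rfl : k = 1 := by have := h0.decomp.pos; omega
      exact not_su_le_frame hU (by omega) (Or.inr hn) h0
    · exact not_le_decomposition hR hk h0.decomp
  · exact not_le_decomposition hR (by omega) h1
  · exact not_su_le_subfield hU (by omega) h0 h2 P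
  · exact not_su_le_subfield hU (by omega) Nat.prime_two h1 P
  · exact not_su_le_subfield hU (by omega) Nat.prime_two h1 P
  · refine not_le_normalizer hR hn3 b hcomm ?_
    simp only [Fintype.card_fin]
    by_cases h5 : 5 ≤ n
    · exact Or.inl h5
    obtain rfl : n = 4 := by omega
    rcases i with ⟨hodd, -, hk1, -⟩ | ⟨rfl, -⟩
    · exfalso
      have hd : r ∣ 2 ^ 2 := by
        show r ∣ 4
        rw [hnk]; exact dvd_pow_self r (by omega)
      exact absurd ((Nat.prime_dvd_prime_iff_eq a.prime Nat.prime_two).1 (a.prime.dvd_of_dvd_pow hd))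
        (fun e => by rw [e] at hodd; exact absurd hodd (by decide))
    refine Or.inr ⟨fun e2 => ?_, sq_scalar b hcomm fun x hx => ?_⟩
    · obtain ⟨hp, hchar, -⟩ := g
      haveI := hchar
      have h2 : ((2 : ℕ) : F) = 0 := by exact_mod_cast e2
      rw [CharP.cast_eq_zero_iff F p] at h2
      exact d ((Nat.prime_dvd_prime_iff_eq hp Nat.prime_two).1 h2).symm
    · have h4 := Monoid.pow_exponent_eq_one (⟨x, hx⟩ : R)
      rw [a.exponent_eq] at h4
      simpa using congrArg Subtype.val h4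
  · exact not_le_field hR hn3 h0.two_le h2
  · exact not_le_tensor hR h0 (by omega)
  · have hc : n = k ^ t := by simpa using Fintype.card_congr e
    obtain ⟨rfl, rfl⟩ : k = 3 ∧ t = 2 := by
      have hk : k ≤ 3 := by
        by_contra hk
        have : 4 ^ 2 ≤ k ^ t := le_trans (Nat.pow_le_pow_left (by omega) 2) (Nat.pow_le_pow_right (by omega) h1)
        omega
      obtain rfl : k = 3 := le_antisymm hk h0
      refine ⟨rfl, le_antisymm ?_ h1⟩
      by_contra ht
      have : 3 ^ 3 ≤ 3 ^ t := Nat.pow_le_pow_right (by norm_num) (by omega)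
      omega
    have hq : 3 ≤ q := by
      have := hU.q_pos
      by_contra hq
      exact h2 ⟨by omega, rfl⟩
    obtain ⟨a, ha0, ha1⟩ : ∃ a : F, a ≠ 0 ∧ a ≠ 1 := by
      classical
      by_contra hcon
      push Not at hcon
      have hsub : (Finset.univ : Finset F) ⊆ {0, 1} := fun s _ => by
        by_cases h0' : s = 0
        · simp [h0']
        · simp [hcon s h0']
      have h5 := (Finset.card_le_card hsub).trans Finset.card_le_two
      rw [Finset.card_univ, hU.card] at h5
      nlinarith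
    refine not_le_wreath hR (by norm_num) (by norm_num) (by simp; omega) (by simp; omega)
      (A := Matrix.diagonal ![0, 1, a]) (C := !![0, 1, 0; 0, 0, 1; 1, 0, 0]) ?_
    have hD : Matrix.diagonal ![0, 1, a] * !![0, 1, 0; 0, 0, 1; 1, 0, 0] -
        !![0, 1, 0; 0, 0, 1; 1, 0, 0] * Matrix.diagonal ![0, 1, a] =
        !![0, -1, 0; 0, 0, 1 - a; a, 0, 0] := by
      ext i j
      fin_cases i <;> fin_cases j <;> simp [Matrix.diagonal_mul, Matrix.vecMul_diagonal]
    rw [hD, Matrix.isUnit_iff_isUnit_det, Matrix.det_fin_three]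
    simp only [isUnit_iff_ne_zero, Matrix.cons_val', Matrix.cons_val_zero, Matrix.cons_val_one, Matrix.cons_val,
      Matrix.empty_val', Matrix.cons_val_fin_one, Matrix.of_apply]
    intro h
    exact mul_ne_zero (sub_ne_zero.2 ha1.symm) ha0 (by linear_combination -h)

/-- A maximal subgroup is the intersection with any shape containing it. -/
theorem su_eq_inf {H X : Subgroup (GL (Fin n) F)}
    (hH : IsMaximalIn (GU n F q ⊓ specialLinear (Fin n) F) H) (hle : H ≤ X)
    (hX : ¬ GU n F q ⊓ specialLinear (Fin n) F ≤ X) : H = X ⊓ (GU n F q ⊓ specialLinear (Fin n) F) :=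
  ((hH.2 _ (le_inf hle hH.1.le) inf_le_right).resolve_right fun e => hX (inf_eq_right.1 e)).symm

theorem su_reduce (hU : UForm n q τ) (hn : 4 ≤ n) (hn' : n ≤ 15) {H : Subgroup (GL (Fin n) F)}
    (hH : IsMaximalIn (GU n F q ⊓ specialLinear (Fin n) F) H) :
    InUnitaryResidualClass H ∨ ∃ X, UnitShape n q F X ∧ H ≤ X ∧
      H = X ⊓ (GU n F q ⊓ specialLinear (Fin n) F) := by
  rcases unitary_structure hU (by omega) H (hH.1.le.trans inf_le_left) with ⟨X, hX, hle⟩ | h
  · exact Or.inr ⟨X, hX, hle, su_eq_inf hH hle (unit_shape_not_le hU hn hn' hX)⟩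
  · exact Or.inl h

end CfsgLib.AschbacherForm.Cases
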