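import Cfsg.Agent.Lib.AschbacherForm.Cases.UnitTwo
import Cfsg.Agent.Lib.AschbacherForm.Cases.FrameCoord
import Mathlib.Data.ZMod.Basic
import Mathlib.LinearAlgebra.Matrix.Permutation

/-!
`SU₆(2)`: the stabiliser of an orthogonal frame is not maximal; it fixes a larger configuration of vectors.
-/

set_option autoImplicit false
set_option linter.unusedSectionVars false

namespace CfsgLib.AschbacherForm.Cases

open Cfsg Cfsg.Geo CfsgLib.Aschbacher
open CfsgLib.Maximal (tv fvec un_tv_dot)
open scoped Matrix MatrixGroups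

universe u

/-- The coefficients of the three cube roots of unity with respect to a primitive one. -/
def rootPair : Fin 3 → ZMod 2 × ZMod 2 := ![(1, 0), (0, 1), (1, 1)]

/-- The index of a cube root of unity. -/
def rootIndex (p : ZMod 2 × ZMod 2) : Fin 3 := if p = (1, 0) then 0 else if p = (0, 1) then 1 else 2

/-- Six roots with product one: shifting by their sum leaves two of them, or six with product one. -/
theorem root_shift : ∀ a b c d e g : Fin 3, a + b + c + d + e + g = 0 →
    let S := rootPair a + rootPair b + rootPair c + rootPair d + rootPair e + rootPair g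
    let y : Fin 6 → ZMod 2 × ZMod 2 := ![rootPair a + S, rootPair b + S, rootPair c + S, rootPair d + S,
      rootPair e + S, rootPair g + S]
    (∃ i j, i ≠ j ∧ y i ≠ 0 ∧ y j ≠ 0 ∧ ∀ k, k ≠ i → k ≠ j → y k = 0) ∨
      ((∀ k, y k ≠ 0) ∧ ∑ k, rootIndex (y k) = 0) := by
  decide +kernel

variable {F : Type u} [Field F] [Fintype F] {q : ℕ} {τ : F ≃+* F}

/-- Two non-zero coordinates, or six with product one. -/
def InConfig {κ : Type} [Fintype κ] (x : κ → F) : Prop :=
  (∃ a b, a ≠ b ∧ x a ≠ 0 ∧ x b ≠ 0 ∧ ∀ k, k ≠ a → k ≠ b → x k = 0) ∨ ((∀ k, x k ≠ 0) ∧ ∏ k, x k = 1)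

theorem config_monomial {κ : Type} [Fintype κ] {x y : κ → F} {t : κ → F} {σ : Equiv.Perm κ}
    (ht : ∀ i, t i ≠ 0) (hp : ∏ i, t i = 1) (hy : ∀ i, y (σ i) = t i * x i) (h : InConfig x) : InConfig y := by
  rcases h with ⟨a, b, hab, ha, hb, h0⟩ | ⟨h0, h1⟩
  · refine Or.inl ⟨σ a, σ b, fun e => hab (σ.injective e), ?_, ?_, fun k hka hkb => ?_⟩
    · rw [hy]; exact mul_ne_zero (ht a) ha
    · rw [hy]; exact mul_ne_zero (ht b) hb
    · obtain ⟨i, rfl⟩ := σ.surjective k
      rw [hy, h0 i (fun e => hka (e ▸ rfl)) (fun e => hkb (e ▸ rfl)), mul_zero]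
  · refine Or.inr ⟨fun k => ?_, ?_⟩
    · obtain ⟨i, rfl⟩ := σ.surjective k
      rw [hy]; exact mul_ne_zero (ht i) (h0 i)
    · rw [← Equiv.prod_comp σ, Finset.prod_congr rfl fun i _ => hy i, Finset.prod_mul_distrib, hp, h1, one_mul]

/-- Adding the sum of the coordinates preserves the configuration. -/
theorem config_shift (hF : Fintype.card F = 4) (x : Fin 6 → F) (h : InConfig x) :
    InConfig fun i => x i + ∑ j, x j := by
  classical
  haveI hchar : CharP F 2 := (CharP.charP_iff_prime_eq_zero Nat.prime_two).2 (by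
    have := FiniteField.cast_card_eq_zero F
    rw [hF] at this
    norm_num at this
    refine pow_eq_zero_iff (n := 2) two_ne_zero |>.1 ?_
    push_cast
    linear_combination this)
  have h2 : (2 : F) = 0 := by exact_mod_cast CharP.cast_eq_zero F 2
  have hc3 : ∀ c : F, c ≠ 0 → c ^ 3 = 1 := fun c hc => by
    have := FiniteField.pow_card_sub_one_eq_one c hc
    rwa [hF] at this
  rcases h with ⟨a, b, hab, ha, hb, h0⟩ | ⟨h0, h1⟩
  · have hS : ∑ j, x j = x a + x b := Fintype.sum_eq_add a b hab fun k hk => h0 k hk.1 hk.2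
    simp only [hS]
    by_cases he : x a = x b
    · left
      refine ⟨a, b, hab, ?_, ?_, fun k hka hkb => ?_⟩
      · intro e; exact ha (by linear_combination e - (x a) * h2 + he)
      · intro e; exact hb (by linear_combination e - (x b) * h2 - he)
      · beta_reduce; rw [h0 k hka hkb]; linear_combination he + (x b) * h2
    · right
      have hsum : x a + x b ≠ 0 := fun e => he (by linear_combination e - (x b) * h2)
      refine ⟨fun k => ?_, ?_⟩
      · rcases eq_or_ne k a with rfl | hka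
        · intro e; exact hb (by linear_combination e - (x k) * h2)
        rcases eq_or_ne k b with rfl | hkb
        · intro e; exact ha (by linear_combination e - (x k) * h2)
        beta_reduce; rw [h0 k hka hkb, zero_add]; exact hsum
      · rw [← Finset.mul_prod_erase _ _ (Finset.mem_univ a), ← Finset.mul_prod_erase _ _
          (show b ∈ Finset.univ.erase a by simp [hab.symm]),
          Finset.prod_congr rfl (g := fun _ => x a + x b) fun k hk => by
            simp only [Finset.mem_erase] at hk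
            rw [h0 k hk.2.1 hk.1, zero_add],
          Finset.prod_const, Finset.card_erase_of_mem (by simp [hab.symm]), Finset.card_erase_of_mem (Finset.mem_univ a)]
        simp only [Finset.card_univ, Fintype.card_fin]
        have hq : x a ^ 2 + x a * x b + x b ^ 2 = 0 := by
          refine (mul_eq_zero.1 (?_ : (x a - x b) * _ = 0)).resolve_left (sub_ne_zero.2 he)
          linear_combination hc3 _ ha - hc3 _ hb
        have hs : (x a + x b) ^ 4 = x a + x b := by rw [pow_succ, hc3 _ hsum, one_mul]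
        show (x a + (x a + x b)) * ((x b + (x a + x b)) * (x a + x b) ^ 4) = 1
        rw [hs]
        linear_combination (x a + x b + x b) * (x a + x b) * (x a) * h2 +
          (x b) * (x a + x b) * (x b) * h2 + (x a) * hq + hc3 _ ha - x a ^ 3 * h2
  · obtain ⟨ω, hω0, hω1⟩ : ∃ ω : F, ω ≠ 0 ∧ ω ≠ 1 := by
      by_contra hc
      push Not at hc
      have : Fintype.card F ≤ ({0, 1} : Finset F).card := Finset.card_le_card (s := Finset.univ) fun c _ => by
        by_cases e : c = 0 <;> simp [e, hc c]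
      have h3 : ({0, 1} : Finset F).card ≤ 2 := Finset.card_le_two
      omega
    have hω : ω ^ 2 + ω + 1 = 0 :=
      (mul_eq_zero.1 (show (ω - 1) * (ω ^ 2 + ω + 1) = 0 by linear_combination hc3 ω hω0)).resolve_left
        (sub_ne_zero.2 hω1)
    let φ : ZMod 2 →+* F := ZMod.castHom (dvd_refl 2) F
    let ι : ZMod 2 × ZMod 2 → F := fun p => φ p.1 + φ p.2 * ω
    have hιadd : ∀ p p', ι (p + p') = ι p + ι p' := fun p p' => by
      simp only [ι, Prod.fst_add, Prod.snd_add, map_add]; ring
    have hιroot : ∀ k, ι (rootPair k) = ω ^ (k : ℕ) := fun k => by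
      fin_cases k <;> simp [ι, rootPair]
      linear_combination -hω + (ω + 1) * h2
    have hιne : ∀ p, p ≠ 0 → ι p = ω ^ (rootIndex p : ℕ) := fun p hp => by
      rw [← hιroot]
      congr 1
      revert hp p
      decide
    have hι0 : ι 0 = 0 := by simp [ι]
    have hιnz : ∀ p, p ≠ 0 → ι p ≠ 0 := fun p hp => by rw [hιne p hp]; exact pow_ne_zero _ hω0
    have hroot : ∀ c : F, c ≠ 0 → ∃ k : Fin 3, c = ω ^ (k : ℕ) := fun c hc => by
      have e : (c - 1) * ((c - ω) * (c - ω ^ 2)) = 0 := by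
        linear_combination hc3 c hc - hc3 ω hω0 - (c ^ 2 - c * ω) * hω
      rcases mul_eq_zero.1 e with e | e
      · exact ⟨0, by simpa using sub_eq_zero.1 e⟩
      rcases mul_eq_zero.1 e with e | e
      · exact ⟨1, by simpa using sub_eq_zero.1 e⟩
      · exact ⟨2, by simpa using sub_eq_zero.1 e⟩
    have hpow : ∀ s : Fin 6 → Fin 3, ∏ k, ω ^ (s k : ℕ) = ω ^ ((∑ k, s k : Fin 3) : ℕ) := fun s => by
      have hmul : ∀ u v : Fin 3, ω ^ ((u + v : Fin 3) : ℕ) = ω ^ (u : ℕ) * ω ^ (v : ℕ) := fun u v => by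
        rw [← pow_add, Fin.val_add]
        exact (pow_eq_pow_mod _ (hc3 ω hω0)).symm
      simp only [Fin.prod_univ_six, Fin.sum_univ_six, hmul]
    choose ex hex using fun k => hroot (x k) (h0 k)
    have hz : ∑ k, ex k = 0 := by
      have e : ω ^ ((∑ k, ex k : Fin 3) : ℕ) = 1 := by
        rw [← hpow, ← h1]; exact (Finset.prod_congr rfl fun k _ => hex k).symm
      generalize (∑ k, ex k) = s at e
      fin_cases s
      · rfl
      · exact absurd (by simpa using e) hω1
      · exact absurd (show ω = 1 by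
          have e' : ω ^ 2 = 1 := by simpa using e
          linear_combination hc3 ω hω0 - ω * e') hω1
    rw [Fin.sum_univ_six] at hz
    set S := rootPair (ex 0) + rootPair (ex 1) + rootPair (ex 2) + rootPair (ex 3) + rootPair (ex 4) + rootPair (ex 5)
    have hy : ∀ k, x k + ∑ j, x j = ι (![rootPair (ex 0) + S, rootPair (ex 1) + S, rootPair (ex 2) + S,
        rootPair (ex 3) + S, rootPair (ex 4) + S, rootPair (ex 5) + S] k) := fun k => by
      have hS : ι S = ∑ j, x j := by simp only [S, Fin.sum_univ_six, hιadd, hιroot, ← hex]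
      fin_cases k <;> simp [hιadd, hιroot, ← hex, hS]
    rcases root_shift _ _ _ _ _ _ hz with ⟨i, j, hij, hi, hj, hk⟩ | ⟨hne, hsum⟩
    · exact Or.inl ⟨i, j, hij, by beta_reduce; rw [hy]; exact hιnz _ hi, by beta_reduce; rw [hy]; exact hιnz _ hj,
        fun k hki hkj => by beta_reduce; rw [hy, hk k hki hkj, hι0]⟩
    · refine Or.inr ⟨fun k => by beta_reduce; rw [hy]; exact hιnz _ (hne k), ?_⟩
      simp only [hy]
      rw [Finset.prod_congr rfl fun k _ => hιne _ (hne k), hpow, hsum]
      simp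

local notation "h6" => hermForm 6 F q

/-- In `SU₆(2)` a maximal subgroup does not stabilise a frame. -/
theorem frame_six_two (hU : UForm 6 q τ) (hq : q = 2) {H : Subgroup (GL (Fin 6) F)}
    (hH : IsMaximalIn (GU 6 F q ⊓ specialLinear (Fin 6) F) H) {D : Fin 6 → Submodule F (Fin 6 → F)}
    (hD : IsNondegenerateMDecomposition h6 1 D) : ¬ H ≤ decompositionStabilizer D := by
  classical
  intro hle
  subst hq
  have hF : Fintype.card F = 4 := by rw [hU.card]; norm_num
  have hf := unitaryForm hU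
  have h2 : (2 : F) = 0 := by
    by_contra h
    exact absurd (hU.two_iff.1 h) (by decide)
  have hτ1 : τ 1 = 1 := map_one τ
  have hb : ∀ i, ∃ w ∈ D i, hermForm 6 F 2 w w = 1 ∧ ∀ x ∈ D i, ∃ c : F, x = c • w := by
    intro i
    obtain ⟨w, hw, hspan⟩ := finrank_eq_one_iff'.1 (hD.decomp.finrank_eq i)
    obtain ⟨⟨x, hx, hne⟩, -⟩ := hD.nondegenerate i _ w.2 fun e => hw (Subtype.ext e)
    obtain ⟨c, hc⟩ := hspan ⟨x, hx⟩
    have hww : hermForm 6 F 2 (w : Fin 6 → F) w ≠ 0 := fun e => hne (by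
      rw [show x = c • (w : Fin 6 → F) from congrArg Subtype.val hc.symm, hf.smul_left, e, mul_zero])
    refine ⟨w, w.2, fixed_eq_one hU (hf.herm _ _).symm hww, fun y hy => ?_⟩
    obtain ⟨d, hd⟩ := hspan ⟨y, hy⟩
    exact ⟨d, (congrArg Subtype.val hd).symm⟩
  choose z hzD hz1 hzspan using hb
  have hz : ∀ p r, hermForm 6 F 2 (z p) (z r) = (1 : Matrix (Fin 6) (Fin 6) F) p r := by
    intro p r
    rcases eq_or_ne p r with rfl | hpr
    · rw [Matrix.one_apply_eq]; exact hz1 _
    · rw [Matrix.one_apply_ne hpr]; exact hD.orthogonal _ _ hpr _ (hzD _) _ (hzD _)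
  obtain ⟨P, hcol, -⟩ := exists_coords hU.geom (Equiv.refl (Fin 6)) z isUnit_one hz
  let co : (Fin 6 → F) → Fin 6 → F := fun v i => hermForm 6 F 2 v (z i)
  have hmono : ∀ g ∈ H, ∃ (σ : Equiv.Perm (Fin 6)) (t : Fin 6 → F), (∀ i, t i ≠ 0) ∧ ∏ i, t i = 1 ∧
      ∀ v i, co ((g : Matrix (Fin 6) (Fin 6) F) *ᵥ v) (σ i) = t i * co v i := by
    intro g hg
    obtain ⟨σ, hσ⟩ := hle hg
    have him : ∀ i, ∃ c : F, (g : Matrix (Fin 6) (Fin 6) F) *ᵥ z i = c • z (σ i) := fun i =>
      hzspan (σ i) _ (hσ i ▸ ⟨z i, hzD i, Matrix.toLin'_apply _ _⟩)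
    choose t ht using him
    have hgU := (hH.1.le hg).1
    have hiso : ∀ u v, hermForm 6 F 2 ((g : Matrix (Fin 6) (Fin 6) F) *ᵥ u) ((g : Matrix (Fin 6) (Fin 6) F) *ᵥ v) =
        hermForm 6 F 2 u v := hgU
    have hnorm : ∀ i, t i * τ (t i) = 1 := fun i => by
      have := hiso (z i) (z i)
      rwa [ht, hf.smul_left, CfsgLib.Maximal.un_smul_right hf, hz1, hz1, mul_one] at this
    have ht0 : ∀ i, t i ≠ 0 := fun i e => by simpa [e] using hnorm i
    have hN : coordR (Equiv.refl (Fin 6)) P (g : Matrix (Fin 6) (Fin 6) F) = (Matrix.diagonal t).submatrix σ.symm id := by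
      refine coordR_of_cols _ P hcol fun p => ?_
      rw [ht, Finset.sum_eq_single (σ p)]
      · simp
      · intro r _ hr
        rw [Matrix.submatrix_apply, id_eq, Matrix.diagonal_apply_ne, zero_smul]
        exact fun e => hr (by rw [← e, Equiv.apply_symm_apply])
      · simp
    have hdet : ((Equiv.Perm.sign σ.symm : ℤ) : F) * ∏ i, t i = 1 := by
      rw [← Matrix.det_diagonal, ← Matrix.det_permute, ← hN, det_frame]
      have hd : Matrix.GeneralLinearGroup.det g = 1 := (hH.1.le hg).2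
      exact (Matrix.GeneralLinearGroup.val_det_apply g).symm.trans (by rw [hd, Units.val_one])
    have hsign : ((Equiv.Perm.sign σ.symm : ℤ) : F) = 1 := by
      rcases Int.units_eq_one_or (Equiv.Perm.sign σ.symm) with e | e <;> rw [e] <;> simp
      linear_combination -h2
    rw [hsign, one_mul] at hdet
    refine ⟨σ, t, ht0, hdet, fun v i => ?_⟩
    have h3 := hiso v (z i)
    rw [ht, CfsgLib.Maximal.un_smul_right hf] at h3
    show hermForm 6 F 2 _ (z (σ i)) = t i * hermForm 6 F 2 v (z i)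
    rw [← h3, ← mul_assoc, hnorm, one_mul]
  let X : Subgroup (GL (Fin 6) F) :=
    { carrier := {g | ∀ v, InConfig (co ((g : Matrix (Fin 6) (Fin 6) F) *ᵥ v)) ↔ InConfig (co v)}
      one_mem' := fun v => by simp
      mul_mem' := fun {a c} ha hc v => by
        rw [Units.val_mul, ← Matrix.mulVec_mulVec]; exact (ha _).trans (hc v)
      inv_mem' := fun {a} ha v => by
        rw [← ha ((↑a⁻¹ : Matrix (Fin 6) (Fin 6) F) *ᵥ v), Matrix.mulVec_mulVec, Units.mul_inv, Matrix.one_mulVec] }
  have hHX : H ≤ X := fun g hg v => by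
    refine ⟨fun h => ?_, fun h => ?_⟩
    · obtain ⟨σ, t, ht0, htp, ht⟩ := hmono _ (H.inv_mem hg)
      have := config_monomial (σ := σ) (y := co v) ht0 htp (fun i => ?_) h
      · exact this
      · have h3 := ht ((g : Matrix (Fin 6) (Fin 6) F) *ᵥ v) i
        rwa [Matrix.mulVec_mulVec, Units.inv_mul, Matrix.one_mulVec] at h3
    · obtain ⟨σ, t, ht0, htp, ht⟩ := hmono _ hg
      exact config_monomial ht0 htp (fun i => ht v i) h
  have hco : ∀ (u : Fin 6 → F) (c : Fin 6 → F), u = ∑ i, c i • z i → co u = c := fun u c e => by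
    funext j
    show hermForm 6 F 2 u (z j) = c j
    rw [e, CfsgLib.Maximal.un_sum_left hf, Finset.sum_eq_single j]
    · rw [hf.smul_left, hz1, mul_one]
    · intro i _ hij; rw [hf.smul_left, hz, Matrix.one_apply_ne hij, mul_zero]
    · simp
  have hadd : ∀ u v i, co (u + v) i = co u i + co v i := fun u v i => hf.add_left _ _ _
  have hsmul : ∀ (c : F) v i, co (c • v) i = c * co v i := fun c v i => hf.smul_left _ _ _
  -- the extra element
  set v₀ := ∑ i, (1 : F) • z i with hv₀
  have hcv₀ : co v₀ = fun _ => 1 := hco _ _ rfl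
  have hsum : ∀ u, hermForm 6 F 2 u v₀ = ∑ i, co u i := fun u => by
    rw [hf.herm, hv₀, CfsgLib.Maximal.un_sum_left hf, map_sum]
    refine Finset.sum_congr rfl fun i _ => ?_
    rw [hf.smul_left, one_mul, ← hf.herm]
  have hv0 : hermForm 6 F 2 v₀ v₀ = 0 := by
    rw [hsum, hcv₀]
    simp
    linear_combination 3 * h2
  have hk1 : τ (1 : F) = -1 := by rw [map_one]; linear_combination h2
  set s := tv ((1 : F) • v₀) (fvec (hermForm 6 F 2) v₀) (un_tv_dot (unitaryForm hU) hv0 1)
  have hs : ∀ v i, co ((s : Matrix (Fin 6) (Fin 6) F) *ᵥ v) i = co v i + ∑ j, co v j := fun v i => by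
    rw [utv_apply hU hv0, hadd, hsmul, one_mul, hsum, hcv₀, mul_one]
  have hsX : s ∈ X := fun v => by
    have hinv : (s : Matrix (Fin 6) (Fin 6) F) *ᵥ ((s : Matrix (Fin 6) (Fin 6) F) *ᵥ v) = v := by
      rw [utv_apply hU hv0, utv_apply hU hv0, hf.add_left, hf.smul_left, hv0, mul_zero, add_zero, add_assoc,
        ← add_smul, show (1 : F) * hermForm 6 F 2 v v₀ + 1 * hermForm 6 F 2 v v₀ = 0 by
          linear_combination hermForm 6 F 2 v v₀ * h2, zero_smul, add_zero]
    refine ⟨fun h => ?_, fun h => ?_⟩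
    · have h3 := config_shift hF _ h
      rw [← funext (hs _), hinv] at h3
      exact h3
    · rw [funext (hs v)]
      exact config_shift hF _ h
  -- a transvection moving the configuration
  obtain ⟨ω, hω0, hω1⟩ : ∃ ω : F, ω ≠ 0 ∧ ω ≠ 1 := by
    by_contra hc
    push Not at hc
    have : Fintype.card F ≤ ({0, 1} : Finset F).card := Finset.card_le_card (s := Finset.univ) fun c _ => by
      by_cases e : c = 0 <;> simp [e, hc c]
    have h3 : ({0, 1} : Finset F).card ≤ 2 := Finset.card_le_two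
    omega
  set a := ∑ i, (![1, 1, 1, 1, 0, 0] : Fin 6 → F) i • z i with ha
  have hca : co a = ![1, 1, 1, 1, 0, 0] := hco _ _ rfl
  have hha : ∀ u, hermForm 6 F 2 u a = co u 0 + co u 1 + co u 2 + co u 3 := fun u => by
    rw [hf.herm, ha, CfsgLib.Maximal.un_sum_left hf, map_sum, Fin.sum_univ_six]
    simp [hf.smul_left, co, ← hf.herm, show hermForm 6 F 2 u 0 = 0 by simp [hermForm]]
  have haa : hermForm 6 F 2 a a = 0 := by
    rw [hha, hca]
    simp
    linear_combination 2 * h2
  have hnX : ¬ GU 6 F 2 ⊓ specialLinear (Fin 6) F ≤ X := fun hall => by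
    have h3 := hall (utv_mem hU haa hk1) (∑ i, (![1, ω, 0, 0, 0, 0] : Fin 6 → F) i • z i)
    set v := ∑ i, (![1, ω, 0, 0, 0, 0] : Fin 6 → F) i • z i with hv
    have hcv : co v = ![1, ω, 0, 0, 0, 0] := hco _ _ rfl
    have hin : InConfig (co v) := by
      refine Or.inl ⟨0, 1, by decide, by simp [hcv], by simp [hcv, hω0], fun k hk0 hk1' => ?_⟩
      rw [hcv]
      fin_cases k <;> simp at hk0 hk1' ⊢
    set y := co ((tv ((1 : F) • a) (fvec (hermForm 6 F 2) a) (un_tv_dot (unitaryForm hU) haa 1) :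
      Matrix (Fin 6) (Fin 6) F) *ᵥ v) with hy
    have hy' : ∀ i, y i = co v i + (1 + ω) * co a i := fun i => by
      rw [hy, utv_apply hU haa, hadd, hsmul, hha, hcv]
      simp
    have y0 : y 0 = ω := by rw [hy', hcv, hca]; simp; linear_combination h2
    have y2 : y 2 = 1 + ω := by rw [hy', hcv, hca]; simp
    have y3 : y 3 = 1 + ω := by rw [hy', hcv, hca]; simp
    have y4 : y 4 = 0 := by rw [hy', hcv, hca]; simp
    have hne : (1 : F) + ω ≠ 0 := fun e => hω1 (by linear_combination e - h2)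
    rcases h3.2 hin with ⟨p, r, -, -, -, h0⟩ | ⟨h0, -⟩
    · have e0 : p = 0 ∨ r = 0 := by
        by_contra hc; push Not at hc; exact hω0 (y0.symm.trans (h0 0 (Ne.symm hc.1) (Ne.symm hc.2)))
      have e2 : p = 2 ∨ r = 2 := by
        by_contra hc; push Not at hc; exact hne (y2.symm.trans (h0 2 (Ne.symm hc.1) (Ne.symm hc.2)))
      have e3 : p = 3 ∨ r = 3 := by
        by_contra hc; push Not at hc; exact hne (y3.symm.trans (h0 3 (Ne.symm hc.1) (Ne.symm hc.2)))
      omega
    · exact h0 4 y4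
  have hHeq := su_eq_inf hH hHX hnX
  have hsH : s ∈ H := hHeq ▸ ⟨hsX, utv_mem hU hv0 hk1⟩
  obtain ⟨σ, t, -, -, ht⟩ := hmono s hsH
  have hcz : co (z 0) = Pi.single 0 1 := funext fun i => by
    show hermForm 6 F 2 (z 0) (z i) = _
    rw [hz, Matrix.one_apply, Pi.single_apply]
    simp [eq_comm]
  have h1' : ∀ i, i ≠ 0 → co ((s : Matrix (Fin 6) (Fin 6) F) *ᵥ z 0) i = 1 := fun i hi => by
    rw [hs, hcz]; simp [hi]
  have h0' : ∀ i, i ≠ σ 0 → co ((s : Matrix (Fin 6) (Fin 6) F) *ᵥ z 0) i = 0 := fun i hi => by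
    obtain ⟨k, rfl⟩ := σ.surjective i
    rw [ht, hcz, Pi.single_eq_of_ne (fun e => hi (by rw [e])), mul_zero]
  rcases eq_or_ne (1 : Fin 6) (σ 0) with e | e
  · exact one_ne_zero ((h1' 2 (by decide)).symm.trans (h0' 2 (by rw [← e]; decide)))
  · exact one_ne_zero ((h1' 1 (by decide)).symm.trans (h0' 1 e))

end CfsgLib.AschbacherForm.Cases
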