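import Cfsg.Agent.Lib.AschbacherForm.Cases.UnitThreeFrame
import Mathlib.RingTheory.Norm.Transitivity
import Mathlib.FieldTheory.Finite.GaloisField
import Mathlib.FieldTheory.Finite.Trace
import Mathlib.RingTheory.RootsOfUnity.PrimitiveRoots
import Mathlib.GroupTheory.Perm.Cycle.Type

/-!
`SU₃(q)`, `q = 3, 5`: the normaliser of an adjoint-closed cubic subfield is not maximal.
-/

set_option autoImplicit false
set_option linter.unusedSectionVars false

namespace CfsgLib.AschbacherForm.Cases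

open Cfsg Cfsg.Geo CfsgLib.Aschbacher
open scoped Matrix MatrixGroups

universe u

/-- The squares modulo seven. -/
def sevenSq : Fin 3 → Fin 7 := ![1, 2, 4]

/-- The traces of the powers of a seventh root of unity, from the trace `w` of the root itself. -/
def sevenTr {p : ℕ} (w : Qp p) : Fin 7 → Qp p := ![(3, 0), w, w, qBar w, w, qBar w, qBar w]

/-- The images of the representatives under `i ↦ a i + b`. -/
def sevenImg {p n : ℕ} (co : Fin 7 → Fin 3 → Qp p) (rep : Fin n → Fin 3 → Qp p) (m : Fin 3) (b : Fin 7)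
    (j : Fin n) : Fin 3 → Qp p :=
  fun i => qMul (rep j 0) (co (sevenSq (0 + m) + b) i) + qMul (rep j 1) (co (sevenSq (1 + m) + b) i) +
    qMul (rep j 2) (co (sevenSq (2 + m) + b) i)

/-- Proportional vectors. -/
def qProp {p : ℕ} (x y : Fin 3 → Qp p) : Prop := ∀ i j, qMul (x i) (y j) = qMul (x j) (y i)

instance {p : ℕ} : DecidableRel (qProp (p := p)) := fun x y => by unfold qProp; infer_instance

/-- What is checked by computation. -/
structure SevenFacts {p n : ℕ} [NeZero p] (w : Qp p) (co : Fin 7 → Fin 3 → Qp p) (rep : Fin n → Fin 3 → Qp p)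
    (M : Fin 3 → Fin 3 → Qp p) (j₀ : Fin n) (a : Fin 3 → Qp p) : Prop where
  gram_det : qDet (fun i j => sevenTr w (sevenSq i - sevenSq j)) ≠ 0
  coords : ∀ (i : Fin 7) (k : Fin 3),
    qForm (fun i j => sevenTr w (sevenSq i - sevenSq j)) (co i) (fun l => if l = k then qOne else 0) =
      sevenTr w (i - sevenSq k)
  mform : ∀ i j, qForm (fun i j => sevenTr w (sevenSq i - sevenSq j)) (fun l => M l i) (fun l => M l j) =
    sevenTr w (sevenSq i - sevenSq j)
  mdet : qDet M = qOne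
  nonzero : ∀ m b j, sevenImg co rep m b j ≠ 0
  stable : ∀ m b j, ∃ m' b' j', qProp (qApply M (sevenImg co rep m b j)) (sevenImg co rep m' b' j') ∧
    qApply M (sevenImg co rep m b j) ≠ 0
  out : ∀ i, ¬ qProp (fun l => M l 0) (co i)
  iso : qForm (fun i j => sevenTr w (sevenSq i - sevenSq j)) a a = 0
  moved : ∀ m b j, ¬ qProp (fun i => sevenImg co rep 0 0 j₀ i +
      qMul (qMul (0, 1) (qForm (fun i j => sevenTr w (sevenSq i - sevenSq j)) (sevenImg co rep 0 0 j₀) a)) (a i))
    (sevenImg co rep m b j)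

def coThree : Fin 7 → Fin 3 → Qp 3 :=
  ![![(2, 1), (2, 1), (2, 1)], ![qOne, 0, 0], ![0, qOne, 0], ![(1, 2), (0, 2), (2, 1)], ![0, 0, qOne],
    ![(0, 2), (2, 1), (1, 2)], ![(2, 1), (1, 2), (0, 2)]]

def repThree : Fin 1 → Fin 3 → Qp 3 := ![![0, qOne, (0, 1)]]

def extraThree : Fin 3 → Fin 3 → Qp 3 :=
  ![![(2, 1), (0, 1), (1, 2)], ![(0, 2), (0, 2), (1, 1)], ![(0, 1), (1, 2), (2, 0)]]

def coFive : Fin 7 → Fin 3 → Qp 5 :=
  ![![(1, 2), (1, 2), (1, 2)], ![qOne, 0, 0], ![0, qOne, 0], ![(4, 3), (3, 3), (1, 2)], ![0, 0, qOne],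
    ![(3, 3), (1, 2), (4, 3)], ![(1, 2), (4, 3), (3, 3)]]

def repFive : Fin 5 → Fin 3 → Qp 5 :=
  ![![0, qOne, (2, 2)], ![0, qOne, (0, 3)], ![0, qOne, (0, 4)], ![qOne, (2, 0), (0, 1)], ![qOne, (0, 1), (1, 2)]]

def extraFive : Fin 3 → Fin 3 → Qp 5 :=
  ![![(3, 4), (2, 1), (1, 1)], ![(3, 3), (0, 1), (2, 0)], ![(1, 4), (4, 2), (2, 0)]]

theorem sevenFacts_three : SevenFacts (1, 1) coThree repThree extraThree 0 ![0, 0, qOne] := by
  constructor <;> decide +kernel

theorem sevenFacts_five : SevenFacts (2, 1) coFive repFive extraFive 0 ![0, qOne, qOne] := by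
  constructor <;> decide +kernel

theorem seven_arith : (∀ j : Fin 7, j * j = 1 → j = 1 ∨ j = -1) ∧
    (∀ a : Fin 7, a = 0 ∨ (∃ m : Fin 3, ∀ k, a * sevenSq k = sevenSq (k + m)) ∨
      ∀ {p : ℕ} (w : Qp p), sevenTr w a = qBar w) := by
  refine ⟨by decide, fun a => ?_⟩
  fin_cases a
  · exact Or.inl rfl
  · exact Or.inr (Or.inl (by decide))
  · exact Or.inr (Or.inl (by decide))
  · exact Or.inr (Or.inr fun w => rfl)
  · exact Or.inr (Or.inl (by decide))
  · exact Or.inr (Or.inr fun w => rfl)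
  · exact Or.inr (Or.inr fun w => rfl)

theorem no_root_three : ∀ c : ZMod 3, c ^ 2 + c + 2 ≠ 0 := by decide

theorem no_root_five : ∀ c : ZMod 5, c ^ 2 + c + 2 ≠ 0 := by decide

variable {F : Type u} [Field F] [Fintype F] {q : ℕ} {τ : F ≃+* F}

local notation "h3" => hermForm 3 F q

/-- Seven vectors for the normaliser of a cubic subfield, for `q = 3, 5`. -/
theorem seven_vectors (hU : UForm 3 q τ) (hq : q = 3 ∨ q = 5) {K : Subalgebra F (Matrix (Fin 3) (Fin 3) F)}
    (hK : IsFieldSubalgebra 3 K) (hadj : IsAdjointClosedFor h3 K) :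
    ∃ (v : Fin 7 → Fin 3 → F) (ω : F), ω ^ 2 + ω + 2 = 0 ∧ τ ω = -1 - ω ∧ τ ω ≠ ω ∧
      (∀ i j, h3 (v i) (v j) = ![3, ω, ω, τ ω, ω, τ ω, τ ω] (i - j)) ∧
      ∀ g ∈ subalgebraNormalizer K ⊓ (GU 3 F q ⊓ specialLinear (Fin 3) F),
        ∃ (l : F) (m : Fin 3) (a b : Fin 7), l ≠ 0 ∧ (∀ k, a * sevenSq k = sevenSq (k + m)) ∧
          ∀ i, (g : Matrix (Fin 3) (Fin 3) F) *ᵥ v i = l • v (a * i + b) := by
  classical
  have hf := unitaryForm hU
  have hKF : IsField K :=
    { exists_pair_ne := ⟨1, 0, fun h => one_ne_zero (congrArg Subtype.val h : (1 : Matrix (Fin 3) (Fin 3) F) = 0)⟩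
      mul_comm := fun a b => Subtype.ext (hK.comm _ a.2 _ b.2)
      mul_inv_cancel := fun {a} ha => by
        obtain ⟨y, hy, h⟩ := hK.inv a a.2 fun e => ha (Subtype.ext e)
        exact ⟨⟨y, hy⟩, Subtype.ext h⟩ }
  letI : Field K := hKF.toField
  letI : Module K (Fin 3 → F) :=
    { smul := fun k v => (k : Matrix (Fin 3) (Fin 3) F) *ᵥ v
      one_smul := fun v => Matrix.one_mulVec v
      mul_smul := fun a b v => (Matrix.mulVec_mulVec v _ _).symm
      smul_zero := fun a => Matrix.mulVec_zero _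
      smul_add := fun a v w => Matrix.mulVec_add _ v w
      add_smul := fun a b v => Matrix.add_mulVec _ _ v
      zero_smul := fun v => Matrix.zero_mulVec v }
  have hsm : ∀ (k : K) (v : Fin 3 → F), k • v = (k : Matrix (Fin 3) (Fin 3) F) *ᵥ v := fun _ _ => rfl
  haveI : IsScalarTower F K (Fin 3 → F) := ⟨fun c k v => Matrix.smul_mulVec c _ v⟩
  haveI : Finite (Matrix (Fin 3) (Fin 3) F) := inferInstanceAs (Finite (Fin 3 → Fin 3 → F))
  haveI : Finite K := Subtype.finite
  haveI : Module.Finite F K := Module.Finite.of_finite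
  have hcF : Nat.card F = q ^ 2 := by rw [Nat.card_eq_fintype_card, hU.card]
  have hcK : Nat.card K = q ^ 6 := by
    rw [Module.natCard_eq_pow_finrank (K := F) (V := K), hK.finrank_eq, hcF]; ring
  have hrk : Module.finrank K (Fin 3 → F) = 1 := by
    have h := Module.finrank_mul_finrank F K (Fin 3 → F)
    rw [hK.finrank_eq, Module.finrank_fin_fun] at h
    omega
  have htr : ∀ x : K, algebraMap F K (Algebra.trace F K x) = x + x ^ (q ^ 2) + x ^ (q ^ 4) := fun x => by
    rw [FiniteField.algebraMap_trace_eq_sum_pow, hcF, hK.finrank_eq]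
    simp [Finset.sum_range_succ, ← pow_mul]
  obtain ⟨φ, hφ⟩ : ∃ φ : K ≃+* K, ∀ (k : K) v w, h3 (k • v) w = h3 v (φ k • w) := by
    have hA := (hU.geom.adjClosed_iff K).1 hadj
    refine ⟨{ toFun := fun k => ⟨adj τ 1 (k : Matrix (Fin 3) (Fin 3) F), hA _ k.2⟩
              invFun := fun k => ⟨adj τ 1 (k : Matrix (Fin 3) (Fin 3) F), hA _ k.2⟩
              left_inv := fun k => Subtype.ext (adj_adj hU.geom _)
              right_inv := fun k => Subtype.ext (adj_adj hU.geom _)
              map_mul' := fun a c => Subtype.ext ?_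
              map_add' := fun a c => Subtype.ext (adj_add τ 1 _ _) }, fun k v w => hU.geom.mulVec_left _ v w⟩
    show adj τ 1 ((a : Matrix (Fin 3) (Fin 3) F) * (c : Matrix (Fin 3) (Fin 3) F)) =
      adj τ 1 (a : Matrix (Fin 3) (Fin 3) F) * adj τ 1 (c : Matrix (Fin 3) (Fin 3) F)
    rw [adj_mul]
    exact hK.comm _ (hA _ c.2) _ (hA _ a.2)
  have hφ' : ∀ (k : K) v w, h3 v (k • w) = h3 (φ k • v) w := fun k v w => by
    rw [hf.herm, hφ, ← hf.herm]
  obtain ⟨e₀, he₀, hspan₀⟩ := finrank_eq_one_iff'.1 hrk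
  have hnd : ∀ x y : Fin 3 → F, (∀ v, h3 v x = h3 v y) → x = y := fun x y h => by
    funext i
    have := h (Pi.single i 1)
    simp only [hermForm, Pi.single_apply, ite_mul, one_mul, zero_mul, Finset.sum_ite_eq', Finset.mem_univ, if_true,
      ← hU.pow] at this
    exact τ.injective this
  have hφφ : ∀ k, φ (φ k) = k := fun k => smul_left_injective K he₀ (hnd _ _ fun u => by
    rw [← hφ, ← hφ'])
  have hφalg : ∀ c : F, φ (algebraMap F K c) = algebraMap F K (τ c) := fun c =>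
    smul_left_injective K he₀ (hnd _ _ fun v => by
      beta_reduce
      rw [← hφ, algebraMap_smul, algebraMap_smul, hf.smul_left, CfsgLib.Maximal.un_smul_right hf, hU.invol])
  have hφne : φ ≠ RingEquiv.refl K := fun e => hU.ne (RingEquiv.ext fun c =>
    (algebraMap F K).injective (by rw [← hφalg, e]; rfl))
  have hτtr : ∀ x, τ (Algebra.trace F K x) = Algebra.trace F K (φ x) := fun x =>
    (algebraMap F K).injective (by rw [← hφalg, htr, htr]; simp only [map_add, map_pow])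
  let f : Module.Dual F K :=
    { toFun := fun k => h3 (k • e₀) e₀
      map_add' := fun a c => by rw [add_smul, hf.add_left]
      map_smul' := fun a c => by rw [smul_assoc, hf.smul_left]; rfl }
  obtain ⟨a, ha⟩ : ∃ a : K, ∀ k, h3 (k • e₀) e₀ = Algebra.trace F K (a * k) :=
    ⟨((Algebra.traceForm F K).toDual (traceForm_nondegenerate F K)).symm f, fun k => by
      rw [← Algebra.traceForm_apply, LinearMap.BilinForm.apply_toDual_symm_apply]; rfl⟩
  have haφ : φ a = a := by
    refine sub_eq_zero.1 ((traceForm_nondegenerate F K).1 _ fun k => ?_)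
    rw [Algebra.traceForm_apply, sub_mul, map_sub, ← hφφ k, ← ha, ← map_mul, ← hτtr, ← ha, ← hf.herm, hφ', sub_self]
  have ha0 : a ≠ 0 := fun e => by
    obtain ⟨y, hy⟩ := CfsgLib.Maximal.un_exists hf e₀ he₀
    obtain ⟨k, rfl⟩ := hspan₀ y
    rw [hf.herm, ha, e, zero_mul, map_zero, map_zero] at hy
    exact zero_ne_one hy
  obtain ⟨s₀, hs₀⟩ := exists_norm hφne hφφ (e := a⁻¹) (by rw [map_inv₀, haφ])
  have hs00 : s₀ ≠ 0 := fun e => by rw [e, zero_mul] at hs₀; exact inv_ne_zero ha0 hs₀.symm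
  set e := s₀ • e₀
  have he : e ≠ 0 := smul_ne_zero hs00 he₀
  have hspan : ∀ v, ∃ k : K, v = k • e := fun v => by
    obtain ⟨k, hk⟩ := hspan₀ v
    exact ⟨k / s₀, by rw [smul_smul, div_mul_cancel₀ _ hs00, hk]⟩
  have hhK : ∀ k l : K, h3 (k • e) (l • e) = Algebra.trace F K (k * φ l) := fun k l => by
    rw [hφ', hφ', smul_smul, smul_smul, smul_smul, ha]
    congr 1
    have := mul_inv_cancel₀ ha0
    linear_combination (k * φ l * a) * hs₀ + (k * φ l) * this
  haveI : Fintype K := Fintype.ofFinite K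
  obtain ⟨β, hβ⟩ : ∃ β : K, IsPrimitiveRoot β 7 := by
    haveI : Fact (Nat.Prime 7) := ⟨by norm_num⟩
    obtain ⟨x, hx⟩ := exists_prime_orderOf_dvd_card' (G := Kˣ) 7 (by
      rw [Nat.card_units, hcK]; rcases hq with rfl | rfl <;> norm_num)
    exact ⟨(x : K), by rw [IsPrimitiveRoot.iff_orderOf, orderOf_units, hx]⟩
  let bp : Fin 7 → K := fun i => β ^ (i : ℕ)
  have hbadd : ∀ i j, bp (i + j) = bp i * bp j := fun i j => by
    simp only [bp, ← pow_add, Fin.val_add]
    exact (pow_eq_pow_mod _ hβ.pow_eq_one).symm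
  have hbpow : ∀ (i : Fin 7) (n : ℕ) (j : Fin 7), (i : ℕ) * n % 7 = j → bp i ^ n = bp j := fun i n j h => by
    simp only [bp, ← pow_mul]
    rw [← h]
    exact pow_eq_pow_mod _ hβ.pow_eq_one
  have hbmul : ∀ i j : Fin 7, bp j ^ (i : ℕ) = bp (j * i) := fun i j => hbpow j i _ (Fin.val_mul j i).symm
  have hb0 : bp 0 = 1 := by simp [bp]
  have hbinj : Function.Injective bp := fun i j h => Fin.ext (hβ.pow_inj i.2 j.2 h)
  have hroot : ∀ x : K, x ^ 7 = 1 → ∃ i, bp i = x := fun x hx => by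
    obtain ⟨i, hi, hix⟩ := hβ.eq_pow_of_pow_eq_one hx
    exact ⟨⟨i, hi⟩, hix⟩
  have hTr : ∀ i : Fin 7, algebraMap F K (Algebra.trace F K (bp i)) = bp i + bp (2 * i) + bp (4 * i) := fun i => by
    rw [htr]
    rcases hq with rfl | rfl
    · rw [hbpow i _ (2 * i) (by revert i; decide), hbpow i _ (4 * i) (by revert i; decide)]
    · rw [hbpow i _ (4 * i) (by revert i; decide), hbpow i _ (2 * i) (by revert i; decide)]
      ring
  have hsum : bp 0 + bp 1 + bp 2 + bp 3 + bp 4 + bp 5 + bp 6 = 0 := by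
    have h := hβ.geom_sum_eq_zero (by norm_num)
    simpa [Finset.sum_range_succ, bp] using h
  set ω := Algebra.trace F K (bp 1)
  set ω' := Algebra.trace F K (bp 3)
  have hω : algebraMap F K ω = bp 1 + bp 2 + bp 4 := (hTr 1).trans rfl
  have hω' : algebraMap F K ω' = bp 3 + bp 6 + bp 5 := (hTr 3).trans rfl
  have hωω' : ω + ω' = -1 := (algebraMap F K).injective (by
    rw [map_add, hω, hω', map_neg, map_one, ← hb0]; linear_combination hsum)
  have hprod : ω * ω' = 2 := (algebraMap F K).injective (by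
    rw [map_mul, hω, hω', map_ofNat]
    simp only [mul_add, add_mul, ← hbadd]
    show bp 4 + bp 5 + bp 0 + (bp 0 + bp 1 + bp 3) + (bp 6 + bp 0 + bp 2) = 2
    rw [hb0] at hsum ⊢
    linear_combination hsum)
  have hωeq : ω ^ 2 + ω + 2 = 0 := by linear_combination ω * hωω' - hprod
  have hroots : ∀ x : F, τ x = x → x ^ 2 + x + 2 ≠ 0 := fun x hx => by
    haveI : CharP F q := charP_of_prime hU (by rcases hq with rfl | rfl <;> norm_num)
    haveI : Fact q.Prime := ⟨by rcases hq with rfl | rfl <;> norm_num⟩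
    let φq : ZMod q →+* F := ZMod.castHom (dvd_refl q) F
    let g : ZMod q → fixField τ := fun a => ⟨φq a, mem_fixField.2
      (RingHom.congr_fun (RingHom.ext_zmod ((τ : F →+* F).comp φq) φq) a)⟩
    have hg : Function.Bijective g := (Nat.bijective_iff_injective_and_card g).2
      ⟨fun a b e => φq.injective (congrArg Subtype.val e :), by rw [hU.card_fix, Nat.card_zmod]⟩
    obtain ⟨c, hc⟩ := hg.2 ⟨x, mem_fixField.2 hx⟩
    rw [← show φq c = x from congrArg Subtype.val hc]
    intro h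
    have h' : c ^ 2 + c + 2 = 0 := φq.injective (by simpa only [map_add, map_pow, map_ofNat, map_zero] using h)
    rcases hq with rfl | rfl
    · exact no_root_three c h'
    · exact no_root_five c h'
  have hτω : τ ω ≠ ω := fun h => hroots ω h hωeq
  have hφbp : ∀ i, φ (bp i) = bp (-i) := by
    obtain ⟨j, hj⟩ := hroot (φ β) (by rw [← map_pow, hβ.pow_eq_one, map_one])
    have hφi : ∀ i, φ (bp i) = bp (j * i) := fun i => by
      show φ (β ^ (i : ℕ)) = _
      rw [map_pow, ← hj, hbmul]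
    have hjj : j * j = 1 := hbinj (by rw [← hφi, hj, hφφ]; exact (pow_one β).symm)
    rcases seven_arith.1 j hjj with rfl | rfl
    · exfalso
      refine hτω ((algebraMap F K).injective ?_)
      rw [← hφalg, hω]
      simp only [map_add, hφi, one_mul]
    · exact fun i => by rw [hφi, neg_one_mul]
  have hτω' : τ ω = ω' := (algebraMap F K).injective (by
    rw [← hφalg, hω, hω', map_add, map_add, hφbp, hφbp, hφbp]
    show bp 6 + bp 5 + bp 3 = _
    ring)
  have hγ : ∀ d, Algebra.trace F K (bp d) = ![3, ω, ω, τ ω, ω, τ ω, τ ω] d := fun d => by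
    apply (algebraMap F K).injective
    rw [hTr, hτω']
    fin_cases d <;> simp only [Fin.zero_eta, Fin.mk_one, Fin.reduceFinMk, Matrix.cons_val, map_ofNat, hω, hω'] <;>
      simp only [Fin.reduceMul, hb0] <;> first | ring | (norm_num)
  let v : Fin 7 → Fin 3 → F := fun i => bp i • e
  have hvv : ∀ i j, h3 (v i) (v j) = ![3, ω, ω, τ ω, ω, τ ω, τ ω] (i - j) := fun i j => by
    rw [hhK, hφbp, ← hbadd, ← sub_eq_add_neg, hγ]
  refine ⟨v, ω, hωeq, by rw [hτω']; linear_combination hωω', hτω, hvv, ?_⟩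
  -- the three vectors form a basis
  let Gm : Matrix (Fin 3) (Fin 3) F := Matrix.of fun i j => ![3, ω, ω, τ ω, ω, τ ω, τ ω] (sevenSq i - sevenSq j)
  have hGm : IsUnit Gm := by
    rw [Matrix.isUnit_iff_isUnit_det, isUnit_iff_ne_zero,
      show Gm = !![3, ω', ω; ω, 3, ω'; ω', ω, 3] from by
        ext i j; fin_cases i <;> fin_cases j <;> simp [Gm, sevenSq, hτω'],
      Matrix.det_fin_three]
    intro h
    simp at h
    have h7 : (7 : F) ≠ 0 := by
      intro h7
      have h7' : ((7 : ℕ) : F) = 0 := by exact_mod_cast h7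
      haveI : CharP F q := charP_of_prime hU (by rcases hq with rfl | rfl <;> norm_num)
      rw [CharP.cast_eq_zero_iff F q] at h7'
      rcases hq with rfl | rfl <;> norm_num at h7'
    have h2 : (2 : F) ≠ 0 := hU.two_iff.2 (by rcases hq with rfl | rfl <;> decide)
    refine mul_ne_zero h2 h7 ?_
    linear_combination h - ((ω + ω') ^ 2 - (ω + ω') + 1 - 3 * (ω * ω')) * hωω' + 6 * hprod
  obtain ⟨P, hcol, -⟩ := exists_coords hU.geom (Equiv.refl (Fin 3)) (fun k => v (sevenSq k)) hGm (fun k l => hvv _ _)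
  simp only [Equiv.coe_refl, Function.comp_id] at hcol
  have hspanK : ∀ k : K, ∃ x : Fin 3 → F, k = ∑ i, algebraMap F K (x i) * bp (sevenSq i) := fun k => by
    refine ⟨(↑P⁻¹ : Matrix (Fin 3) (Fin 3) F) *ᵥ (k • e), smul_left_injective K he ?_⟩
    simp only [Finset.sum_smul, ← smul_smul, algebraMap_smul]
    conv_lhs => rw [← Matrix.one_mulVec (k • e), ← Units.mul_inv P, ← Matrix.mulVec_mulVec,
      ← (Pi.basisFun F (Fin 3)).sum_repr ((↑P⁻¹ : Matrix (Fin 3) (Fin 3) F) *ᵥ (k • e))]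
    simp only [Matrix.mulVec_sum, Matrix.mulVec_smul, Pi.basisFun_apply, hcol, Pi.basisFun_repr]
    rfl
  have hφq : ∀ k : K, φ k = k ^ (q ^ 3) := fun k => by
    haveI : Fact q.Prime := ⟨by rcases hq with rfl | rfl <;> norm_num⟩
    haveI : CharP F q := charP_of_prime hU Fact.out
    haveI : CharP K q := charP_of_injective_algebraMap (algebraMap F K).injective q
    haveI : ExpChar K q := ExpChar.prime Fact.out
    obtain ⟨x, rfl⟩ := hspanK k
    rw [map_sum, sum_pow_char_pow q 3]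
    refine Finset.sum_congr rfl fun i _ => ?_
    have hi : bp (sevenSq i) ^ (q ^ 3) = bp (-(sevenSq i)) :=
      hbpow _ _ _ (by rcases hq with rfl | rfl <;> revert i <;> decide)
    rw [map_mul, mul_pow, hφalg, hφbp, hi, ← map_pow, hU.pow]
    congr 2
    have h4 := FiniteField.pow_card (x i)
    rw [hU.card] at h4
    rw [pow_succ q 2, pow_mul, h4]
  intro g hg
  obtain ⟨hgN, hgΩ⟩ := hg
  set G := (g : Matrix (Fin 3) (Fin 3) F) with hGdef
  obtain ⟨α, hα⟩ : ∃ α : K ≃ₐ[F] K, ∀ (k : K) x, G *ᵥ (k • x) = α k • (G *ᵥ x) := by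
    have hgN' := (subalgebraNormalizer K).inv_mem hgN
    refine ⟨{ toFun := fun k => ⟨_, (hgN (k : Matrix (Fin 3) (Fin 3) F)).1 k.2⟩
              invFun := fun k => ⟨_, (hgN' (k : Matrix (Fin 3) (Fin 3) F)).1 k.2⟩
              left_inv := fun k => Subtype.ext (by simp [← mul_assoc])
              right_inv := fun k => Subtype.ext (by simp [← mul_assoc])
              map_mul' := fun a c => Subtype.ext (by simp [mul_assoc])
              map_add' := fun a c => Subtype.ext (by simp [mul_add, add_mul])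
              commutes' := fun c => Subtype.ext (by simp [Algebra.algebraMap_eq_smul_one]) }, fun k x => ?_⟩
    show G *ᵥ ((k : Matrix (Fin 3) (Fin 3) F) *ᵥ x) =
      (G * (k : Matrix (Fin 3) (Fin 3) F) * (↑g⁻¹ : Matrix (Fin 3) (Fin 3) F)) *ᵥ (G *ᵥ x)
    simp [Matrix.mulVec_mulVec, mul_assoc, hGdef]
  obtain ⟨c, hc⟩ := hspan (G *ᵥ e)
  have hc0 : c ≠ 0 := fun h => he (Matrix.mulVec_injective_of_isUnit g.isUnit
    (by rw [Matrix.mulVec_zero, ← hGdef, hc, h, zero_smul]))
  have hgU : ∀ x y, h3 (G *ᵥ x) (G *ᵥ y) = h3 x y := hgΩ.1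
  have hcn : c * c ^ (q ^ 3) = 1 := by
    rw [← hφq]
    refine sub_eq_zero.1 ((traceForm_nondegenerate F K).1 _ fun k => ?_)
    rw [Algebra.traceForm_apply, sub_mul, one_mul, map_sub, sub_eq_zero]
    have h3' := hgU (α.symm k • e) e
    rw [hα, AlgEquiv.apply_symm_apply, hc, smul_smul, hhK] at h3'
    conv_rhs => rw [← Algebra.trace_eq_of_algEquiv α.symm k]
    rw [show c * φ c * k = k * c * φ c by ring, h3']
    conv_lhs => rw [show e = (1 : K) • e from (one_smul K e).symm]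
    rw [smul_smul, hhK, map_one, mul_one, mul_one]
  obtain ⟨a, ha'⟩ := hroot (α β) (by rw [← map_pow, hβ.pow_eq_one, map_one])
  have hαbp : ∀ i, α (bp i) = bp (a * i) := fun i => by
    show α (β ^ (i : ℕ)) = _
    rw [map_pow, ← ha', hbmul]
  have hgv : ∀ i, G *ᵥ v i = (bp (a * i) * c) • e := fun i => by
    rw [hα, hαbp, hc, smul_smul]
  have ham : ∃ m : Fin 3, ∀ k, a * sevenSq k = sevenSq (k + m) := by
    rcases seven_arith.2 a with rfl | hm | hnr
    · exfalso
      rw [hb0] at ha'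
      exact hβ.ne_one (by norm_num) (α.injective (by rw [← ha', map_one]))
    · exact hm
    · exfalso
      have h1 := Algebra.trace_eq_of_algEquiv α β
      rw [← ha', hγ, show β = bp 1 from (pow_one β).symm] at h1
      have h2 : a = 3 ∨ a = 5 ∨ a = 6 := by
        have e := @hnr 0 (0, 1)
        revert e; clear hnr h1 hgv hαbp ha'; revert a; decide
      rcases h2 with rfl | rfl | rfl <;> exact hτω h1
  obtain ⟨m, hm⟩ := ham
  let Qm : Matrix (Fin 3) (Fin 3) F := (1 : Matrix (Fin 3) (Fin 3) F).submatrix (Equiv.addRight m).symm id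
  have hQ : Qm.det = 1 := by
    rw [Matrix.det_permute, Matrix.det_one, mul_one]
    have key : ∀ m : Fin 3, Equiv.Perm.sign (Equiv.addRight m).symm = 1 := by decide
    rw [key]; simp
  have hdec : G * (P : Matrix (Fin 3) (Fin 3) F) =
      (c : Matrix (Fin 3) (Fin 3) F) * (P : Matrix (Fin 3) (Fin 3) F) * Qm := by
    refine Matrix.toLin'.injective ((Pi.basisFun F (Fin 3)).ext fun k => ?_)
    rw [Pi.basisFun_apply, Matrix.toLin'_apply, Matrix.toLin'_apply, ← Matrix.mulVec_mulVec, hcol, hgv, hm,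
      ← Matrix.mulVec_mulVec, show Qm *ᵥ Pi.single k (1 : F) = Pi.single (k + m) 1 from ?_,
      ← Matrix.mulVec_mulVec, hcol, mul_comm]
    · rw [← smul_smul, hsm]
    · funext i
      simp [Qm, Pi.single_apply, Matrix.one_apply, ← sub_eq_add_neg, sub_eq_iff_eq_add]
  have hcdet : (c : Matrix (Fin 3) (Fin 3) F).det = 1 := by
    have h := congrArg Matrix.det hdec
    rw [Matrix.det_mul, Matrix.det_mul, Matrix.det_mul, hQ, mul_one, hGdef, val_det_one hgΩ.2] at h
    exact (mul_right_cancel₀ ((Matrix.isUnit_iff_isUnit_det _).1 P.isUnit).ne_zero h).symm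
  have hcN : c ^ (q ^ 4 + q ^ 2 + 1) = 1 := by
    let l : (Fin 3 → F) →ₗ[K] (Fin 3 → F) := c • LinearMap.id
    have e1 : l.restrictScalars F = Matrix.toLin' (c : Matrix (Fin 3) (Fin 3) F) :=
      LinearMap.ext fun x => by simp [l, hsm]
    have e2 := LinearMap.det_restrictScalars (R := F) (f := l)
    rw [e1, LinearMap.det_toLin', hcdet, LinearMap.det_smul, hrk, LinearMap.det_id, mul_one, pow_one] at e2
    have e3 := congrArg (algebraMap F K) e2
    rw [map_one, FiniteField.algebraMap_norm_eq_pow, hcK, hcF] at e3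
    rcases hq with rfl | rfl <;> simpa using e3.symm
  have hc21 : c ^ 21 = 1 := by
    rcases hq with rfl | rfl
    · have h7 : c ^ 7 = 1 := by
        have h28 : c ^ 28 = 1 := by rw [show (28 : ℕ) = 3 ^ 3 + 1 by norm_num, pow_succ']; exact hcn
        have h91 : c ^ 91 = 1 := by simpa using hcN
        calc c ^ 7 = (c ^ 28) ^ 3 * c ^ 7 := by rw [h28, one_pow, one_mul]
          _ = 1 := by rw [← pow_mul, ← pow_add, h91]
      rw [show (21 : ℕ) = 7 * 3 by norm_num, pow_mul, h7, one_pow]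
    · have h126 : c ^ 126 = 1 := by rw [show (126 : ℕ) = 5 ^ 3 + 1 by norm_num, pow_succ']; exact hcn
      have h651 : c ^ 651 = 1 := by simpa using hcN
      calc c ^ 21 = (c ^ 126) ^ 5 * c ^ 21 := by rw [h126, one_pow, one_mul]
        _ = 1 := by rw [← pow_mul, ← pow_add, h651]
  obtain ⟨b, hb⟩ := hroot (c ^ 15) (by rw [← pow_mul, show 15 * 7 = 21 * 5 by norm_num, pow_mul, hc21, one_pow])
  obtain ⟨l, hl⟩ : ∃ l : F, algebraMap F K l = c ^ 7 := by
    have hfix : (c ^ 7) ^ Nat.card F = c ^ 7 := by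
      rcases hq with rfl | rfl
      · have h7 : c ^ 7 = 1 := by
          have h28 : c ^ 28 = 1 := by rw [show (28 : ℕ) = 3 ^ 3 + 1 by norm_num, pow_succ']; exact hcn
          calc c ^ 7 = c ^ 28 * c ^ 7 * (c ^ 7) ^ 0 := by rw [h28, one_mul, pow_zero, mul_one]
            _ = 1 := by
              have h91 : c ^ 91 = 1 := by simpa using hcN
              have h35 : c ^ 84 = 1 := by rw [show (84 : ℕ) = 28 * 3 by norm_num, pow_mul, h28, one_pow]
              rw [h28, one_mul, pow_zero, mul_one]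
              calc c ^ 7 = c ^ 84 * c ^ 7 := by rw [h35, one_mul]
                _ = 1 := by rw [← pow_add, h91]
        rw [h7, one_pow]
      · rw [hcF, ← pow_mul, show 7 * 5 ^ 2 = 21 * 8 + 7 by norm_num, pow_add, pow_mul, hc21, one_pow, one_mul]
    have hi := Function.Injective.bijective_of_nat_card_le
      (f := fun x : F => (⟨algebraMap F K x, by
        rw [← map_pow, Nat.card_eq_fintype_card, FiniteField.pow_card]⟩ : {x : K // x ^ Nat.card F = x}))
      (fun a c e => (algebraMap F K).injective (congrArg Subtype.val e :)) (natCard_fixed K (M := Nat.card F)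
        Finite.one_lt_card (by rw [hcK, hcF]; rcases hq with rfl | rfl <;> norm_num)).le
    obtain ⟨l, hl⟩ := hi.2 ⟨c ^ 7, hfix⟩
    exact ⟨l, congrArg Subtype.val hl⟩
  refine ⟨l, m, a, b, fun h => pow_ne_zero 7 hc0 (by rw [← hl, h, map_zero]), hm, fun i => ?_⟩
  rw [hgv, ← algebraMap_smul K l, hl]
  show (bp (a * i) * c) • e = c ^ 7 • (bp (a * i + b) • e)
  conv_rhs => rw [smul_smul, hbadd, hb]
  congr 1
  have hc22 : c ^ 22 = c := by rw [show (22 : ℕ) = 21 + 1 by norm_num, pow_succ, hc21, one_mul]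
  calc bp (a * i) * c = bp (a * i) * c ^ 22 := by rw [hc22]
    _ = c ^ 7 * (bp (a * i) * c ^ 15) := by ring

/-- A configuration from the seven vectors. -/
theorem field_three_not_maximal (hU : UForm 3 q τ) (hq : q = 3 ∨ q = 5) {p n : ℕ} [Fact p.Prime]
    (hp : q = p) (hpc : p ≠ 2) {w : Qp p} {t : ZMod p} (hw : w = (t, 1))
    (ht : ∀ x : F, x ^ 2 + x + 2 = 0 → (x - (ZMod.cast t : F)) ^ 2 = 2 ∧ (-1 : F) - x - ZMod.cast t = -(x - ZMod.cast t))
    {co : Fin 7 → Fin 3 → Qp p} {rep : Fin n → Fin 3 → Qp p} {M : Fin 3 → Fin 3 → Qp p} {j₀ : Fin n}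
    {a : Fin 3 → Qp p} (hfacts : SevenFacts w co rep M j₀ a)
    {H : Subgroup (GL (Fin 3) F)} (hH : IsMaximalIn (GU 3 F q ⊓ specialLinear (Fin 3) F) H)
    {K : Subalgebra F (Matrix (Fin 3) (Fin 3) F)}
    (hK : IsFieldSubalgebra 3 K) (hadj : IsAdjointClosedFor h3 K) : ¬ H ≤ subalgebraNormalizer K := by
  classical
  intro hle
  have hf := unitaryForm hU
  haveI : CharP F p := hp ▸ charP_of_prime hU (hp ▸ Fact.out)
  obtain ⟨v, ω, hωeq, hτω, -, hvv, hg⟩ := seven_vectors hU hq hK hadj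
  obtain ⟨ht1, ht2⟩ := ht ω hωeq
  have hτt : τ (ZMod.cast t : F) = ZMod.cast t := by
    have h := RingHom.congr_fun (RingHom.ext_zmod ((τ : F →+* F).comp (ZMod.castHom (dvd_refl p) F))
      (ZMod.castHom (dvd_refl p) F)) t
    exact h
  obtain ⟨ι, hι, hι01⟩ := model_exists hU hp hpc ht1 (by rw [map_sub, hτω, hτt, ht2])
  have hιt : ∀ x : ZMod p, ι (x, 0) = (ZMod.cast x : F) := fun x => by
    let ψ : ZMod p →+* F :=
      { toFun := fun x => ι (x, 0)
        map_one' := hι.one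
        map_zero' := hι.zero
        map_mul' := fun x y => by
          rw [← hι.mul]; congr 1
          exact Prod.ext (by simp [qMul]) (by simp [qMul])
        map_add' := fun x y => by
          rw [← hι.add]; congr 1
          exact Prod.ext rfl (add_zero 0).symm }
    exact RingHom.congr_fun (RingHom.ext_zmod ψ (ZMod.castHom (dvd_refl p) F)) x
  have hιw : ι w = ω := by
    rw [hw, show ((t, 1) : Qp p) = (t, 0) + (0, 1) from Prod.ext (add_zero t).symm (zero_add 1).symm, hι.add, hι01,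
      hιt]
    ring
  have hι3 : ι (3, 0) = 3 := by rw [hιt]; exact map_ofNat (ZMod.castHom (dvd_refl p) F) 3
  have hγ : ∀ d, ι (sevenTr w d) = ![3, ω, ω, τ ω, ω, τ ω, τ ω] d := fun d => by
    fin_cases d <;> simp [sevenTr, hι.bar, hιw, hι3]
  set G : Fin 3 → Fin 3 → Qp p := fun i j => sevenTr w (sevenSq i - sevenSq j)
  have hG : IsUnit (Matrix.of fun i j => ι (G i j) : Matrix (Fin 3) (Fin 3) F) := by
    rw [Matrix.isUnit_iff_isUnit_det, isUnit_iff_ne_zero, hι.det, ne_eq, hι.eq_zero]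
    exact hfacts.gram_det
  obtain ⟨P, hcol, hJ⟩ := exists_coords hU.geom (Equiv.refl (Fin 3)) (fun k => v (sevenSq k)) hG
    (fun i j => by rw [hvv, Matrix.of_apply, hγ])
  simp only [Equiv.coe_refl, Function.comp_id] at hcol
  have hform : ∀ x y, h3 ((P : Matrix (Fin 3) (Fin 3) F) *ᵥ x) ((P : Matrix (Fin 3) (Fin 3) F) *ᵥ y) =
      formOfGram τ (Matrix.of fun i j => ι (G i j)) x y := fun x y => by
    have h1 := coord_form hU.geom (Equiv.refl (Fin 3)) P x y
    simp only [Equiv.coe_refl, Function.comp_id] at h1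
    rw [h1, hJ]
  have hsingle : ∀ k, (fun l => ι ((fun l => if l = k then qOne else 0) l : Qp p)) = (Pi.single k 1 : Fin 3 → F) :=
    fun k => funext fun l => by simp [Pi.single_apply, apply_ite ι, hι.one, hι.zero]
  have hext : ∀ x y, (∀ k, h3 x (v (sevenSq k)) = h3 y (v (sevenSq k))) → x = y := by
    intro x y h
    by_contra hne
    obtain ⟨r, hr⟩ := CfsgLib.Maximal.un_exists hf (x - y) (sub_ne_zero.2 hne)
    obtain ⟨u, rfl⟩ : ∃ u, (P : Matrix (Fin 3) (Fin 3) F) *ᵥ u = r :=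
      ⟨(↑P⁻¹ : Matrix (Fin 3) (Fin 3) F) *ᵥ r, by rw [Matrix.mulVec_mulVec, Units.mul_inv, Matrix.one_mulVec]⟩
    have hu : (P : Matrix (Fin 3) (Fin 3) F) *ᵥ u = ∑ k, u k • v (sevenSq k) := by
      conv_lhs => rw [← (Pi.basisFun F (Fin 3)).sum_repr u, Matrix.mulVec_sum]
      simp [Matrix.mulVec_smul, ← hcol]
    have hsub : ∀ r, h3 (x - y) r = h3 x r - h3 y r := fun r => by
      rw [eq_sub_iff_add_eq, ← hf.add_left, sub_add_cancel]
    rw [hsub, hu] at hr
    simp only [Fin.sum_univ_three, CfsgLib.Maximal.un_add_right hf, CfsgLib.Maximal.un_smul_right hf, h, sub_self] at hr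
    exact zero_ne_one hr
  have hco : ∀ i, (P : Matrix (Fin 3) (Fin 3) F) *ᵥ (fun l => ι (co i l)) = v i := fun i => hext _ _ fun k => by
    rw [← hcol k, hform, ← hsingle, hι.form, hfacts.coords, hγ, ← hvv, ← hcol k, hsingle]
  -- the configuration
  let im : Fin 3 → Fin 7 → Fin n → Fin 3 → F := fun m b j i => ι (sevenImg co rep m b j i)
  have him : ∀ m b j, (P : Matrix (Fin 3) (Fin 3) F) *ᵥ im m b j =
      ∑ k, ι (rep j k) • v (sevenSq (k + m) + b) := fun m b j => by
    rw [show im m b j = ∑ k, ι (rep j k) • fun l => ι (co (sevenSq (k + m) + b) l) from funext fun l => by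
      simp [im, sevenImg, Fin.sum_univ_three, hι.add, hι.mul], Matrix.mulVec_sum]
    exact Finset.sum_congr rfl fun k _ => by rw [Matrix.mulVec_smul, hco]
  let S : Set (Fin 3 → F) := {x | ∃ (l : F) (m : Fin 3) (b : Fin 7) (j : Fin n), l ≠ 0 ∧ x = l • im m b j}
  have him0 : ∀ m b j, ∃ i, im m b j i ≠ 0 := fun m b j => by
    by_contra h
    push Not at h
    exact hfacts.nonzero m b j (funext fun i => hι.eq_zero.1 (h i))
  let Pm : (Fin 3 → Qp p) → Prop := fun x => x ≠ 0 ∧ ∃ m b j, qProp x (sevenImg co rep m b j)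
  have hS : ∀ x, (fun i => ι (x i)) ∈ S ↔ Pm x := by
    intro x
    refine ⟨?_, ?_⟩
    · rintro ⟨l, m, b, j, hl, he⟩
      refine ⟨fun h => ?_, m, b, j, fun i k => hι.eq_iff.1 ?_⟩
      · obtain ⟨i, hi⟩ := him0 m b j
        have := congrFun he i
        rw [h, Pi.zero_apply, hι.zero, Pi.smul_apply, smul_eq_mul] at this
        exact mul_ne_zero hl hi this.symm
      · have hi := congrFun he i
        have hk := congrFun he k
        simp only [Pi.smul_apply, smul_eq_mul, im] at hi hk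
        rw [hι.mul, hι.mul, hi, hk]; ring
    · rintro ⟨hx, m, b, j, h⟩
      obtain ⟨i, hi⟩ := him0 m b j
      refine ⟨ι (x i) / im m b j i, m, b, j, div_ne_zero (fun hxi => hx (funext fun k => ?_)) hi, funext fun k => ?_⟩
      · have h1 := congrArg ι (h i k)
        rw [hι.mul, hι.mul, hxi, zero_mul] at h1
        exact hι.eq_zero.1 ((mul_eq_zero.1 h1.symm).resolve_right hi)
      · have h1 := congrArg ι (h i k)
        rw [hι.mul, hι.mul] at h1
        simp only [Pi.smul_apply, smul_eq_mul, im] at hi ⊢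
        field_simp
        linear_combination -h1
  have hmove : ∀ g ∈ H, ∃ (l : F) (m : Fin 3) (b : Fin 7), l ≠ 0 ∧ ∀ m' b', ∃ b'',
      ∀ j, ((P⁻¹ * g * P : GL (Fin 3) F) : Matrix (Fin 3) (Fin 3) F) *ᵥ im m' b' j = l • im (m' + m) b'' j := by
    intro g hgH
    obtain ⟨l, m, a', b, hl, hm, hgv⟩ := hg g ⟨hle hgH, hH.1.le hgH⟩
    refine ⟨l, m, b, hl, fun m' b' => ⟨a' * b' + b, fun j => ?_⟩⟩
    refine Matrix.mulVec_injective_of_isUnit P.isUnit ?_
    show (P : Matrix (Fin 3) (Fin 3) F) *ᵥ _ = (P : Matrix (Fin 3) (Fin 3) F) *ᵥ _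
    rw [Matrix.mulVec_mulVec, ← Units.val_mul, show P * (P⁻¹ * g * P) = g * P by group, Units.val_mul,
      ← Matrix.mulVec_mulVec, him, Matrix.mulVec_smul, him, Finset.smul_sum, Matrix.mulVec_sum]
    refine Finset.sum_congr rfl fun k _ => ?_
    rw [Matrix.mulVec_smul, hgv, smul_comm, mul_add, hm, add_assoc, add_assoc]
  refine config_not_maximal hU hH hι P G hJ S Pm hS ?_ (fun h => h.1 rfl) ?_ M hfacts.mform hfacts.mdet ?_ ?_
    a (sevenImg co rep 0 0 j₀) hfacts.iso ?_ ?_
  · rintro l x hl ⟨l', m, b, j, hl', rfl⟩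
    exact ⟨l * l', m, b, j, mul_ne_zero hl hl', smul_smul _ _ _⟩
  · rintro g hgH x ⟨l', m', b', j, hl', rfl⟩
    obtain ⟨l, m, b, hl, h⟩ := hmove g hgH
    obtain ⟨b'', hb''⟩ := h m' b'
    exact ⟨l' * l, m' + m, b'', j, mul_ne_zero hl' hl, by rw [Matrix.mulVec_smul, hb'', smul_smul]⟩
  · intro r hr
    obtain ⟨l, m, b, j, hl, he⟩ := (hS _).2 hr
    obtain ⟨m', b', j', h1, h2⟩ := hfacts.stable m b j
    refine (hS _).1 ?_
    obtain ⟨l', m'', b'', j'', hl', he'⟩ := (hS (qApply M (sevenImg co rep m b j))).2 ⟨h2, m', b', j', h1⟩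
    refine ⟨l * l', m'', b'', j'', mul_ne_zero hl hl', ?_⟩
    rw [← hι.apply, he, Matrix.mulVec_smul, show im m b j = fun i => ι (sevenImg co rep m b j i) from rfl, hι.apply,
      he', smul_smul]
  · intro g hgH hgM
    obtain ⟨l, m, a', b, hl, hm, hgv⟩ := hg g ⟨hle hgH, hH.1.le hgH⟩
    refine hfacts.out (a' * 1 + b) fun i k => hι.eq_iff.1 ?_
    have h1 : ((P⁻¹ * g * P : GL (Fin 3) F) : Matrix (Fin 3) (Fin 3) F) *ᵥ Pi.single 0 1 =
        l • fun i => ι (co (a' * 1 + b) i) := by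
      refine Matrix.mulVec_injective_of_isUnit P.isUnit ?_
      show (P : Matrix (Fin 3) (Fin 3) F) *ᵥ _ = (P : Matrix (Fin 3) (Fin 3) F) *ᵥ _
      rw [Matrix.mulVec_mulVec, ← Units.val_mul, show P * (P⁻¹ * g * P) = g * P by group, Units.val_mul,
        ← Matrix.mulVec_mulVec, hcol, show sevenSq 0 = 1 from rfl, hgv, Matrix.mulVec_smul, hco]
    rw [hgM, Matrix.mulVec_single_one] at h1
    have hi : ι (M i 0) = l * ι (co (a' * 1 + b) i) := congrFun h1 i
    have hk : ι (M k 0) = l * ι (co (a' * 1 + b) k) := congrFun h1 k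
    rw [hι.mul, hι.mul, hi, hk]; ring
  · refine ⟨hfacts.nonzero 0 0 j₀, 0, 0, j₀, fun i k => ?_⟩
    exact hι.eq_iff.1 (by rw [hι.mul, hι.mul, mul_comm])
  · rintro ⟨-, m, b, j, h⟩
    exact hfacts.moved m b j h

/-- In `SU₃(3)` and `SU₃(5)` a maximal subgroup does not normalise an adjoint-closed cubic subfield. -/
theorem field_three_small (hU : UForm 3 q τ) (hq : q = 3 ∨ q = 5) {H : Subgroup (GL (Fin 3) F)}
    (hH : IsMaximalIn (GU 3 F q ⊓ specialLinear (Fin 3) F) H) {K : Subalgebra F (Matrix (Fin 3) (Fin 3) F)}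
    (hK : IsFieldSubalgebra 3 K) (hadj : IsAdjointClosedFor h3 K) : ¬ H ≤ subalgebraNormalizer K := by
  rcases hq with h | h
  · haveI : Fact (Nat.Prime 3) := ⟨Nat.prime_three⟩
    haveI : CharP F 3 := h ▸ charP_of_prime hU (h ▸ Nat.prime_three)
    refine field_three_not_maximal hU (Or.inl h) h (by norm_num) (t := 1) rfl (fun x hx => ?_) sevenFacts_three hH hK
      hadj
    have h3' : (3 : F) = 0 := by exact_mod_cast CharP.cast_eq_zero F 3
    rw [ZMod.cast_one (dvd_refl 3)]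
    exact ⟨by linear_combination hx - (x + 1) * h3', by linear_combination -h3'⟩
  · haveI : Fact (Nat.Prime 5) := ⟨by norm_num⟩
    haveI : CharP F 5 := h ▸ charP_of_prime hU (h ▸ (by norm_num : Nat.Prime 5))
    refine field_three_not_maximal hU (Or.inr h) h (by norm_num) (t := 2) rfl (fun x hx => ?_) sevenFacts_five hH hK
      hadj
    have h5 : (5 : F) = 0 := by exact_mod_cast CharP.cast_eq_zero F 5
    have h2 : (ZMod.cast (2 : ZMod 5) : F) = 2 := map_ofNat (ZMod.castHom (dvd_refl 5) F) 2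
    rw [h2]
    exact ⟨by linear_combination hx - x * h5, by linear_combination -h5⟩

end CfsgLib.AschbacherForm.Cases
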