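import Cfsg.Agent.Lib.AschbacherForm.Cases.UnitThreeModel
import Mathlib.LinearAlgebra.Matrix.Permutation

/-!
`SU₃(5)`: the stabiliser of an orthogonal frame fixes a configuration of 105 points with stabiliser `3A₇`.
-/

set_option autoImplicit false
set_option linter.unusedSectionVars false

namespace CfsgLib.AschbacherForm.Cases

open Cfsg Cfsg.Geo CfsgLib.Aschbacher
open scoped Matrix MatrixGroups

universe u

local notation "Q₅" => Qp 5

/-- The 105 points, on model vectors. -/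
def PmFrame (x : Fin 3 → Q₅) : Prop :=
  let h := qForm qId x x
  let d := qMul (x 0) (qMul (x 1) (x 2))
  h ≠ 0 ∧ (qMul d d = qMul (3, 2) h ∨ qMul d d = qMul (4, 1) h ∨
    (d = 0 ∧ ∀ i, qMul (x i) (qBar (x i)) ≠ qMul (2, 0) h))

instance : DecidablePred PmFrame := fun x => by unfold PmFrame; infer_instance

/-- The extra element. -/
def frameExtra : Fin 3 → Fin 3 → Q₅ :=
  ![![(3, 1), (2, 4), (2, 1)], ![(3, 4), (0, 3), (3, 4)], ![(2, 1), (2, 4), (3, 1)]]

theorem frameExtra_form : ∀ a b, qForm qId (fun i => frameExtra i a) (fun i => frameExtra i b) = qId a b := by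
  decide +kernel

theorem frameExtra_stable : ∀ t, PmFrame (qRep t) → PmFrame (qApply frameExtra (qRep t)) := by
  decide +kernel

theorem frameExtra_det : qDet frameExtra = qOne := by decide +kernel

theorem frameExtra_col : ∀ i, frameExtra i 0 ≠ 0 := by decide +kernel

theorem frame_witness :
    ¬ PmFrame (0 : Fin 3 → Q₅) ∧ qForm qId (![qOne, (2, 0), 0] : Fin 3 → Q₅) ![qOne, (2, 0), 0] = 0 ∧
      PmFrame ![qOne, 0, 0] ∧
      ¬ PmFrame (fun i => (![qOne, 0, 0] : Fin 3 → Q₅) i +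
        qMul (qMul (0, 1) (qForm qId ![qOne, 0, 0] ![qOne, (2, 0), 0])) ((![qOne, (2, 0), 0] : Fin 3 → Q₅) i)) := by
  decide +kernel

variable {F : Type u} [Field F] [Fintype F] {q : ℕ} {τ : F ≃+* F}

theorem qId_map {p : ℕ} {ι : Qp p → F} (h : Model τ ι) :
    (Matrix.of fun i j => ι (qId i j) : Matrix (Fin 3) (Fin 3) F) = 1 := by
  ext i j
  simp only [Matrix.of_apply, qId, Matrix.one_apply]
  split_ifs <;> simp [h.one, h.zero]

theorem coordR_refl {ι : Type} [Fintype ι] [DecidableEq ι] (P g : GL ι F) :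
    coordR (Equiv.refl ι) P (g : Matrix ι ι F) = ((P⁻¹ * g * P : GL ι F) : Matrix ι ι F) := by
  rw [coordR_apply]; simp [mul_assoc]

theorem val_det_one {g : GL (Fin 3) F} (h : g ∈ specialLinear (Fin 3) F) : (g : Matrix (Fin 3) (Fin 3) F).det = 1 := by
  have hd : Matrix.GeneralLinearGroup.det g = 1 := h
  exact (Matrix.GeneralLinearGroup.val_det_apply g).symm.trans (by rw [hd, Units.val_one])

local notation "h3" => hermForm 3 F q

/-- Orthonormal coordinates in which the stabiliser of a frame is monomial. -/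
theorem frame_coords (hU : UForm 3 q τ) {D : Fin 3 → Submodule F (Fin 3 → F)}
    (hD : IsNondegenerateMDecomposition h3 1 D) :
    ∃ P : GL (Fin 3) F, (coordJ τ (Equiv.refl (Fin 3)) P (1 : GL (Fin 3) F) : Matrix (Fin 3) (Fin 3) F) = 1 ∧
      ∀ g ∈ decompositionStabilizer D ⊓ (GU 3 F q ⊓ specialLinear (Fin 3) F),
        ∃ (σ : Equiv.Perm (Fin 3)) (t : Fin 3 → F), (∀ i, t i * τ (t i) = 1) ∧ (∏ i, t i) ^ 2 = 1 ∧
          ∀ (x : Fin 3 → F) (i : Fin 3),
            (((P⁻¹ * g * P : GL (Fin 3) F) : Matrix (Fin 3) (Fin 3) F) *ᵥ x) (σ i) = t i * x i := by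
  classical
  have hf := unitaryForm hU
  have hb : ∀ i, ∃ w ∈ D i, h3 w w = 1 ∧ ∀ x ∈ D i, ∃ c : F, x = c • w := by
    intro i
    obtain ⟨w, hw, hspan⟩ := finrank_eq_one_iff'.1 (hD.decomp.finrank_eq i)
    obtain ⟨⟨x, hx, hne⟩, -⟩ := hD.nondegenerate i _ w.2 fun e => hw (Subtype.ext e)
    obtain ⟨c, hc⟩ := hspan ⟨x, hx⟩
    have hww : h3 (w : Fin 3 → F) w ≠ 0 := fun e => hne (by
      rw [show x = c • (w : Fin 3 → F) from congrArg Subtype.val hc.symm, hf.smul_left, e, mul_zero])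
    obtain ⟨s, hs⟩ := exists_norm hU.ne hU.invol (e := (h3 (w : Fin 3 → F) w)⁻¹) (by rw [map_inv₀, ← hf.herm])
    have hs0 : s ≠ 0 := fun e => by rw [e, zero_mul] at hs; exact hww (inv_eq_zero.1 hs.symm)
    refine ⟨s • (w : Fin 3 → F), (D i).smul_mem _ w.2, ?_, fun y hy => ?_⟩
    · rw [hf.smul_left, CfsgLib.Maximal.un_smul_right hf, ← mul_assoc, hs, inv_mul_cancel₀ hww]
    · obtain ⟨d, hd⟩ := hspan ⟨y, hy⟩
      exact ⟨d / s, by rw [smul_smul, div_mul_cancel₀ _ hs0]; exact (congrArg Subtype.val hd).symm⟩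
  choose z hzD hz1 hzspan using hb
  have hz : ∀ p r, h3 (z p) (z r) = (1 : Matrix (Fin 3) (Fin 3) F) p r := by
    intro p r
    rcases eq_or_ne p r with rfl | hpr
    · rw [Matrix.one_apply_eq]; exact hz1 _
    · rw [Matrix.one_apply_ne hpr]; exact hD.orthogonal _ _ hpr _ (hzD _) _ (hzD _)
  obtain ⟨P, hcol, hJ⟩ := exists_coords hU.geom (Equiv.refl (Fin 3)) z isUnit_one hz
  refine ⟨P, hJ, fun g hg => ?_⟩
  obtain ⟨⟨σ, hσ⟩, hgU, hgd⟩ := hg
  have him : ∀ i, ∃ c : F, (g : Matrix (Fin 3) (Fin 3) F) *ᵥ z i = c • z (σ i) := fun i =>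
    hzspan (σ i) _ (hσ i ▸ ⟨z i, hzD i, Matrix.toLin'_apply _ _⟩)
  choose t ht using him
  have hiso : ∀ u v, h3 ((g : Matrix (Fin 3) (Fin 3) F) *ᵥ u) ((g : Matrix (Fin 3) (Fin 3) F) *ᵥ v) = h3 u v := hgU
  have hnorm : ∀ i, t i * τ (t i) = 1 := fun i => by
    have := hiso (z i) (z i)
    rwa [ht, hf.smul_left, CfsgLib.Maximal.un_smul_right hf, hz1, hz1, mul_one] at this
  have hN : coordR (Equiv.refl (Fin 3)) P (g : Matrix (Fin 3) (Fin 3) F) =
      (Matrix.diagonal t).submatrix σ.symm id := by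
    refine coordR_of_cols _ P hcol fun p => ?_
    rw [ht, Finset.sum_eq_single (σ p)]
    · simp
    · intro r _ hr
      rw [Matrix.submatrix_apply, id_eq, Matrix.diagonal_apply_ne, zero_smul]
      exact fun e => hr (by rw [← e, Equiv.apply_symm_apply])
    · simp
  have hdet : ((Equiv.Perm.sign σ.symm : ℤ) : F) * ∏ i, t i = 1 := by
    rw [← Matrix.det_diagonal, ← Matrix.det_permute, ← hN, det_frame]
    exact val_det_one hgd
  refine ⟨σ, t, hnorm, ?_, fun x i => ?_⟩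
  · rcases Int.units_eq_one_or (Equiv.Perm.sign σ.symm) with e | e <;> rw [e] at hdet <;> simp at hdet
    · rw [hdet, one_pow]
    · rw [← neg_sq, hdet, one_pow]
  · rw [← coordR_refl, hN]
    simp [Matrix.mulVec, dotProduct, Matrix.diagonal_apply, ite_mul]

/-- The 105 points. -/
def SFrame (τ : F ≃+* F) (ι : Q₅ → F) : Set (Fin 3 → F) :=
  {x | let h := ∑ i, x i * τ (x i)
    h ≠ 0 ∧ ((∏ i, x i) ^ 2 = ι (3, 2) * h ∨ (∏ i, x i) ^ 2 = ι (4, 1) * h ∨
      (∏ i, x i = 0 ∧ ∀ i, x i * τ (x i) ≠ ι (2, 0) * h))}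

theorem sframe_iff {ι : Q₅ → F} (h : Model τ ι) (x : Fin 3 → Q₅) : (fun i => ι (x i)) ∈ SFrame τ ι ↔ PmFrame x := by
  have hh : ∑ i, ι (x i) * τ (ι (x i)) = ι (qForm qId x x) := by
    rw [← h.form, qId_map h]
    simp [formOfGram, Fin.sum_univ_three, Matrix.one_apply]
  have hd : ∏ i, ι (x i) = ι (qMul (x 0) (qMul (x 1) (x 2))) := by
    rw [Fin.prod_univ_three, h.mul, h.mul]; ring
  simp only [SFrame, Set.mem_setOf_eq, hh, hd]
  simp only [PmFrame, sq, ← h.mul, ← h.bar, h.eq_iff, h.eq_zero, ne_eq]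

theorem sframe_monomial {ι : Q₅ → F} {x y : Fin 3 → F} {σ : Equiv.Perm (Fin 3)} {t : Fin 3 → F}
    (ht : ∀ i, t i * τ (t i) = 1) (hp : (∏ i, t i) ^ 2 = 1) (hy : ∀ i, y (σ i) = t i * x i)
    (hx : x ∈ SFrame τ ι) : y ∈ SFrame τ ι := by
  have hN : ∀ i, y (σ i) * τ (y (σ i)) = x i * τ (x i) := fun i => by
    rw [hy, map_mul]; linear_combination (x i * τ (x i)) * ht i
  have hh : ∑ i, y i * τ (y i) = ∑ i, x i * τ (x i) := by
    rw [← Equiv.sum_comp σ]; exact Finset.sum_congr rfl fun i _ => hN i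
  have hpr : ∏ i, y i = (∏ i, t i) * ∏ i, x i := by
    rw [← Equiv.prod_comp σ, Finset.prod_congr rfl fun i _ => hy i, Finset.prod_mul_distrib]
  have ht0 : ∏ i, t i ≠ 0 := fun e => by rw [e] at hp; simp at hp
  obtain ⟨h0, hc⟩ := hx
  refine ⟨by rwa [hh], ?_⟩
  rw [hh, hpr, mul_pow, hp, one_mul]
  rcases hc with hc | hc | ⟨hc, hc'⟩
  · exact Or.inl hc
  · exact Or.inr (Or.inl hc)
  · refine Or.inr (Or.inr ⟨by rw [hc, mul_zero], fun j => ?_⟩)
    obtain ⟨i, rfl⟩ := σ.surjective j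
    rw [hN]; exact hc' i

theorem sframe_smul (hU : UForm 3 q τ) (hq : q = 5) {ι : Q₅ → F} {l : F} {x : Fin 3 → F} (hl : l ≠ 0)
    (hx : x ∈ SFrame τ ι) : l • x ∈ SFrame τ ι := by
  have hl6 : (l ^ 3) ^ 2 = l * τ l := by rw [hU.pow, hq]; ring
  have hh : ∑ i, (l • x) i * τ ((l • x) i) = (l * τ l) * ∑ i, x i * τ (x i) := by
    rw [Finset.mul_sum]
    exact Finset.sum_congr rfl fun i _ => by rw [Pi.smul_apply, smul_eq_mul, map_mul]; ring
  have hpr : ∏ i, (l • x) i = l ^ 3 * ∏ i, x i := by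
    simp [Fin.prod_univ_three]; ring
  have hn : l * τ l ≠ 0 := mul_ne_zero hl (τ.map_ne_zero_iff.2 hl)
  obtain ⟨h0, hc⟩ := hx
  refine ⟨by rw [hh]; exact mul_ne_zero hn h0, ?_⟩
  rw [hh, hpr, mul_pow, hl6]
  rcases hc with hc | hc | ⟨hc, hc'⟩
  · exact Or.inl (by rw [hc]; ring)
  · exact Or.inr (Or.inl (by rw [hc]; ring))
  · refine Or.inr (Or.inr ⟨by rw [hc, mul_zero], fun i e => hc' i (mul_left_cancel₀ hn ?_)⟩)
    rw [Pi.smul_apply, smul_eq_mul, map_mul] at e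
    linear_combination e

/-- The characteristic is `q` for a prime `q`. -/
theorem charP_of_prime (hU : UForm 3 q τ) (hq : q.Prime) : CharP F q := by
  refine (CharP.charP_iff_prime_eq_zero hq).2 (pow_eq_zero_iff (n := 2) two_ne_zero |>.1 ?_)
  have h := FiniteField.cast_card_eq_zero F
  rw [hU.card] at h
  exact_mod_cast h

/-- In `SU₃(5)` a maximal subgroup does not stabilise a frame. -/
theorem frame_three_five (hU : UForm 3 q τ) (hq : q = 5) {H : Subgroup (GL (Fin 3) F)}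
    (hH : IsMaximalIn (GU 3 F q ⊓ specialLinear (Fin 3) F) H) {D : Fin 3 → Submodule F (Fin 3 → F)}
    (hD : IsNondegenerateMDecomposition h3 1 D) : ¬ H ≤ decompositionStabilizer D := by
  intro hle
  haveI : Fact (Nat.Prime 5) := ⟨by norm_num⟩
  haveI : CharP F 5 := hq ▸ charP_of_prime hU (by rw [hq]; norm_num)
  obtain ⟨ι, hι⟩ := model_small hU hq (Or.inr rfl)
  obtain ⟨P, hJ, hmono⟩ := frame_coords hU hD
  have hmono' : ∀ g ∈ H, _ := fun g hg => hmono g ⟨hle hg, hH.1.le hg⟩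
  obtain ⟨h0, ha, hx₀, hy⟩ := frame_witness
  refine config_not_maximal hU hH hι P qId (hJ.trans (qId_map hι).symm) (SFrame τ ι) PmFrame (sframe_iff hι)
    (fun l x hl hx => sframe_smul hU hq hl hx) h0 (fun g hg x hx => ?_) frameExtra frameExtra_form frameExtra_det
    frameExtra_stable (fun g hg hgM => ?_) _ _ ha hx₀ hy
  · obtain ⟨σ, t, ht, hp, hx'⟩ := hmono' g hg
    exact sframe_monomial ht hp (hx' x) hx
  · obtain ⟨σ, t, -, -, hx'⟩ := hmono' g hg
    have h1 := hx' (Pi.single 0 1) 1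
    rw [hgM, Matrix.mulVec_single_one, Pi.single_eq_of_ne (by decide), mul_zero] at h1
    exact frameExtra_col (σ 1) (hι.eq_zero.1 h1)

end CfsgLib.AschbacherForm.Cases
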