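import Cfsg.Agent.Lib.AschbacherForm.Cases.UnitTwo
import Cfsg.Agent.Lib.AschbacherForm.Cases.FrameCoord
import Mathlib.Data.ZMod.Basic

/-!
A computable model of the field with `p²` elements and the criterion for a non-maximal subgroup of `SU₃(p)`:
a configuration of points with a larger stabiliser.
-/

set_option autoImplicit false
set_option linter.unusedSectionVars false

namespace CfsgLib.AschbacherForm.Cases

open Cfsg Cfsg.Geo CfsgLib.Aschbacher
open CfsgLib.Maximal (tv fvec un_tv_dot)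
open scoped Matrix MatrixGroups

universe u

/-- Pairs `a + b θ` with `θ² = 2`. -/
abbrev Qp (p : ℕ) := ZMod p × ZMod p

variable {p : ℕ}

def qMul (a b : Qp p) : Qp p := (a.1 * b.1 + 2 * a.2 * b.2, a.1 * b.2 + a.2 * b.1)

def qBar (a : Qp p) : Qp p := (a.1, -a.2)

def qOne : Qp p := (1, 0)

def qApply (M : Fin 3 → Fin 3 → Qp p) (v : Fin 3 → Qp p) : Fin 3 → Qp p :=
  fun i => qMul (M i 0) (v 0) + qMul (M i 1) (v 1) + qMul (M i 2) (v 2)

/-- The value of the form with Gram matrix `G`. -/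
def qForm (G : Fin 3 → Fin 3 → Qp p) (u v : Fin 3 → Qp p) : Qp p :=
  qMul (u 0) (qApply G (fun i => qBar (v i)) 0) + qMul (u 1) (qApply G (fun i => qBar (v i)) 1) +
    qMul (u 2) (qApply G (fun i => qBar (v i)) 2)

def qDet (M : Fin 3 → Fin 3 → Qp p) : Qp p :=
  qMul (M 0 0) (qMul (M 1 1) (M 2 2) - qMul (M 1 2) (M 2 1)) -
    qMul (M 0 1) (qMul (M 1 0) (M 2 2) - qMul (M 1 2) (M 2 0)) +
    qMul (M 0 2) (qMul (M 1 0) (M 2 1) - qMul (M 1 1) (M 2 0))

/-- The identity Gram matrix. -/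
def qId : Fin 3 → Fin 3 → Qp p := fun i j => if i = j then qOne else 0

/-- The vectors with first non-zero entry one. -/
def qRep (t : Qp p × Qp p ⊕ Qp p ⊕ Unit) : Fin 3 → Qp p :=
  match t with
  | .inl (a, b) => ![qOne, a, b]
  | .inr (.inl a) => ![0, qOne, a]
  | .inr (.inr _) => ![0, 0, qOne]

theorem nonsq_three : ∀ c : ZMod 3, (¬ ∃ b, b * b = c) → ∃ d : ZMod 3, d * d * c = 2 := by decide

theorem nonsq_five : ∀ c : ZMod 5, (¬ ∃ b, b * b = c) → ∃ d : ZMod 5, d * d * c = 2 := by decide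

variable {F : Type u} [Field F] [Fintype F] {q : ℕ} {τ : F ≃+* F}

/-- An identification of the pairs with the field. -/
structure Model (τ : F ≃+* F) (ι : Qp p → F) : Prop where
  add : ∀ a b, ι (a + b) = ι a + ι b
  mul : ∀ a b, ι (qMul a b) = ι a * ι b
  bar : ∀ a, ι (qBar a) = τ (ι a)
  one : ι qOne = 1
  bijective : Function.Bijective ι

theorem Model.zero {ι : Qp p → F} (h : Model τ ι) : ι 0 = 0 := by
  have := h.add 0 0
  rw [add_zero] at this
  exact left_eq_add.1 this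

theorem Model.neg {ι : Qp p → F} (h : Model τ ι) (a : Qp p) : ι (-a) = -ι a := by
  have := h.add (-a) a
  rw [neg_add_cancel, h.zero] at this
  exact eq_neg_of_add_eq_zero_left this.symm

theorem Model.sub {ι : Qp p → F} (h : Model τ ι) (a b : Qp p) : ι (a - b) = ι a - ι b := by
  rw [sub_eq_add_neg, h.add, h.neg, ← sub_eq_add_neg]

theorem Model.eq_iff {ι : Qp p → F} (h : Model τ ι) {a b : Qp p} : ι a = ι b ↔ a = b :=
  h.bijective.1.eq_iff

theorem Model.eq_zero {ι : Qp p → F} (h : Model τ ι) {a : Qp p} : ι a = 0 ↔ a = 0 := by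
  rw [← h.zero, h.eq_iff]

theorem Model.apply {ι : Qp p → F} (h : Model τ ι) (M : Fin 3 → Fin 3 → Qp p) (v : Fin 3 → Qp p) :
    (Matrix.of fun i j => ι (M i j)) *ᵥ (fun i => ι (v i)) = fun i => ι (qApply M v i) := by
  funext i
  simp [Matrix.mulVec, dotProduct, Fin.sum_univ_three, qApply, h.add, h.mul]

theorem Model.form {ι : Qp p → F} (h : Model τ ι) (G : Fin 3 → Fin 3 → Qp p) (u v : Fin 3 → Qp p) :
    formOfGram τ (Matrix.of fun i j => ι (G i j)) (fun i => ι (u i)) (fun i => ι (v i)) = ι (qForm G u v) := by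
  simp only [formOfGram, Fin.sum_univ_three, Matrix.of_apply, qForm, qApply, h.add, h.mul, h.bar]
  ring

theorem Model.det {ι : Qp p → F} (h : Model τ ι) (M : Fin 3 → Fin 3 → Qp p) :
    (Matrix.of fun i j => ι (M i j)).det = ι (qDet M) := by
  rw [Matrix.det_fin_three]
  simp only [Matrix.of_apply, qDet, h.add, h.sub, h.mul]
  ring

/-- The model from a square root of two moved by `τ`. -/
theorem model_exists (hU : UForm 3 q τ) [Fact p.Prime] [CharP F p] (hp : q = p) (hp2 : p ≠ 2) {θ : F}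
    (hθ : θ ^ 2 = 2) (hθτ : τ θ = -θ) :
    ∃ ι : Qp p → F, Model τ ι ∧ ι (0, 1) = θ := by
  let φ : ZMod p →+* F := ZMod.castHom (dvd_refl p) F
  have hφτ : ∀ a, τ (φ a) = φ a := fun a => by
    exact RingHom.congr_fun (RingHom.ext_zmod ((τ : F →+* F).comp φ) φ) a
  have h2 : (2 : F) ≠ 0 := fun e => by
    have h2' : ((2 : ℕ) : F) = 0 := by exact_mod_cast e
    rw [CharP.cast_eq_zero_iff F p] at h2'
    exact hp2 ((Nat.prime_dvd_prime_iff_eq Fact.out Nat.prime_two).1 h2')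
  have hθ0 : θ ≠ 0 := fun e => h2 (by rw [← hθ, e]; ring)
  let ι : Qp p → F := fun a => φ a.1 + φ a.2 * θ
  have hinj : Function.Injective ι := fun a b e => by
    have e' := congrArg τ e
    simp only [ι, map_add, map_mul, hφτ, hθτ] at e e'
    have e1 : φ a.1 = φ b.1 := mul_left_cancel₀ h2 (by linear_combination e + e')
    have e2 : φ a.2 = φ b.2 := mul_right_cancel₀ hθ0 (by linear_combination e - e1)
    exact Prod.ext (φ.injective e1) (φ.injective e2)
  refine ⟨ι, ⟨fun a b => ?_, fun a b => ?_, fun a => ?_, ?_, ?_⟩, by simp [ι]⟩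
  · simp only [ι, Prod.fst_add, Prod.snd_add, map_add]; ring
  · simp only [ι, qMul, map_add, map_mul, map_ofNat]
    linear_combination -(φ a.2 * φ b.2) * hθ
  · simp only [ι, qBar, map_neg, map_add, map_mul, hφτ, hθτ]; ring
  · simp [ι, qOne]
  · refine (Fintype.bijective_iff_injective_and_card _).2 ⟨hinj, ?_⟩
    rw [Fintype.card_prod, ZMod.card, hU.card, hp, sq]

/-- For `p = 3, 5` there is a model. -/
theorem model_small (hU : UForm 3 q τ) [Fact p.Prime] [CharP F p] (hp : q = p) (hpc : p = 3 ∨ p = 5) :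
    ∃ ι : Qp p → F, Model τ ι := by
  have hf := unitaryForm hU
  obtain ⟨k, hk0, hk⟩ := CfsgLib.Maximal.un_skew_exists hf
  let φ : ZMod p →+* F := ZMod.castHom (dvd_refl p) F
  have hφτ : ∀ a, τ (φ a) = φ a := fun a => by
    exact RingHom.congr_fun (RingHom.ext_zmod ((τ : F →+* F).comp φ) φ) a
  let g : ZMod p → fixField τ := fun a => ⟨φ a, mem_fixField.2 (hφτ a)⟩
  have hg : Function.Bijective g := (Nat.bijective_iff_injective_and_card g).2
    ⟨fun a b e => φ.injective (congrArg Subtype.val e :), by rw [hU.card_fix, Nat.card_zmod, hp]⟩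
  obtain ⟨c, hc⟩ := hg.2 ⟨k * k, mem_fixField.2 (by rw [map_mul, hk]; ring)⟩
  have hc : φ c = k * k := congrArg Subtype.val hc
  have hp2 : p ≠ 2 := by rcases hpc with rfl | rfl <;> norm_num
  have h2 : (2 : F) ≠ 0 := fun e => by
    have h2' : ((2 : ℕ) : F) = 0 := by exact_mod_cast e
    rw [CharP.cast_eq_zero_iff F p] at h2'
    exact hp2 ((Nat.prime_dvd_prime_iff_eq Fact.out Nat.prime_two).1 h2')
  have hns : ¬ ∃ b : ZMod p, b * b = c := by
    rintro ⟨b, rfl⟩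
    rw [map_mul] at hc
    rcases mul_self_eq_mul_self_iff.1 hc with e | e
    · have hb := hφτ b; rw [e, hk] at hb
      exact hk0 (mul_left_cancel₀ h2 (by linear_combination -hb))
    · have hb := hφτ b; rw [e, map_neg, hk] at hb
      exact hk0 (mul_left_cancel₀ h2 (by linear_combination hb))
  obtain ⟨d, hd⟩ : ∃ d : ZMod p, d * d * c = 2 := by
    clear hg hc
    rcases hpc with rfl | rfl
    · exact nonsq_three c hns
    · exact nonsq_five c hns
  obtain ⟨ι, hι, -⟩ := model_exists hU hp hp2 (θ := φ d * k) (by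
    rw [mul_pow, sq k, ← hc, sq, ← map_mul, ← map_mul, hd, map_ofNat]) (by rw [map_mul, hφτ, hk]; ring)
  exact ⟨ι, hι⟩

theorem exists_rep {ι : Qp p → F} (h : Model τ ι) {x : Fin 3 → F} (hx : x ≠ 0) :
    ∃ (l : F) (t : Qp p × Qp p ⊕ Qp p ⊕ Unit), l ≠ 0 ∧ x = l • fun i => ι (qRep t i) := by
  have hs := h.bijective.2
  by_cases h0 : x 0 = 0
  · by_cases h1 : x 1 = 0
    · refine ⟨x 2, .inr (.inr ()), fun e => hx (funext fun i => by fin_cases i <;> assumption), funext fun i => ?_⟩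
      fin_cases i <;> simp [qRep, h0, h1, h.zero, h.one]
    · obtain ⟨a, ha⟩ := hs (x 2 / x 1)
      refine ⟨x 1, .inr (.inl a), h1, funext fun i => ?_⟩
      fin_cases i <;> simp [qRep, h0, h.zero, h.one, ha, mul_div_cancel₀ _ h1]
  · obtain ⟨a, ha⟩ := hs (x 1 / x 0)
    obtain ⟨b, hb⟩ := hs (x 2 / x 0)
    refine ⟨x 0, .inl (a, b), h0, funext fun i => ?_⟩
    fin_cases i <;> simp [qRep, h.one, ha, hb, mul_div_cancel₀ _ h0]

local notation "h3" => hermForm 3 F q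

/-- A subgroup fixing a configuration with a larger stabiliser is not maximal. -/
theorem config_not_maximal (hU : UForm 3 q τ) {H : Subgroup (GL (Fin 3) F)}
    (hH : IsMaximalIn (GU 3 F q ⊓ specialLinear (Fin 3) F) H)
    {ι : Qp p → F} (hι : Model τ ι) (P : GL (Fin 3) F) (G : Fin 3 → Fin 3 → Qp p)
    (hJ : (coordJ τ (Equiv.refl (Fin 3)) P (1 : GL (Fin 3) F) : Matrix (Fin 3) (Fin 3) F) =
      Matrix.of fun i j => ι (G i j))
    (S : Set (Fin 3 → F)) (Pm : (Fin 3 → Qp p) → Prop) (hS : ∀ x, (fun i => ι (x i)) ∈ S ↔ Pm x)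
    (hsc : ∀ (l : F) (x : Fin 3 → F), l ≠ 0 → x ∈ S → l • x ∈ S) (h0 : ¬ Pm 0)
    (hinv : ∀ g ∈ H, ∀ x ∈ S, ((P⁻¹ * g * P : GL (Fin 3) F) : Matrix (Fin 3) (Fin 3) F) *ᵥ x ∈ S)
    (M : Fin 3 → Fin 3 → Qp p)
    (hMG : ∀ a b, qForm G (fun i => M i a) (fun i => M i b) = G a b) (hMd : qDet M = qOne)
    (hMS : ∀ t, Pm (qRep t) → Pm (qApply M (qRep t)))
    (hout : ∀ g ∈ H,
      ((P⁻¹ * g * P : GL (Fin 3) F) : Matrix (Fin 3) (Fin 3) F) = (Matrix.of fun i j => ι (M i j)) → False)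
    (a x₀ : Fin 3 → Qp p) (ha : qForm G a a = 0) (hx₀ : Pm x₀)
    (hy : ¬ Pm (fun i => x₀ i + qMul (qMul (0, 1) (qForm G x₀ a)) (a i))) : False := by
  classical
  have hf := unitaryForm hU
  set Mm : Matrix (Fin 3) (Fin 3) F := Matrix.of fun i j => ι (M i j) with hMm
  set Gm : Matrix (Fin 3) (Fin 3) F := Matrix.of fun i j => ι (G i j) with hGm
  have hform : ∀ x y, h3 ((P : Matrix (Fin 3) (Fin 3) F) *ᵥ x) ((P : Matrix (Fin 3) (Fin 3) F) *ᵥ y) =
      formOfGram τ Gm x y := fun x y => by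
    have h1 := coord_form hU.geom (Equiv.refl (Fin 3)) P x y
    simp only [Equiv.coe_refl, Function.comp_id] at h1
    rw [h1, hJ]
  have hdetM : Mm.det = 1 := by rw [hMm, hι.det, hMd, hι.one]
  obtain ⟨k, hk⟩ : IsUnit Mm := by rw [Matrix.isUnit_iff_isUnit_det, hdetM]; exact isUnit_one
  set s : GL (Fin 3) F := P * k * P⁻¹
  have hsk : P⁻¹ * s * P = k := by simp [s, mul_assoc]
  have hks : ∀ x, (s : Matrix (Fin 3) (Fin 3) F) *ᵥ ((P : Matrix (Fin 3) (Fin 3) F) *ᵥ x) =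
      (P : Matrix (Fin 3) (Fin 3) F) *ᵥ (Mm *ᵥ x) := fun x => by
    rw [Matrix.mulVec_mulVec, Matrix.mulVec_mulVec, ← hk, ← Units.val_mul, ← Units.val_mul]
    simp [s, mul_assoc]
  have hP : ∀ v, ∃ x, v = (P : Matrix (Fin 3) (Fin 3) F) *ᵥ x := fun v =>
    ⟨(↑P⁻¹ : Matrix (Fin 3) (Fin 3) F) *ᵥ v, by rw [Matrix.mulVec_mulVec, Units.mul_inv, Matrix.one_mulVec]⟩
  have hMiso : Mmᵀ * Gm * Mm.map τ = Gm := by
    ext i j
    have h := hι.form G (fun l => M l i) (fun l => M l j)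
    rw [hMG] at h
    rw [hGm, Matrix.of_apply, ← h]
    simp [formOfGram, Matrix.mul_apply, Fin.sum_univ_three, hMm, mul_comm, mul_assoc]
    ring
  have hsΩ : s ∈ GU 3 F q ⊓ specialLinear (Fin 3) F := by
    refine ⟨fun u v => ?_, Units.ext ?_⟩
    · obtain ⟨x, rfl⟩ := hP u
      obtain ⟨y, rfl⟩ := hP v
      show h3 ((s : Matrix (Fin 3) (Fin 3) F) *ᵥ ((P : Matrix (Fin 3) (Fin 3) F) *ᵥ x))
        ((s : Matrix (Fin 3) (Fin 3) F) *ᵥ ((P : Matrix (Fin 3) (Fin 3) F) *ᵥ y)) = _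
      rw [hks, hks, hform, hform, formOfGram_mulVec, hMiso]
    · rw [Matrix.GeneralLinearGroup.val_det_apply, Units.val_one, Units.val_mul, Units.val_mul,
        Matrix.det_units_conj, hk, hdetM]
  let X : Subgroup (GL (Fin 3) F) :=
    { carrier := {g | ∀ x, ((P⁻¹ * g * P : GL (Fin 3) F) : Matrix (Fin 3) (Fin 3) F) *ᵥ x ∈ S ↔ x ∈ S}
      one_mem' := fun x => by simp
      mul_mem' := fun {g g'} hg hg' x => by
        rw [show P⁻¹ * (g * g') * P = (P⁻¹ * g * P) * (P⁻¹ * g' * P) by group, Units.val_mul, ← Matrix.mulVec_mulVec]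
        exact (hg _).trans (hg' x)
      inv_mem' := fun {g} hg x => by
        rw [← hg (((P⁻¹ * g⁻¹ * P : GL (Fin 3) F) : Matrix (Fin 3) (Fin 3) F) *ᵥ x), Matrix.mulVec_mulVec,
          ← Units.val_mul, show P⁻¹ * g * P * (P⁻¹ * g⁻¹ * P) = 1 by group, Units.val_one, Matrix.one_mulVec] }
  have hX : ∀ g : GL (Fin 3) F,
      (∀ x ∈ S, ((P⁻¹ * g * P : GL (Fin 3) F) : Matrix (Fin 3) (Fin 3) F) *ᵥ x ∈ S) → g ∈ X := by
    intro g hg x
    refine ⟨fun hx => ?_, hg x⟩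
    have hinj : Function.Injective fun y : S => (⟨_, hg y y.2⟩ : S) := fun y z e =>
      Subtype.ext (Matrix.mulVec_injective_of_isUnit (P⁻¹ * g * P).isUnit (congrArg Subtype.val e :))
    obtain ⟨⟨y, hy⟩, e⟩ := Finite.surjective_of_injective hinj ⟨_, hx⟩
    exact Matrix.mulVec_injective_of_isUnit (P⁻¹ * g * P).isUnit (congrArg Subtype.val e :) ▸ hy
  have hHX : H ≤ X := fun g hg => hX g (hinv g hg)
  have hsX : s ∈ X := hX s fun x hx => by
    rw [hsk, hk]
    have hx0 : x ≠ 0 := fun e => h0 ((hS 0).1 (by simpa [hι.zero, e, Pi.zero_def] using hx))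
    obtain ⟨l, t, hl, rfl⟩ := exists_rep hι hx0
    have hx' := hsc l⁻¹ _ (inv_ne_zero hl) hx
    rw [smul_smul, inv_mul_cancel₀ hl, one_smul, hS] at hx'
    rw [Matrix.mulVec_smul, hMm, hι.apply]
    exact hsc l _ hl ((hS _).2 (hMS t hx'))
  have hk1 : τ (ι (0, 1)) = -ι (0, 1) := by
    rw [← hι.bar, show qBar ((0, 1) : Qp p) = -(0, 1) from Prod.ext neg_zero.symm rfl, hι.neg]
  set w := (P : Matrix (Fin 3) (Fin 3) F) *ᵥ fun i => ι (a i)
  have hww : h3 w w = 0 := by rw [hform, hGm, hι.form, ha, hι.zero]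
  have hnX : ¬ GU 3 F q ⊓ specialLinear (Fin 3) F ≤ X := fun hall => by
    have h := (hall (utv_mem hU hww hk1) (fun i => ι (x₀ i))).2 ((hS _).2 hx₀)
    refine hy ((hS _).1 ?_)
    convert h using 1
    rw [Units.val_mul, Units.val_mul, ← Matrix.mulVec_mulVec, ← Matrix.mulVec_mulVec, utv_apply hU hww, hform, hGm,
      hι.form, Matrix.mulVec_add, Matrix.mulVec_smul, Matrix.mulVec_mulVec, Units.inv_mul, Matrix.one_mulVec,
      Matrix.mulVec_mulVec, Units.inv_mul, Matrix.one_mulVec]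
    funext i
    simp [hι.add, hι.mul]
  have hsH : s ∈ H := su_eq_inf hH hHX hnX ▸ ⟨hsX, hsΩ⟩
  exact hout s hsH (by rw [hsk, hk])

end CfsgLib.AschbacherForm.Cases
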