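import Cfsg.Agent.Lib.AschbacherForm.Cases.UnitThreeFrame
import Mathlib.LinearAlgebra.Matrix.BilinearForm
import Mathlib.LinearAlgebra.QuadraticForm.Basic

/-!
`SU₃(q)`, `q = 3, 5`: the orthogonal subfield groups stabilise a frame, respectively a configuration of 105 points.
-/

set_option autoImplicit false
set_option linter.unusedSectionVars false

namespace CfsgLib.AschbacherForm.Cases

open Cfsg Cfsg.Geo CfsgLib.Aschbacher
open scoped Matrix MatrixGroups

universe u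

theorem equalise_three : ∀ d0 d1 d2 : ZMod 3, d0 ≠ 0 → d1 ≠ 0 → d2 ≠ 0 →
    ∃ (i : Fin 3) (a b c : ZMod 3), ![d0, d1, d2] i * (a * a) + ![d0, d1, d2] (i + 1) * (b * b) = ![d0, d1, d2] (i + 2) ∧
      c * c * (![d0, d1, d2] i * ![d0, d1, d2] (i + 1)) = 1 := by
  decide +kernel

theorem equalise_five : ∀ d0 d1 d2 : ZMod 5, d0 ≠ 0 → d1 ≠ 0 → d2 ≠ 0 →
    ∃ (i : Fin 3) (a b c : ZMod 5), ![d0, d1, d2] i * (a * a) + ![d0, d1, d2] (i + 1) * (b * b) = ![d0, d1, d2] (i + 2) ∧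
      c * c * (![d0, d1, d2] i * ![d0, d1, d2] (i + 1)) = 1 := by
  decide +kernel

theorem fin3_ne : ∀ i : Fin 3, i ≠ i + 1 ∧ i ≠ i + 2 ∧ i + 1 ≠ i + 2 := by decide

theorem sum_sq_three : ∀ a b c : ZMod 3, a * a + b * b + c * c = 1 →
    (b = 0 ∧ c = 0) ∨ (a = 0 ∧ c = 0) ∨ (a = 0 ∧ b = 0) := by
  decide

local notation "Q₅" => Qp 5

/-- The 105 points, on model vectors. -/
def PmRat (x : Fin 3 → Q₅) : Prop :=
  let h := qForm qId x x
  let s := qMul (x 0) (x 0) + qMul (x 1) (x 1) + qMul (x 2) (x 2)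
  let c := qMul s (qMul s s)
  h ≠ 0 ∧ (c = 0 ∨ c = qMul (2, 0) h ∨ c = qMul (4, 0) h ∨
    (c = h ∧ ∀ i j, qBar (qMul (x i) (qBar (x j))) = qMul (x i) (qBar (x j))))

instance : DecidablePred PmRat := fun x => by unfold PmRat; infer_instance

/-- The extra element. -/
def ratExtra : Fin 3 → Fin 3 → Q₅ :=
  ![![(1, 2), (4, 4), (2, 0)], ![(0, 0), (4, 3), (4, 2)], ![(4, 2), (3, 0), (1, 4)]]

theorem ratExtra_facts :
    (∀ a b, qForm qId (fun i => ratExtra i a) (fun i => ratExtra i b) = qId a b) ∧ qDet ratExtra = qOne ∧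
      qBar (qMul (ratExtra 0 0) (qBar (ratExtra 2 0))) ≠ qMul (ratExtra 0 0) (qBar (ratExtra 2 0)) := by
  decide +kernel

theorem ratExtra_stable : ∀ t, PmRat (qRep t) → PmRat (qApply ratExtra (qRep t)) := by
  decide +kernel

theorem rat_witness :
    ¬ PmRat (0 : Fin 3 → Q₅) ∧ qForm qId (![qOne, (2, 0), 0] : Fin 3 → Q₅) ![qOne, (2, 0), 0] = 0 ∧
      PmRat ![qOne, 0, 0] ∧
      ¬ PmRat (fun i => (![qOne, 0, 0] : Fin 3 → Q₅) i +
        qMul (qMul (0, 1) (qForm qId ![qOne, 0, 0] ![qOne, (2, 0), 0])) ((![qOne, (2, 0), 0] : Fin 3 → Q₅) i)) := by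
  decide +kernel

variable {F : Type u} [Field F] [Fintype F] {q : ℕ} {τ : F ≃+* F}

local notation "h3" => hermForm 3 F q

/-- For `q = 3, 5` an orthogonal subfield structure has orthonormal rational coordinates. -/
theorem rat_coords (hU : UForm 3 q τ) (hq : q = 3 ∨ q = 5) {F₀ : Subfield F} {P : GL (Fin 3) F}
    (hcard : Fintype.card F = Nat.card F₀ ^ 2) (hP : IsFormRationalStructure h3 F₀ 1 P) :
    ∃ P' : GL (Fin 3) F, (coordJ τ (Equiv.refl (Fin 3)) P' (1 : GL (Fin 3) F) : Matrix (Fin 3) (Fin 3) F) = 1 ∧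
      ∀ g ∈ subfieldSubgroup F₀ P ⊓ (GU 3 F q ⊓ specialLinear (Fin 3) F), ∃ (c : F) (R : Matrix (Fin 3) (Fin 3) F),
        c ≠ 0 ∧ (∀ i j, τ (R i j) = R i j) ∧ ((P'⁻¹ * g * P' : GL (Fin 3) F) : Matrix (Fin 3) (Fin 3) F) = c • R ∧
        (c * τ c) • (Rᵀ * R) = 1 ∧ (c ^ 3 * R.det) = 1 := by
  classical
  have hf := unitaryForm hU
  have hF₀ : Nat.card F₀ = q := (Nat.pow_left_injective two_ne_zero (hU.card.symm.trans hcard)).symm
  have hfix : ∀ x ∈ F₀, τ x = x := fun x hx => by rw [hU.pow, ← hF₀]; exact (mem_subfield_iff F₀).1 hx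
  have hodd : Odd q := by rcases hq with rfl | rfl <;> decide
  have h2 : (2 : F) ≠ 0 := hU.two_iff.2 hodd
  -- an orthogonal rational basis
  let e : Fin 3 → Fin 3 → F := fun i => Pi.single i 1
  have he : ∀ i j, e i j ∈ F₀ := fun i j => by
    simp only [e, Pi.single_apply]; split_ifs
    exacts [F₀.one_mem, F₀.zero_mem]
  let J₀ : Matrix (Fin 3) (Fin 3) F₀ := Matrix.of fun i j =>
    ⟨h3 ((P : Matrix (Fin 3) (Fin 3) F) *ᵥ e i) ((P : Matrix (Fin 3) (Fin 3) F) *ᵥ e j), by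
      simpa using hP (e i) (e j) (he i) (he j)⟩
  let B : LinearMap.BilinForm F₀ (Fin 3 → F₀) := Matrix.toBilin' J₀
  have hJs : ∀ i j, J₀ i j = J₀ j i := fun i j => by
    refine Subtype.ext ?_
    show h3 _ _ = h3 _ _
    rw [hf.herm]
    exact hfix _ (J₀ j i).2
  have hBsymm : LinearMap.IsSymm B := by
    refine ⟨fun x y => ?_⟩
    simp only [B, Matrix.toBilin'_apply, RingHom.id_apply]
    rw [Finset.sum_comm]
    refine Finset.sum_congr rfl fun i _ => Finset.sum_congr rfl fun j _ => ?_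
    rw [hJs j i]; ring
  haveI : Invertible (2 : F₀) := invertibleOfNonzero fun h => h2 (congrArg Subtype.val h :)
  obtain ⟨v₀, hv₀⟩ := LinearMap.BilinForm.exists_orthogonal_basis (B := B) hBsymm
  let v := v₀.reindex (finCongr (Module.finrank_fin_fun F₀))
  have hv : ∀ i j, i ≠ j → B (v i) (v j) = 0 := fun i j hij => by
    simp only [v, Module.Basis.reindex_apply]
    exact hv₀ fun h => hij ((finCongr _).symm.injective h)
  let w : Fin 3 → Fin 3 → F := fun r i => ((v r i : F₀) : F)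
  let z : Fin 3 → Fin 3 → F := fun r => (P : Matrix (Fin 3) (Fin 3) F) *ᵥ w r
  have hzB : ∀ i j, h3 (z i) (z j) = ((B (v i) (v j) : F₀) : F) := by
    intro i j
    have hw : ∀ r, (P : Matrix (Fin 3) (Fin 3) F) *ᵥ w r = ∑ l, w r l • ((P : Matrix (Fin 3) (Fin 3) F) *ᵥ e l) :=
      fun r => by
        conv_lhs => rw [show w r = ∑ l, w r l • e l from funext fun l => by simp [e, Finset.sum_apply, Pi.single_apply]]
        rw [Matrix.mulVec_sum]
        simp only [Matrix.mulVec_smul]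
    simp only [z, hw, B, Matrix.toBilin'_apply, AddSubmonoidClass.coe_finset_sum, MulMemClass.coe_mul]
    simp only [Fin.sum_univ_three, hf.add_left, hf.smul_left, CfsgLib.Maximal.un_add_right hf,
      CfsgLib.Maximal.un_smul_right hf]
    simp only [show ∀ r l, τ (w r l) = w r l from fun r l => hfix _ (v r l).2]
    simp only [w, J₀, Matrix.of_apply]
    ring
  have hz0 : ∀ i, h3 (z i) (z i) ≠ 0 := by
    intro i h0
    have hB0 : ∀ j, B (v i) (v j) = 0 := fun j => by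
      rcases eq_or_ne i j with rfl | hij
      · exact Subtype.ext ((hzB i i).symm.trans h0)
      · exact hv i j hij
    have hzi : ∀ x, h3 (z i) x = 0 := fun x => by
      obtain ⟨y, rfl⟩ : ∃ y, (P : Matrix (Fin 3) (Fin 3) F) *ᵥ y = x :=
        ⟨(↑P⁻¹ : Matrix (Fin 3) (Fin 3) F) *ᵥ x, by rw [Matrix.mulVec_mulVec, Units.mul_inv, Matrix.one_mulVec]⟩
      have hl : ∀ l, h3 (z i) ((P : Matrix (Fin 3) (Fin 3) F) *ᵥ e l) = 0 := fun l => by
        have hBl : B (v i) (Pi.single l 1) = 0 := by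
          rw [← v.sum_repr (Pi.single l 1), map_sum]
          simp [hB0]
        have hw : (P : Matrix (Fin 3) (Fin 3) F) *ᵥ w i = ∑ r, w i r • ((P : Matrix (Fin 3) (Fin 3) F) *ᵥ e r) := by
          conv_lhs => rw [show w i = ∑ r, w i r • e r from funext fun r => by simp [e, Finset.sum_apply, Pi.single_apply]]
          rw [Matrix.mulVec_sum]
          simp only [Matrix.mulVec_smul]
        have h4 := congrArg (fun a : F₀ => (a : F)) hBl
        simp only [B, Matrix.toBilin'_apply', dotProduct, Matrix.mulVec_single_one, AddSubmonoidClass.coe_finset_sum,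
          MulMemClass.coe_mul, ZeroMemClass.coe_zero] at h4
        simp only [z, hw, CfsgLib.Maximal.un_sum_left hf, hf.smul_left]
        exact h4
      rw [show y = ∑ r, y r • e r from funext fun r => by simp [e, Finset.sum_apply, Pi.single_apply], Matrix.mulVec_sum]
      simp only [Matrix.mulVec_smul, Fin.sum_univ_three, CfsgLib.Maximal.un_add_right hf,
        CfsgLib.Maximal.un_smul_right hf, hl, mul_zero, add_zero]
    have hne : z i ≠ 0 := fun e0 => by
      have hw0 : w i = 0 := Matrix.mulVec_injective_of_isUnit P.isUnit (by rw [Matrix.mulVec_zero]; exact e0)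
      exact v.ne_zero i (funext fun l => Subtype.ext (congrFun hw0 l))
    obtain ⟨x, hx⟩ := CfsgLib.Maximal.un_exists hf (z i) hne
    exact one_ne_zero (hx.symm.trans (hzi x))
  -- equal norms
  obtain ⟨y, hy, hyy⟩ : ∃ y : Fin 3 → Fin 3 → F, (∀ r, ∃ u : Fin 3 → F, (∀ l, u l ∈ F₀) ∧
      y r = (P : Matrix (Fin 3) (Fin 3) F) *ᵥ u) ∧
      ∃ e : F, e ≠ 0 ∧ τ e = e ∧ ∀ r r', h3 (y r) (y r') = if r = r' then e else 0 := by
    have key : ∃ (i : Fin 3) (a b c : F), a ∈ F₀ ∧ b ∈ F₀ ∧ c ∈ F₀ ∧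
        h3 (z i) (z i) * (a * a) + h3 (z (i + 1)) (z (i + 1)) * (b * b) = h3 (z (i + 2)) (z (i + 2)) ∧
        c * c * (h3 (z i) (z i) * h3 (z (i + 1)) (z (i + 1))) = 1 := by
      let Q : Prop := ∃ (i : Fin 3) (a b c : F), a ∈ F₀ ∧ b ∈ F₀ ∧ c ∈ F₀ ∧
        h3 (z i) (z i) * (a * a) + h3 (z (i + 1)) (z (i + 1)) * (b * b) = h3 (z (i + 2)) (z (i + 2)) ∧
        c * c * (h3 (z i) (z i) * h3 (z (i + 1)) (z (i + 1))) = 1
      have main : ∀ p : ℕ, p.Prime → q = p →
          (∀ d0 d1 d2 : ZMod p, d0 ≠ 0 → d1 ≠ 0 → d2 ≠ 0 →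
            ∃ (i : Fin 3) (a b c : ZMod p),
              ![d0, d1, d2] i * (a * a) + ![d0, d1, d2] (i + 1) * (b * b) = ![d0, d1, d2] (i + 2) ∧
                c * c * (![d0, d1, d2] i * ![d0, d1, d2] (i + 1)) = 1) → Q := by
        intro p hp hqp heq
        haveI : Fact p.Prime := ⟨hp⟩
        haveI : CharP F p := hqp ▸ charP_of_prime hU (hqp ▸ hp)
        let φ : ZMod p →+* F := ZMod.castHom (dvd_refl p) F
        have hφm : ∀ a, φ a ∈ F₀ := fun a => by
          rw [mem_subfield_iff, hF₀, hqp, ← map_pow, ZMod.pow_card]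
        let g : ZMod p → F₀ := fun a => ⟨φ a, hφm a⟩
        have hg : Function.Bijective g := (Nat.bijective_iff_injective_and_card g).2
          ⟨fun a b e => φ.injective (congrArg Subtype.val e :), by rw [hF₀, Nat.card_zmod, hqp]⟩
        have hd : ∀ i, ∃ a, φ a = h3 (z i) (z i) := fun i => by
          obtain ⟨a, ha⟩ := hg.2 (B (v i) (v i))
          exact ⟨a, (congrArg Subtype.val ha).trans (hzB i i).symm⟩
        choose d hd using hd
        have hd0 : ∀ i, d i ≠ 0 := fun i e => hz0 i (by rw [← hd, e, map_zero])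
        obtain ⟨i, a, b, c, h1, h2⟩ := heq (d 0) (d 1) (d 2) (hd0 0) (hd0 1) (hd0 2)
        have hvec : ![d 0, d 1, d 2] = d := funext fun j => by fin_cases j <;> rfl
        rw [hvec] at h1 h2
        refine ⟨i, φ a, φ b, φ c, hφm a, hφm b, hφm c, ?_, ?_⟩
        · rw [← hd, ← hd, ← hd, ← h1]; simp only [map_add, map_mul]
        · rw [← hd, ← hd, ← map_one φ, ← h2]; simp only [map_mul]
      rcases hq with h | h
      · exact main 3 Nat.prime_three h equalise_three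
      · exact main 5 (by norm_num) h equalise_five
    obtain ⟨i, a, b, c, ha, hb, hc, h1, h2'⟩ := key
    have hdd : ∀ j, τ (h3 (z j) (z j)) = h3 (z j) (z j) := fun j => (hf.herm _ _).symm
    set d := fun j => h3 (z j) (z j) with hddef
    have hd0 : ∀ j, d j ∈ F₀ := fun j => by rw [hddef]; beta_reduce; rw [hzB]; exact (B (v j) (v j)).2
    let u₁ := a • w i + b • w (i + 1)
    obtain ⟨k₁, hk₁⟩ : ∃ k, k = -(c * (d (i + 1) * b)) := ⟨_, rfl⟩
    obtain ⟨k₂, hk₂⟩ : ∃ k, k = c * (d i * a) := ⟨_, rfl⟩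
    let u₂ := k₁ • w i + k₂ • w (i + 1)
    refine ⟨fun r => (P : Matrix (Fin 3) (Fin 3) F) *ᵥ (![u₁, u₂, w (i + 2)] r), fun r => ⟨_, fun l => ?_, rfl⟩,
      d (i + 2), hz0 _, hdd _, fun r r' => ?_⟩
    · have hwm : ∀ r l, w r l ∈ F₀ := fun r l => (v r l).2
      fin_cases r <;> simp only [Fin.zero_eta, Fin.mk_one, Fin.reduceFinMk, Matrix.cons_val, u₁, u₂, Pi.add_apply,
        Pi.smul_apply, smul_eq_mul]
      · exact F₀.add_mem (F₀.mul_mem ha (hwm _ _)) (F₀.mul_mem hb (hwm _ _))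
      · exact F₀.add_mem (F₀.mul_mem (hk₁ ▸ F₀.neg_mem (F₀.mul_mem hc (F₀.mul_mem (hd0 _) hb))) (hwm _ _))
          (F₀.mul_mem (hk₂ ▸ F₀.mul_mem hc (F₀.mul_mem (hd0 _) ha)) (hwm _ _))
      · exact hwm _ _
    · have ho : ∀ j k, j ≠ k → h3 (z j) (z k) = 0 := fun j k hjk => by
        rw [hzB, hv j k hjk, ZeroMemClass.coe_zero]
      obtain ⟨n1, n2, n3⟩ := fin3_ne i
      have hτa := hfix a ha
      have hτb := hfix b hb
      have hτc := hfix c hc
      have hτd := fun j => hfix _ (hd0 j)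
      have hzw : ∀ j, (P : Matrix (Fin 3) (Fin 3) F) *ᵥ w j = z j := fun j => rfl
      have hk₁τ : τ k₁ = k₁ := hfix _ (hk₁ ▸ F₀.neg_mem (F₀.mul_mem hc (F₀.mul_mem (hd0 _) hb)))
      have hk₂τ : τ k₂ = k₂ := hfix _ (hk₂ ▸ F₀.mul_mem hc (F₀.mul_mem (hd0 _) ha))
      fin_cases r <;> fin_cases r' <;>
        simp [u₁, u₂, Matrix.mulVec_add, Matrix.mulVec_smul, hzw, hf.add_left, CfsgLib.Maximal.un_add_right hf,
          hf.smul_left, CfsgLib.Maximal.un_smul_right hf, ho _ _ n1, ho _ _ n1.symm, ho _ _ n2, ho _ _ n2.symm,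
          ho _ _ n3, ho _ _ n3.symm, map_mul, hτa, hτb, hτc, hτd, hdd, hk₁τ, hk₂τ]
      all_goals subst hk₁ hk₂
      all_goals simp only [hddef] at *
      all_goals first
        | linear_combination h1
        | ring1
        | linear_combination (d i * (a * a) + d (i + 1) * (b * b)) * h2' + h1
  obtain ⟨ev, he0, heτ, hyy⟩ := hyy
  obtain ⟨s, hs⟩ := exists_norm hU.ne hU.invol (e := ev⁻¹) (by rw [map_inv₀, heτ])
  have hs0 : s ≠ 0 := fun h => by rw [h, zero_mul] at hs; exact inv_ne_zero he0 hs.symm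
  obtain ⟨P', hcol, hJ⟩ := exists_coords hU.geom (Equiv.refl (Fin 3)) (fun r => s • y r) isUnit_one fun r r' => by
    rw [hf.smul_left, CfsgLib.Maximal.un_smul_right hf, ← mul_assoc, hs, hyy, Matrix.one_apply]
    split_ifs
    · exact inv_mul_cancel₀ he0
    · rw [mul_zero]
  simp only [Equiv.coe_refl, Function.comp_id] at hcol
  choose u hu hyu using hy
  let W₀ : Matrix (Fin 3) (Fin 3) F₀ := Matrix.of fun i r => ⟨u r i, hu r i⟩
  let W : Matrix (Fin 3) (Fin 3) F := W₀.map F₀.subtype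
  have hPW : (P' : Matrix (Fin 3) (Fin 3) F) = s • ((P : Matrix (Fin 3) (Fin 3) F) * W) := by
    ext i r
    have h1 := congrFun (hcol r) i
    rw [Matrix.mulVec_single_one] at h1
    rw [show (P' : Matrix (Fin 3) (Fin 3) F) i r = (s • y r) i from h1, hyu]
    simp [Matrix.mul_apply, Matrix.mulVec, dotProduct, W, W₀]
  obtain ⟨W₁, hW₁⟩ : IsUnit W₀ := by
    rw [Matrix.isUnit_iff_isUnit_det, isUnit_iff_ne_zero]
    intro e0
    have h1 := ((Matrix.isUnit_iff_isUnit_det _).1 P'.isUnit).ne_zero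
    rw [hPW, Matrix.det_smul, Matrix.det_mul, show W.det = F₀.subtype W₀.det from (RingHom.map_det _ _).symm, e0,
      map_zero, mul_zero, mul_zero] at h1
    exact h1 rfl
  refine ⟨P', hJ, fun g hg => ?_⟩
  obtain ⟨c₀, hc₀, hrat⟩ := (CfsgLib.Maximal.mem_subfieldSubgroup_iff P g).1 hg.1
  set N := ((P'⁻¹ * g * P' : GL (Fin 3) F) : Matrix (Fin 3) (Fin 3) F) with hN
  set R := c₀ • N
  let Wi : Matrix (Fin 3) (Fin 3) F := (↑W₁⁻¹ : Matrix (Fin 3) (Fin 3) F₀).map F₀.subtype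
  have hWi : Wi * W = 1 := by
    show (↑W₁⁻¹ : Matrix (Fin 3) (Fin 3) F₀).map F₀.subtype * W₀.map F₀.subtype = 1
    rw [← Matrix.map_mul, ← hW₁, Units.inv_mul, Matrix.map_one _ (map_zero _) (map_one _)]
  have hNW : N = Wi * ((P⁻¹ * g * P : GL (Fin 3) F) : Matrix (Fin 3) (Fin 3) F) * W := by
    have h1 : W * N = ((P⁻¹ * g * P : GL (Fin 3) F) : Matrix (Fin 3) (Fin 3) F) * W := by
      have h2' : (P' : Matrix (Fin 3) (Fin 3) F) * N = (g : Matrix (Fin 3) (Fin 3) F) * (P' : Matrix (Fin 3) (Fin 3) F) := by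
        rw [hN, ← Units.val_mul, ← Units.val_mul]; congr 1; group
      rw [hPW, Matrix.smul_mul, Matrix.mul_smul] at h2'
      have h3' := smul_right_injective _ hs0 h2'
      have h4 := congrArg ((↑P⁻¹ : Matrix (Fin 3) (Fin 3) F) * ·) h3'
      simp only [← mul_assoc, Units.inv_mul, one_mul] at h4
      rw [h4]; simp [mul_assoc]
    calc N = Wi * W * N := by rw [hWi, one_mul]
      _ = _ := by rw [mul_assoc, h1, ← mul_assoc]
  have hRrat : ∀ i j, R i j ∈ F₀ := fun i j => by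
    have e : R = Wi * (c₀ • ((P⁻¹ * g * P : GL (Fin 3) F) : Matrix (Fin 3) (Fin 3) F)) * W := by
      simp only [R, hNW, Matrix.mul_smul, Matrix.smul_mul]
    rw [e, Matrix.mul_apply]
    refine F₀.sum_mem fun l _ => F₀.mul_mem ?_ (W₀ l j).2
    rw [Matrix.mul_apply]
    exact F₀.sum_mem fun m _ => F₀.mul_mem ((↑W₁⁻¹ : Matrix (Fin 3) (Fin 3) F₀) i m).2 (hrat m l)
  have hNR : N = c₀⁻¹ • R := by simp [R, smul_smul, inv_mul_cancel₀ hc₀]
  have hRτ : R.map τ = R := Matrix.ext fun i j => hfix _ (hRrat i j)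
  refine ⟨c₀⁻¹, R, inv_ne_zero hc₀, fun i j => hfix _ (hRrat i j), hNR, ?_, ?_⟩
  · have h := coord_sim τ (Equiv.refl (Fin 3)) P' (1 : GL (Fin 3) F) g 1 (hU.isSim hg.2.1)
    rw [IsSim, one_smul, hJ, coordR_refl, ← hN, Matrix.mul_one, hNR, Matrix.map_smul' (hf := map_mul τ), hRτ,
      Matrix.transpose_smul, Matrix.smul_mul, Matrix.mul_smul, smul_smul] at h
    exact h
  · have h : N.det = 1 := by rw [hN, ← coordR_refl, det_frame]; exact val_det_one hg.2.2
    rw [hNR, Matrix.det_smul, Fintype.card_fin] at h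
    exact h

/-- In `SU₃(3)` an orthogonal subfield group stabilises a frame. -/
theorem rat_three (hU : UForm 3 q τ) (hq : q = 3) {F₀ : Subfield F} {P : GL (Fin 3) F}
    (hcard : Fintype.card F = Nat.card F₀ ^ 2) (hP : IsFormRationalStructure h3 F₀ 1 P) :
    ∃ D : Fin 3 → Submodule F (Fin 3 → F), IsNondegenerateMDecomposition h3 1 D ∧
      subfieldSubgroup F₀ P ⊓ (GU 3 F q ⊓ specialLinear (Fin 3) F) ≤ decompositionStabilizer D := by
  classical
  obtain ⟨P', hJ, hg'⟩ := rat_coords hU (Or.inl hq) hcard hP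
  haveI : Fact (Nat.Prime 3) := ⟨Nat.prime_three⟩
  haveI : CharP F 3 := hq ▸ charP_of_prime hU (hq ▸ Nat.prime_three)
  let φ : ZMod 3 →+* F := ZMod.castHom (dvd_refl 3) F
  have hsurj : ∀ x, τ x = x → ∃ a, φ a = x := fun x hx => by
    let g : ZMod 3 → fixField τ := fun a => ⟨φ a, mem_fixField.2
      (RingHom.congr_fun (RingHom.ext_zmod ((τ : F →+* F).comp φ) φ) a)⟩
    have hg : Function.Bijective g := (Nat.bijective_iff_injective_and_card g).2
      ⟨fun a b e => φ.injective (congrArg Subtype.val e :), by rw [hU.card_fix, Nat.card_zmod, hq]⟩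
    obtain ⟨a, ha⟩ := hg.2 ⟨x, mem_fixField.2 hx⟩
    exact ⟨a, congrArg Subtype.val ha⟩
  let u : Fin 3 → Fin 3 → F := fun r => (P' : Matrix (Fin 3) (Fin 3) F) *ᵥ Pi.single r 1
  have hu : ∀ r r', h3 (u r) (u r') = (1 : Matrix (Fin 3) (Fin 3) F) r r' := fun r r' => by
    have h1 := coord_form hU.geom (Equiv.refl (Fin 3)) P' (Pi.single r 1) (Pi.single r' 1)
    simp only [Equiv.coe_refl, Function.comp_id] at h1
    rw [h1, hJ, formOfGram_single]
  refine ⟨fun r => Submodule.span F {u r}, frame_of_orth hU (by norm_num) u (fun r => by simp [hu])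
    (fun r r' h => by rw [hu, Matrix.one_apply_ne h]), fun g hg => ?_⟩
  obtain ⟨c, R, hc, hRτ, hN, hRR, hdet⟩ := hg' g hg
  have hl : c * τ c = 1 := by
    have h1 := congrArg Matrix.det hRR
    rw [Matrix.det_smul, Matrix.det_mul, Matrix.det_transpose, Matrix.det_one, Fintype.card_fin] at h1
    have h8 : c ^ 8 = 1 := by
      have := FiniteField.pow_card_sub_one_eq_one c hc
      rwa [hU.card, hq] at this
    rw [hU.pow, hq] at h1 ⊢
    have h6 : c ^ 6 = 1 := by
      linear_combination h1 - c ^ 6 * (c ^ 3 * R.det + 1) * hdet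
    have h2' : c ^ 2 = 1 := by linear_combination h8 - c ^ 2 * h6
    linear_combination (c ^ 2 + 1) * h2'
  rw [hl, one_smul] at hRR
  have hcol : ∀ r, ∃ p, ∀ p', p' ≠ p → R p' r = 0 := by
    intro r
    obtain ⟨a, ha⟩ := hsurj _ (hRτ 0 r)
    obtain ⟨b, hb⟩ := hsurj _ (hRτ 1 r)
    obtain ⟨e, he⟩ := hsurj _ (hRτ 2 r)
    have h1 := congrFun (congrFun hRR r) r
    rw [Matrix.mul_apply, Fin.sum_univ_three, Matrix.one_apply_eq] at h1
    simp only [Matrix.transpose_apply, ← ha, ← hb, ← he, ← map_mul, ← map_add] at h1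
    rcases sum_sq_three a b e (φ.injective (h1.trans (map_one φ).symm)) with ⟨x, y⟩ | ⟨x, y⟩ | ⟨x, y⟩
    · exact ⟨0, fun p' hp' => by fin_cases p' <;> simp_all⟩
    · exact ⟨1, fun p' hp' => by fin_cases p' <;> simp_all⟩
    · exact ⟨2, fun p' hp' => by fin_cases p' <;> simp_all⟩
  choose p hp using hcol
  have hinj : Function.Injective p := fun r r' e => by
    by_contra hne
    have h1 := congrFun (congrFun hRR r) r'
    rw [Matrix.one_apply_ne hne, Matrix.mul_apply, Finset.sum_eq_single (p r)] at h1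
    · rw [Matrix.transpose_apply] at h1
      have hnz : ∀ x, R (p x) x ≠ 0 := fun x h => by
        have h2 := congrFun (congrFun hRR x) x
        rw [Matrix.one_apply_eq, Matrix.mul_apply, Finset.sum_eq_zero (fun l _ => ?_)] at h2
        · exact zero_ne_one h2
        · rcases eq_or_ne l (p x) with rfl | hl'
          · rw [h, mul_zero]
          · rw [hp x l hl', mul_zero]
      exact mul_ne_zero (hnz r) (e ▸ hnz r') h1
    · intro l _ hl'; rw [Matrix.transpose_apply, hp r l hl', zero_mul]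
    · simp
  refine ⟨Equiv.ofBijective p (Finite.injective_iff_bijective.1 hinj), fun r => ?_⟩
  show Submodule.map _ (Submodule.span F {u r}) = Submodule.span F {u (p r)}
  have hgu : Matrix.toLin' (g : Matrix (Fin 3) (Fin 3) F) (u r) = (c * R (p r) r) • u (p r) := by
    rw [Matrix.toLin'_apply, show (g : Matrix (Fin 3) (Fin 3) F) *ᵥ u r =
      (P' : Matrix (Fin 3) (Fin 3) F) *ᵥ (((P'⁻¹ * g * P' : GL (Fin 3) F) : Matrix (Fin 3) (Fin 3) F) *ᵥ Pi.single r 1) by
        simp only [u, Matrix.mulVec_mulVec, ← Units.val_mul]; congr 2; group, hN]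
    rw [show (c • R) *ᵥ Pi.single r (1 : F) = (c * R (p r) r) • Pi.single (p r) 1 from funext fun l => ?_,
      Matrix.mulVec_smul]
    rcases eq_or_ne l (p r) with rfl | hl'
    · simp
    · simp [hp r l hl', hl']
  rw [Submodule.map_span, Set.image_singleton, hgu]
  refine Submodule.span_singleton_smul_eq (isUnit_iff_ne_zero.2 fun h => ?_) _
  have h' : Matrix.toLin' (g : Matrix (Fin 3) (Fin 3) F) (u r) = 0 := by rw [hgu, h, zero_smul]
  have : u r = 0 := Matrix.mulVec_injective_of_isUnit g.isUnit (by rw [Matrix.mulVec_zero, ← Matrix.toLin'_apply]; exact h')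
  have h'' := hu r r
  rw [this, CfsgLib.Maximal.un_zero_left (unitaryForm hU), Matrix.one_apply_eq] at h''
  exact zero_ne_one h''

/-- The 105 points. -/
def SRat (τ : F ≃+* F) (ι : Q₅ → F) : Set (Fin 3 → F) :=
  {x | let h := ∑ i, x i * τ (x i)
    let c := (∑ i, x i * x i) ^ 3
    h ≠ 0 ∧ (c = 0 ∨ c = ι (2, 0) * h ∨ c = ι (4, 0) * h ∨ (c = h ∧ ∀ i j, τ (x i * τ (x j)) = x i * τ (x j)))}

theorem srat_iff {ι : Q₅ → F} (h : Model τ ι) (x : Fin 3 → Q₅) : (fun i => ι (x i)) ∈ SRat τ ι ↔ PmRat x := by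
  have hh : ∑ i, ι (x i) * τ (ι (x i)) = ι (qForm qId x x) := by
    rw [← h.form, qId_map h]
    simp [formOfGram, Fin.sum_univ_three, Matrix.one_apply]
  have hd : (∑ i, ι (x i) * ι (x i)) ^ 3 =
      ι (qMul (qMul (x 0) (x 0) + qMul (x 1) (x 1) + qMul (x 2) (x 2))
        (qMul (qMul (x 0) (x 0) + qMul (x 1) (x 1) + qMul (x 2) (x 2))
          (qMul (x 0) (x 0) + qMul (x 1) (x 1) + qMul (x 2) (x 2)))) := by
    simp only [Fin.sum_univ_three, h.mul, h.add]; ring
  simp only [SRat, Set.mem_setOf_eq, hh, hd]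
  simp only [PmRat, ← h.bar, ← h.mul, h.eq_iff, h.eq_zero, ne_eq]

/-- In `SU₃(5)` an orthogonal subfield group is not maximal. -/
theorem rat_five (hU : UForm 3 q τ) (hq : q = 5) {H : Subgroup (GL (Fin 3) F)}
    (hH : IsMaximalIn (GU 3 F q ⊓ specialLinear (Fin 3) F) H) {F₀ : Subfield F} {P : GL (Fin 3) F}
    (hcard : Fintype.card F = Nat.card F₀ ^ 2) (hP : IsFormRationalStructure h3 F₀ 1 P) :
    ¬ H ≤ subfieldSubgroup F₀ P := by
  intro hle
  haveI : Fact (Nat.Prime 5) := ⟨by norm_num⟩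
  haveI : CharP F 5 := hq ▸ charP_of_prime hU (by rw [hq]; norm_num)
  obtain ⟨ι, hι⟩ := model_small hU hq (Or.inr rfl)
  obtain ⟨P', hJ, hg'⟩ := rat_coords hU (Or.inr hq) hcard hP
  obtain ⟨hM1, hMd, hM3⟩ := ratExtra_facts
  obtain ⟨h0, ha, hx₀, hy⟩ := rat_witness
  refine config_not_maximal hU hH hι P' qId (hJ.trans (qId_map hι).symm) (SRat τ ι) PmRat (srat_iff hι) ?_ h0 ?_
    ratExtra hM1 hMd ratExtra_stable ?_ _ _ ha hx₀ hy
  · intro l x hl hx
    have hn : l * τ l ≠ 0 := mul_ne_zero hl (τ.map_ne_zero_iff.2 hl)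
    have hh : ∑ i, (l • x) i * τ ((l • x) i) = (l * τ l) * ∑ i, x i * τ (x i) := by
      rw [Finset.mul_sum]
      exact Finset.sum_congr rfl fun i _ => by rw [Pi.smul_apply, smul_eq_mul, map_mul]; ring
    have hQ : (∑ i, (l • x) i * (l • x) i) ^ 3 = (l * τ l) * (∑ i, x i * x i) ^ 3 := by
      rw [hU.pow l, hq]; simp [Fin.sum_univ_three]; ring
    obtain ⟨h0', hc⟩ := hx
    refine ⟨by rw [hh]; exact mul_ne_zero hn h0', ?_⟩
    rw [hh, hQ]
    rcases hc with hc | hc | hc | ⟨hc, hr⟩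
    · exact Or.inl (by rw [hc, mul_zero])
    · exact Or.inr (Or.inl (by rw [hc]; ring))
    · exact Or.inr (Or.inr (Or.inl (by rw [hc]; ring)))
    · refine Or.inr (Or.inr (Or.inr ⟨by rw [hc], fun i j => ?_⟩))
      have := hr i j
      simp only [Pi.smul_apply, smul_eq_mul, map_mul, hU.invol] at this ⊢
      linear_combination (l * τ l) * this
  · intro g hg x hx
    obtain ⟨c, R, hc, hRτ, hN, hRR, hdet⟩ := hg' g ⟨hle hg, hH.1.le hg⟩
    rw [hN, Matrix.smul_mulVec]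
    set l := c * τ c with hldef
    have hent : ∀ i j, l * (R 0 i * R 0 j + R 1 i * R 1 j + R 2 i * R 2 j) = if i = j then 1 else 0 := fun i j => by
      have := congrFun (congrFun hRR i) j
      rw [Matrix.smul_apply, Matrix.mul_apply, Fin.sum_univ_three, smul_eq_mul, Matrix.one_apply] at this
      simpa using this
    have e00 := hent 0 0; have e01 := hent 0 1; have e02 := hent 0 2
    have e11 := hent 1 1; have e12 := hent 1 2; have e22 := hent 2 2
    simp only [Fin.reduceEq, if_false, if_true] at e00 e01 e02 e11 e12 e22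
    have hh : ∑ i, (c • (R *ᵥ x)) i * τ ((c • (R *ᵥ x)) i) = ∑ i, x i * τ (x i) := by
      simp only [Fin.sum_univ_three, Pi.smul_apply, smul_eq_mul, Matrix.mulVec, dotProduct, map_mul, map_add, hRτ]
      linear_combination (x 0 * τ (x 0)) * e00 + (x 1 * τ (x 1)) * e11 + (x 2 * τ (x 2)) * e22 +
        (x 0 * τ (x 1) + x 1 * τ (x 0)) * e01 + (x 0 * τ (x 2) + x 2 * τ (x 0)) * e02 +
        (x 1 * τ (x 2) + x 2 * τ (x 1)) * e12
    have hQ1 : l * ∑ i, (c • (R *ᵥ x)) i * (c • (R *ᵥ x)) i = c ^ 2 * ∑ i, x i * x i := by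
      simp only [Fin.sum_univ_three, Pi.smul_apply, smul_eq_mul, Matrix.mulVec, dotProduct]
      linear_combination c ^ 2 * ((x 0 * x 0) * e00 + (x 1 * x 1) * e11 + (x 2 * x 2) * e22 +
        2 * (x 0 * x 1) * e01 + 2 * (x 0 * x 2) * e02 + 2 * (x 1 * x 2) * e12)
    have hl6 : l ^ 3 = c ^ 6 := by
      have h1 := congrArg Matrix.det hRR
      rw [Matrix.det_smul, Matrix.det_mul, Matrix.det_transpose, Matrix.det_one, Fintype.card_fin] at h1
      linear_combination c ^ 6 * h1 - l ^ 3 * (c ^ 3 * R.det + 1) * hdet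
    have hl0 : l ≠ 0 := mul_ne_zero hc (τ.map_ne_zero_iff.2 hc)
    have hQ : (∑ i, (c • (R *ᵥ x)) i * (c • (R *ᵥ x)) i) ^ 3 = (∑ i, x i * x i) ^ 3 := by
      refine mul_left_cancel₀ (pow_ne_zero 3 hl0) ?_
      rw [← mul_pow, hQ1, mul_pow, hl6]; ring
    obtain ⟨h0', hc'⟩ := hx
    refine ⟨by rwa [hh], ?_⟩
    rw [hh, hQ]
    rcases hc' with h' | h' | h' | ⟨h', hr⟩
    · exact Or.inl h'
    · exact Or.inr (Or.inl h')
    · exact Or.inr (Or.inr (Or.inl h'))
    · refine Or.inr (Or.inr (Or.inr ⟨h', fun i j => ?_⟩))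
      simp only [Fin.sum_univ_three, Pi.smul_apply, smul_eq_mul, Matrix.mulVec, dotProduct, map_mul, map_add, hRτ,
        hU.invol]
      have r : ∀ a b, τ (x a) * x b = x a * τ (x b) := fun a b => by
        have := hr a b; rwa [map_mul, hU.invol] at this
      linear_combination (c * τ c) *
        (R i 0 * R j 0 * r 0 0 + R i 0 * R j 1 * r 0 1 + R i 0 * R j 2 * r 0 2 +
         R i 1 * R j 0 * r 1 0 + R i 1 * R j 1 * r 1 1 + R i 1 * R j 2 * r 1 2 +
         R i 2 * R j 0 * r 2 0 + R i 2 * R j 1 * r 2 1 + R i 2 * R j 2 * r 2 2)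
  · intro g hg hgM
    obtain ⟨c, R, -, hRτ, hN, -, -⟩ := hg' g ⟨hle hg, hH.1.le hg⟩
    rw [hN] at hgM
    have h0' := congrFun (congrFun hgM 0) 0
    have h2' := congrFun (congrFun hgM 2) 0
    simp only [Matrix.smul_apply, Matrix.of_apply, smul_eq_mul] at h0' h2'
    refine hM3 (hι.eq_iff.1 ?_)
    rw [hι.bar, hι.mul, hι.bar, ← h0', ← h2']
    simp only [map_mul, hRτ, hU.invol]
    ring

end CfsgLib.AschbacherForm.Cases
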