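import Cfsg.Agent.Lib.AschbacherForm.Cases.UnitThreeFrame
import Cfsg.Agent.Lib.AschbacherForm.Cases.Proper
import Mathlib.GroupTheory.Exponent
import Mathlib.GroupTheory.Index

/-!
`SU₃(q)`: the normalisers of `3^{1+2}`. For `q = 5` such a normaliser fixes a configuration of 45 points with
stabiliser `3·M₁₀`; for larger primes it is proper.
-/

set_option autoImplicit false
set_option linter.unusedSectionVars false

namespace CfsgLib.AschbacherForm.Cases

open Cfsg Cfsg.Geo CfsgLib.Aschbacher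
open CfsgLib.Maximal (tv tv_val tv_mulVec fvec un_tv_dot)
open scoped Matrix MatrixGroups

universe u

local notation "Q₅" => Qp 5

/-- The powers of a primitive cube root of unity. -/
def cubePow : Fin 3 → Q₅ := ![qOne, (2, 2), (2, 3)]

/-- The monomial matrices `ω^a D^b C^c`. -/
def heisMat (t : Fin 3 × Fin 3 × Fin 3) : Fin 3 → Fin 3 → Q₅ :=
  fun i j => if i = j + t.2.2 then cubePow (t.1 + t.2.1 * i) else 0

/-- The twelve eigenvectors. -/
def twelve (k : Fin 12) : Fin 3 → Q₅ :=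
  if _h : (k : ℕ) < 3 then fun i => if (i : ℕ) = k then qOne else 0
  else fun i => qMul (2, 1) (cubePow (Fin.ofNat 3 k * i + Fin.ofNat 3 ((k - 3 : ℕ) / 3) * i * i))

/-- The 45 points, on model vectors. -/
def PmSix (x : Fin 3 → Q₅) : Prop :=
  let h := qForm qId x x
  h ≠ 0 ∧ ((Finset.univ.filter fun k => qForm qId x (twelve k) = 0).card = 4 ∨
    ((Finset.univ.filter fun k => qMul (qForm qId x (twelve k)) (qBar (qForm qId x (twelve k))) = h).card = 2 ∧
      ∀ k l, k ≠ l → qMul (qForm qId x (twelve k)) (qBar (qForm qId x (twelve k))) = h →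
        qMul (qForm qId x (twelve l)) (qBar (qForm qId x (twelve l))) = h →
        qMul (qMul (qDet ![x, twelve k, twelve l]) (qMul (qForm qId x (twelve k)) (qForm qId x (twelve l))))
          (qMul (qDet ![x, twelve k, twelve l]) (qMul (qForm qId x (twelve k)) (qForm qId x (twelve l)))) = -h))

instance : DecidablePred PmSix := fun x => by unfold PmSix; infer_instance

/-- The extra element. -/
def sixExtra : Fin 3 → Fin 3 → Q₅ :=
  ![![(3, 2), (4, 1), (3, 3)], ![(0, 4), (4, 0), (2, 1)], ![(3, 1), (4, 0), (4, 3)]]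

theorem sixExtra_stable : ∀ t, PmSix (qRep t) → PmSix (qApply sixExtra (qRep t)) := by
  decide +kernel

theorem sixExtra_facts :
    (∀ a b, qForm qId (fun i => sixExtra i a) (fun i => sixExtra i b) = qId a b) ∧ qDet sixExtra = qOne ∧
      (∀ k, ∃ i j, qMul (sixExtra i 0) (twelve k j) ≠ qMul (sixExtra j 0) (twelve k i)) := by
  decide +kernel

theorem six_witness :
    ¬ PmSix (0 : Fin 3 → Q₅) ∧ qForm qId (![0, qOne, (2, 0)] : Fin 3 → Q₅) ![0, qOne, (2, 0)] = 0 ∧
      PmSix ![0, qOne, (4, 0)] ∧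
      ¬ PmSix (fun i => (![0, qOne, (4, 0)] : Fin 3 → Q₅) i +
        qMul (qMul (0, 1) (qForm qId ![0, qOne, (4, 0)] ![0, qOne, (2, 0)])) ((![0, qOne, (2, 0)] : Fin 3 → Q₅) i)) := by
  decide +kernel

theorem heis_inj : ∀ s t, (∀ i j, heisMat s i j = heisMat t i j) → s = t := by decide +kernel

theorem heis_scalar : ∀ (a : Fin 3) (i j : Fin 3), heisMat (a, 0, 0) i j = if i = j then cubePow a else 0 := by
  decide +kernel

theorem twelve_eigen : ∀ k, ∃ b c m, (b ≠ 0 ∨ c ≠ 0) ∧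
    ∀ i, qApply (heisMat (0, b, c)) (twelve k) i = qMul (cubePow m) (twelve k i) := by
  decide +kernel

theorem heis_eigen : ∀ b c, (b ≠ 0 ∨ c ≠ 0) → ∀ m t,
    (∀ i, qApply (heisMat (0, b, c)) (qRep t) i = qMul (cubePow m) (qRep t i)) →
    ∃ k, ∀ i j, qMul (qRep t i) (twelve k j) = qMul (qRep t j) (twelve k i) := by
  decide +kernel

theorem twelve_distinct : ∀ k l, k ≠ l → ∃ i j, qMul (twelve k i) (twelve l j) ≠ qMul (twelve k j) (twelve l i) := by
  decide +kernel

theorem twelve_norm : ∀ k, qForm qId (twelve k) (twelve k) = qOne := by decide +kernel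

theorem cubePow_eqs : ((2, 2) : Q₅) = (2, 0) + qMul (2, 0) (0, 1) ∧ ((2, 3) : Q₅) = qMul (2, 2) (2, 2) := by
  decide +kernel

theorem cubePow_add : ∀ a b, qMul (cubePow a) (cubePow b) = cubePow (a + b) := by decide +kernel

variable {F : Type u} [Field F] [Fintype F] {q : ℕ} {τ : F ≃+* F}

theorem tv_pow {n : Type} [Fintype n] [DecidableEq n] (a φ : n → F) (h : φ ⬝ᵥ a = 0) (k : ℕ) :
    ((tv a φ h : GL n F) : Matrix n n F) ^ k = 1 + (k : F) • Matrix.vecMulVec a φ := by
  induction k with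
  | zero => simp
  | succ k ih =>
    have hsq : Matrix.vecMulVec a φ * Matrix.vecMulVec a φ = 0 := by
      rw [Matrix.vecMulVec_mul_vecMulVec, h]; simp
    rw [pow_succ, ih, tv_val, add_mul, mul_add, mul_add, one_mul, one_mul, mul_one, Matrix.smul_mul, hsq, smul_zero,
      add_zero, Nat.cast_succ, add_smul, one_smul]
    abel

local notation "h3" => hermForm 3 F q

theorem heis_center {R : Subgroup (GL (Fin 3) F)} (habs : ActsAbsolutelyIrreducibly (matrixSet R)) {r : R}
    (hr : r ∈ Subgroup.center R) : (r : GL (Fin 3) F) ∈ scalars (Fin 3) F :=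
  mem_scalars_of_comm habs fun x hx =>
    congrArg Subtype.val ((Subgroup.mem_center_iff.1 hr ⟨x, hx⟩).symm : r * ⟨x, hx⟩ = _)

theorem heis_exponent {R : Subgroup (GL (Fin 3) F)} (hR : IsSymplecticTypeGroup 3 R) {r : GL (Fin 3) F} (hr : r ∈ R) :
    r ^ 3 = 1 := by
  have h := Monoid.pow_exponent_eq_one (⟨r, hr⟩ : R)
  rw [hR.exponent_eq] at h
  simpa using congrArg Subtype.val h

/-- For a prime `q ≥ 11` the special unitary group does not normalise `3^{1+2}`. -/
theorem not_su_le_heis (hU : UForm 3 q τ) (hq : q.Prime) (h11 : 11 ≤ q) {R : Subgroup (GL (Fin 3) F)}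
    (hR : IsSymplecticTypeGroup 3 R) (habs : ActsAbsolutelyIrreducibly (matrixSet R))
    (hcard : Nat.card R = 27) (hcz : Nat.card (Subgroup.center R) = 3) :
    ¬ GU 3 F q ⊓ specialLinear (Fin 3) F ≤ subgroupNormalizer R := by
  intro hall
  classical
  haveI : CharP F q := charP_of_prime hU hq
  have hf := unitaryForm hU
  obtain ⟨e, f, he, -, hef, -⟩ := exists_hyperbolic hU (show 2 ≤ 3 by norm_num)
  obtain ⟨k, hk0, hk⟩ := CfsgLib.Maximal.un_skew_exists hf
  set t := tv (k • e) (fvec h3 e) (un_tv_dot hf he k) with ht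
  have htN := hall (utv_mem hU he hk)
  have htq : t ^ q = 1 := Units.ext (by
    rw [Units.val_pow_eq_pow_val, ht, tv_pow, CharP.cast_eq_zero, zero_smul, add_zero, Units.val_one])
  haveI : Finite R := Nat.finite_of_card_ne_zero (by rw [hcard]; norm_num)
  have hconj : ∀ r ∈ R, ∀ n : ℕ, t ^ n * r * (t ^ n)⁻¹ ∈ R := fun r hr n =>
    (Subgroup.mem_normalizer_iff.1 ((subgroupNormalizer R).pow_mem htN n) r).1 hr
  have hrel : ∀ r ∈ R, r⁻¹ * (t * r * t⁻¹) ∈ scalars (Fin 3) F := by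
    intro r hr
    let f : Fin q → R ⧸ Subgroup.center R := fun n => QuotientGroup.mk ⟨_, hconj r hr n⟩
    have hQ : Nat.card (R ⧸ Subgroup.center R) = 9 := by
      have := Subgroup.card_eq_card_quotient_mul_card_subgroup (Subgroup.center R)
      rw [hcard, hcz] at this
      omega
    obtain ⟨m, n, hmn, hfe⟩ : ∃ m n, m ≠ n ∧ f m = f n := by
      by_contra hcon
      push Not at hcon
      haveI : Finite (R ⧸ Subgroup.center R) := Nat.finite_of_card_ne_zero (by rw [hQ]; norm_num)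
      have := Nat.card_le_card_of_injective f fun a b h => by_contra fun hab => hcon a b hab h
      rw [Nat.card_eq_fintype_card, Fintype.card_fin, hQ] at this
      omega
    have hs := heis_center habs (QuotientGroup.eq.1 hfe)
    simp only [Subgroup.coe_mul, Subgroup.coe_inv] at hs
    obtain ⟨d, hd, hdq, hrd⟩ : ∃ d : ℕ, 0 < d ∧ d < q ∧ r⁻¹ * (t ^ d * r * (t ^ d)⁻¹) ∈ scalars (Fin 3) F := by
      rcases lt_or_gt_of_ne (fun e => hmn (Fin.ext e)) with h | h
      · refine ⟨n - m, by omega, by have := n.2; omega, ?_⟩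
        obtain ⟨c, hc⟩ := exists_sc hs
        have e1 : t ^ (n : ℕ) = t ^ (m : ℕ) * t ^ ((n : ℕ) - m) := by rw [← pow_add]; congr 1; omega
        rw [e1] at hc
        rw [show r⁻¹ * (t ^ ((n : ℕ) - m) * r * (t ^ ((n : ℕ) - m))⁻¹) = (t ^ (m : ℕ))⁻¹ * sc c * t ^ (m : ℕ) by
          rw [hc]; group, mul_assoc, sc_comm, ← mul_assoc, inv_mul_cancel, one_mul]
        exact sc_mem c
      · refine ⟨m - n, by omega, by have := m.2; omega, ?_⟩
        obtain ⟨c, hc⟩ := exists_sc ((scalars (Fin 3) F).inv_mem hs)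
        have e1 : t ^ (m : ℕ) = t ^ (n : ℕ) * t ^ ((m : ℕ) - n) := by rw [← pow_add]; congr 1; omega
        rw [e1] at hc
        rw [show r⁻¹ * (t ^ ((m : ℕ) - n) * r * (t ^ ((m : ℕ) - n))⁻¹) = (t ^ (n : ℕ))⁻¹ * sc c * t ^ (n : ℕ) by
          rw [hc]; group, mul_assoc, sc_comm, ← mul_assoc, inv_mul_cancel, one_mul]
        exact sc_mem c
    obtain ⟨c, hc⟩ := exists_sc hrd
    have hpow : ∀ i : ℕ, t ^ (d * i) * r * (t ^ (d * i))⁻¹ = r * sc c ^ i := by
      intro i
      induction i with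
      | zero => simp
      | succ i ih =>
        rw [Nat.mul_succ, pow_add, mul_inv_rev]
        calc t ^ (d * i) * t ^ d * r * ((t ^ d)⁻¹ * (t ^ (d * i))⁻¹)
            = t ^ (d * i) * (r * sc c) * (t ^ (d * i))⁻¹ := by rw [hc]; group
          _ = t ^ (d * i) * r * (t ^ (d * i))⁻¹ * sc c := by
              rw [show t ^ (d * i) * (r * sc c) * (t ^ (d * i))⁻¹ = t ^ (d * i) * r * (sc c * (t ^ (d * i))⁻¹) by group,
                sc_comm]
              group
          _ = r * sc c ^ (i + 1) := by rw [ih, mul_assoc, ← pow_succ]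
    obtain ⟨i, hi⟩ : ∃ i, d * i % q = 1 := by
      have hcop : Nat.Coprime d q :=
        ((Nat.Prime.coprime_iff_not_dvd hq).2 fun h => absurd (Nat.le_of_dvd hd h) (by omega)).symm
      obtain ⟨i, -, hi⟩ := Nat.exists_mul_mod_eq_one_of_coprime hcop (by omega : 1 < q)
      exact ⟨i, hi⟩
    have h1 := hpow i
    rw [show t ^ (d * i) = t by
      conv_lhs => rw [← Nat.mod_add_div (d * i) q, hi, pow_add, pow_mul, htq, one_pow, mul_one, pow_one]] at h1
    rw [h1, ← mul_assoc, inv_mul_cancel, one_mul]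
    exact (scalars (Fin 3) F).pow_mem (sc_mem c) i
  have hcomm : ∀ r ∈ R, t * r = r * t := by
    intro r hr
    obtain ⟨c, hc⟩ := exists_sc (hrel r hr)
    have hz3 : (sc c : GL (Fin 3) F) ^ 3 = 1 := heis_exponent hR (hc ▸ R.mul_mem (R.inv_mem hr) (by simpa using hconj r hr 1))
    have hpow : ∀ i : ℕ, t ^ i * r * (t ^ i)⁻¹ = r * sc c ^ i := by
      intro i
      induction i with
      | zero => simp
      | succ i ih =>
        rw [pow_succ' t, mul_inv_rev]
        calc t * t ^ i * r * ((t ^ i)⁻¹ * t⁻¹) = t * (t ^ i * r * (t ^ i)⁻¹) * t⁻¹ := by group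
          _ = t * r * (sc c ^ i * t⁻¹) := by rw [ih]; group
          _ = t * r * (t⁻¹ * sc c ^ i) := by rw [((Commute.pow_left (show Commute (sc c) t⁻¹ from sc_comm c _) i)).eq]
          _ = r * (r⁻¹ * (t * r * t⁻¹)) * sc c ^ i := by group
          _ = r * sc c ^ (i + 1) := by rw [← hc, mul_assoc, ← pow_succ']
    have hq1 := hpow q
    rw [htq, inv_one, one_mul, mul_one, left_eq_mul] at hq1
    have hcop : Nat.Coprime 3 q := (Nat.coprime_primes Nat.prime_three hq).2 (by omega)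
    have hc1 : (sc c : GL (Fin 3) F) = 1 := by
      have := pow_gcd_eq_one.2 ⟨hz3, hq1⟩
      rwa [show Nat.gcd 3 q = 1 from hcop, pow_one] at this
    rw [hc1, eq_inv_mul_iff_mul_eq, mul_one] at hc
    conv_rhs => rw [hc]
    group
  obtain ⟨c, hc⟩ := exists_sc (mem_scalars_of_comm habs hcomm)
  have he0 : e ≠ 0 := fun h => by rw [h, CfsgLib.Maximal.un_zero_left hf] at hef; exact zero_ne_one hef
  obtain ⟨y, hy⟩ := CfsgLib.Maximal.un_exists hf e he0
  have hye : h3 y e = 1 := by rw [hf.herm, hy, map_one]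
  have h1 := congrArg (fun g : GL (Fin 3) F => (g : Matrix (Fin 3) (Fin 3) F) *ᵥ y) hc
  have h2 := congrArg (fun g : GL (Fin 3) F => (g : Matrix (Fin 3) (Fin 3) F) *ᵥ e) hc
  simp only [sc_val, Matrix.smul_mulVec, Matrix.one_mulVec, ht, utv_apply hU he, he, hye, mul_zero, zero_smul, add_zero,
    mul_one] at h1 h2
  have hc1 : (c : F) = 1 := sub_eq_zero.1 ((smul_eq_zero.1 (show ((c : F) - 1) • e = 0 by
    rw [sub_smul, one_smul, h2, sub_self])).resolve_right he0)
  rw [hc1, one_smul, left_eq_add] at h1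
  exact smul_ne_zero hk0 he0 h1

/-- Orthonormal coordinates in which `3^{1+2}` is monomial, over the model of the field with 25 elements. -/
theorem heis_coords (hU : UForm 3 q τ) (hq : q = 5) {R : Subgroup (GL (Fin 3) F)}
    (hR : IsSymplecticTypeGroup 3 R) (habs : ActsAbsolutelyIrreducibly (matrixSet R)) (hGU : R ≤ GU 3 F q)
    (hcomm : ∀ x ∈ R, ∀ y ∈ R, x * y * x⁻¹ * y⁻¹ ∈ scalars (Fin 3) F)
    (hcard : Nat.card R = 27) (hcz : Nat.card (Subgroup.center R) = 3) :
    ∃ (ι : Q₅ → F) (P : GL (Fin 3) F), Model τ ι ∧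
      (coordJ τ (Equiv.refl (Fin 3)) P (1 : GL (Fin 3) F) : Matrix (Fin 3) (Fin 3) F) = 1 ∧
      (∀ r ∈ R, ∃ t, ((P⁻¹ * r * P : GL (Fin 3) F) : Matrix (Fin 3) (Fin 3) F) =
        Matrix.of fun i j => ι (heisMat t i j)) ∧
      ∀ t, ∃ r ∈ R, ((P⁻¹ * r * P : GL (Fin 3) F) : Matrix (Fin 3) (Fin 3) F) =
        Matrix.of fun i j => ι (heisMat t i j) := by
  classical
  have hf := unitaryForm hU
  haveI : Fact (Nat.Prime 5) := ⟨by norm_num⟩
  haveI : CharP F 5 := hq ▸ charP_of_prime hU (by rw [hq]; norm_num)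
  have h5 : (5 : F) = 0 := by exact_mod_cast CharP.cast_eq_zero F 5
  haveI : Finite R := Nat.finite_of_card_ne_zero (by rw [hcard]; norm_num)
  -- two elements with a non-trivial commutator
  obtain ⟨x, hx, y, hy, hxy⟩ : ∃ x ∈ R, ∃ y ∈ R, x * y ≠ y * x := by
    by_contra hcon
    push Not at hcon
    have htop : Subgroup.center R = ⊤ := eq_top_iff.2 fun a _ => Subgroup.mem_center_iff.2 fun b =>
      Subtype.ext (hcon b b.2 a a.2)
    rw [htop, Subgroup.card_top, hcard] at hcz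
    norm_num at hcz
  obtain ⟨z, hz⟩ := exists_sc (hcomm x hx y hy)
  have hzR : (sc z : GL (Fin 3) F) ∈ R := hz ▸ R.mul_mem (R.mul_mem (R.mul_mem hx hy) (R.inv_mem hx)) (R.inv_mem hy)
  set ω : F := (z : F) with hωdef
  have hω3 : ω ^ 3 = 1 := by
    have h := congrArg (fun g : GL (Fin 3) F => (g : Matrix (Fin 3) (Fin 3) F) 0 0) (heis_exponent hR hzR)
    simpa [← map_pow, sc_val, pow_succ, hωdef, mul_assoc] using h
  have hω1 : ω ≠ 1 := fun h => hxy (by
    have h' : z = 1 := Units.ext h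
    rw [h', sc_one, eq_comm, mul_inv_eq_one, mul_inv_eq_iff_eq_mul] at hz
    exact hz)
  have hω : ω ^ 2 + ω + 1 = 0 := (mul_eq_zero.1 (show (ω - 1) * (ω ^ 2 + ω + 1) = 0 by
    linear_combination hω3)).resolve_left (sub_ne_zero.2 hω1)
  have hωτ : τ ω = ω ^ 2 := by
    rw [hU.pow, hq]; linear_combination (ω ^ 2) * hω3
  set θ := 3 * (ω - 2) with hθdef
  have hθ2 : θ ^ 2 = 2 := by rw [hθdef]; linear_combination 9 * hω + (-9 * ω + 5) * h5
  obtain ⟨ι, hι, hι01⟩ := model_exists hU hq (by norm_num) hθ2 (by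
    rw [hθdef, map_mul, map_sub, hωτ, map_ofNat, map_ofNat]
    linear_combination 3 * hω - 3 * h5)
  have hιn : ∀ n : ℕ, ι ((n : ZMod 5), 0) = (n : F) := fun n => by
    induction n with
    | zero => rw [Nat.cast_zero, Nat.cast_zero]; exact hι.zero
    | succ n ih =>
      rw [Nat.cast_succ, Nat.cast_succ, ← ih, ← hι.one, ← hι.add]
      congr 1
  have hιω : ι (2, 2) = ω := by
    rw [cubePow_eqs.1, hι.add, hι.mul, hι01,
      show ι (2, 0) = 2 from by exact_mod_cast hιn 2, hθdef]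
    linear_combination (ω - 2) * h5
  have hιpow : ∀ a : Fin 3, ι (cubePow a) = ω ^ (a : ℕ) := fun a => by
    fin_cases a
    · simp [cubePow, hι.one]
    · simp [cubePow, hιω]
    · show ι (2, 3) = ω ^ 2
      rw [cubePow_eqs.2, hι.mul, hιω, sq]
  -- an eigenvector
  set Xm := (x : Matrix (Fin 3) (Fin 3) F) with hXm
  set Ym := (y : Matrix (Fin 3) (Fin 3) F) with hYm
  have hXY : ∀ v, Xm *ᵥ (Ym *ᵥ v) = ω • (Ym *ᵥ (Xm *ᵥ v)) := fun v => by
    have e : x * y = sc z * (y * x) := by rw [hz]; group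
    rw [Matrix.mulVec_mulVec, hXm, hYm, ← Units.val_mul, e, sc_mul_val, Matrix.smul_mulVec, Units.val_mul,
      ← Matrix.mulVec_mulVec]
  have hX3 : ∀ v, Xm *ᵥ (Xm *ᵥ (Xm *ᵥ v)) = v := fun v => by
    rw [Matrix.mulVec_mulVec, Matrix.mulVec_mulVec, hXm, ← Units.val_mul, ← Units.val_mul,
      show x * x * x = x ^ 3 by simp [pow_succ], heis_exponent hR hx, Units.val_one, Matrix.one_mulVec]
  have hY3 : ∀ v, Ym *ᵥ (Ym *ᵥ (Ym *ᵥ v)) = v := fun v => by
    rw [Matrix.mulVec_mulVec, Matrix.mulVec_mulVec, hYm, ← Units.val_mul, ← Units.val_mul,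
      show y * y * y = y ^ 3 by simp [pow_succ], heis_exponent hR hy, Units.val_one, Matrix.one_mulVec]
  have h3ne : (3 : F) ≠ 0 := fun h => one_ne_zero (show (1 : F) = 0 by linear_combination 2 * h - h5)
  obtain ⟨u, k, hu0, huk⟩ : ∃ (u : Fin 3 → F) (k : ℕ), u ≠ 0 ∧ k < 3 ∧ Xm *ᵥ u = ω ^ k • u := by
    set v : Fin 3 → F := Pi.single 0 1
    have hv : v ≠ 0 := by simp [v]
    let pr : F → Fin 3 → F := fun l => v + l • (Xm *ᵥ v) + l ^ 2 • (Xm *ᵥ (Xm *ᵥ v))
    have hpr : ∀ l, l ^ 3 = 1 → Xm *ᵥ pr l = l ^ 2 • pr l := fun l hl => by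
      simp only [pr, Matrix.mulVec_add, Matrix.mulVec_smul, hX3, smul_add, smul_smul]
      rw [show l ^ 2 * l = 1 by linear_combination hl, show l ^ 2 * l ^ 2 = l by linear_combination l * hl, one_smul]
      abel
    by_cases h1 : pr 1 ≠ 0
    · exact ⟨pr 1, 0, h1, by norm_num, by rw [hpr 1 (one_pow 3)]; simp⟩
    by_cases h2 : pr ω ≠ 0
    · exact ⟨pr ω, 2, h2, by norm_num, hpr ω hω3⟩
    by_cases h3' : pr (ω ^ 2) ≠ 0
    · refine ⟨pr (ω ^ 2), 1, h3', by norm_num, ?_⟩
      rw [hpr _ (by rw [← pow_mul]; linear_combination (ω ^ 3 + 1) * hω3)]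
      congr 1
      linear_combination ω * hω3
    exfalso
    push Not at h1 h2 h3'
    apply hv
    have hsum : (3 : F) • v = pr 1 + pr ω + pr (ω ^ 2) := by
      simp only [pr]
      rw [show (ω ^ 2) ^ 2 = ω by linear_combination ω * hω3]
      linear_combination (norm := module) -(hω • (Xm *ᵥ v)) - (hω • (Xm *ᵥ (Xm *ᵥ v)))
    rw [h1, h2, h3', add_zero, add_zero] at hsum
    exact (smul_eq_zero.1 hsum).resolve_left h3ne
  obtain ⟨v₀, hv₀0, hv₀⟩ : ∃ v₀ : Fin 3 → F, v₀ ≠ 0 ∧ Xm *ᵥ v₀ = v₀ := by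
    obtain ⟨hk, huk⟩ := huk
    have hYne : ∀ w : Fin 3 → F, w ≠ 0 → Ym *ᵥ w ≠ 0 := fun w hw h =>
      hw (Matrix.mulVec_injective_of_isUnit y.isUnit (by rw [Matrix.mulVec_zero]; exact h))
    interval_cases k
    · exact ⟨u, hu0, by rw [huk, pow_zero, one_smul]⟩
    · refine ⟨Ym *ᵥ (Ym *ᵥ u), hYne _ (hYne _ hu0), ?_⟩
      rw [hXY, hXY, huk, Matrix.mulVec_smul, Matrix.mulVec_smul, Matrix.mulVec_smul, smul_smul, smul_smul,
        show ω * ω * ω ^ 1 = 1 by linear_combination hω3, one_smul]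
    · refine ⟨Ym *ᵥ u, hYne _ hu0, ?_⟩
      rw [hXY, huk, Matrix.mulVec_smul, smul_smul, show ω * ω ^ 2 = 1 by linear_combination hω3, one_smul]
  let zz : Fin 3 → Fin 3 → F := ![v₀, Ym *ᵥ v₀, Ym *ᵥ (Ym *ᵥ v₀)]
  have hzX : ∀ i, Xm *ᵥ zz i = ω ^ (i : ℕ) • zz i := by
    intro i
    fin_cases i
    · simp [zz, hv₀]
    · simp [zz, hXY, hv₀]
    · show Xm *ᵥ (Ym *ᵥ (Ym *ᵥ v₀)) = ω ^ 2 • (Ym *ᵥ (Ym *ᵥ v₀))
      rw [hXY, hXY, hv₀, Matrix.mulVec_smul, smul_smul, sq]
  have hzY : ∀ i, Ym *ᵥ zz i = zz (i + 1) := by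
    intro i
    fin_cases i
    · rfl
    · rfl
    · exact hY3 v₀
  have hisoR : ∀ r ∈ R, ∀ u v, h3 ((r : Matrix (Fin 3) (Fin 3) F) *ᵥ u) ((r : Matrix (Fin 3) (Fin 3) F) *ᵥ v) = h3 u v :=
    fun r hr => hGU hr
  have horth : ∀ i j, i ≠ j → h3 (zz i) (zz j) = 0 := by
    intro i j hij
    have h := hisoR x hx (zz i) (zz j)
    rw [← hXm, hzX, hzX, hf.smul_left, CfsgLib.Maximal.un_smul_right hf, map_pow, hωτ] at h
    have hne : ω ^ (i : ℕ) * (ω ^ 2) ^ (j : ℕ) ≠ 1 := by
      rw [← pow_mul, ← pow_add, pow_eq_pow_mod _ hω3]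
      have : ((i : ℕ) + 2 * j) % 3 = 1 ∨ ((i : ℕ) + 2 * j) % 3 = 2 := by
        have := Fin.val_ne_of_ne hij
        omega
      rcases this with e | e <;> rw [e]
      · rwa [pow_one]
      · exact fun h2 => hω1 (by linear_combination hω3 - ω * h2)
    have h' : (ω ^ (i : ℕ) * (ω ^ 2) ^ (j : ℕ) - 1) * h3 (zz i) (zz j) = 0 := by linear_combination h
    exact (mul_eq_zero.1 h').resolve_left (sub_ne_zero.2 hne)
  set d := h3 v₀ v₀ with hd
  have hnorm : ∀ i, h3 (zz i) (zz i) = d := by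
    intro i
    fin_cases i
    · rfl
    · exact hisoR y hy _ _
    · exact (hisoR y hy _ _).trans (hisoR y hy _ _)
  have hd0 : d ≠ 0 := fun h0 => by
    have hli : LinearIndependent F zz := by
      refine Fintype.linearIndependent_iff.2 fun c hc => ?_
      have e1 := congrArg (Xm *ᵥ ·) hc
      have e2 := congrArg (Xm *ᵥ ·) e1
      simp only [Fin.sum_univ_three, Matrix.mulVec_add, Matrix.mulVec_smul, hzX, Matrix.mulVec_zero, smul_smul] at hc e1 e2
      have hz0 : ∀ i, zz i ≠ 0 := by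
        intro i
        have hYne : ∀ w : Fin 3 → F, w ≠ 0 → Ym *ᵥ w ≠ 0 := fun w hw h =>
          hw (Matrix.mulVec_injective_of_isUnit y.isUnit (by rw [Matrix.mulVec_zero]; exact h))
        fin_cases i
        exacts [hv₀0, hYne _ hv₀0, hYne _ (hYne _ hv₀0)]
      intro i
      have key : (3 * c i) • zz i = 0 := by
        funext j
        have a0 := congrFun hc j
        have a1 := congrFun e1 j
        have a2 := congrFun e2 j
        simp only [Pi.add_apply, Pi.smul_apply, Pi.zero_apply, smul_eq_mul, Fin.val_zero, Fin.val_one, Fin.val_two,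
          pow_zero, pow_one, mul_one] at a0 a1 a2 ⊢
        fin_cases i <;> simp only [Fin.zero_eta, Fin.mk_one, Fin.reduceFinMk]
        · linear_combination a0 + a1 + a2 - c 1 * zz 1 j * hω - c 2 * zz 2 j * hω - c 2 * zz 2 j * ω * hω3
        · linear_combination a0 + ω ^ 2 * a1 + ω * a2 - c 0 * zz 0 j * hω - c 2 * zz 2 j * hω -
            c 2 * zz 2 j * (ω + ω ^ 2) * hω3 - 2 * c 1 * zz 1 j * hω3
        · linear_combination a0 + ω * a1 + ω ^ 2 * a2 - c 0 * zz 0 j * hω - c 1 * zz 1 j * hω -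
            c 1 * zz 1 j * ω * hω3 - c 2 * zz 2 j * (ω ^ 3 + 2) * hω3
      exact (mul_eq_zero.1 ((smul_eq_zero.1 key).resolve_right (hz0 i))).resolve_left h3ne
    obtain ⟨w, hw⟩ := CfsgLib.Maximal.un_exists hf v₀ hv₀0
    have hsp : w ∈ Submodule.span F (Set.range zz) := by
      rw [hli.span_eq_top_of_card_eq_finrank' (by simp)]; trivial
    obtain ⟨c, rfl⟩ := Submodule.mem_span_range_iff_exists_fun F |>.1 hsp
    simp only [Fin.sum_univ_three, CfsgLib.Maximal.un_add_right hf, CfsgLib.Maximal.un_smul_right hf] at hw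
    rw [show h3 v₀ (zz 0) = 0 from h0, show h3 v₀ (zz 1) = 0 from horth 0 1 (by decide),
      show h3 v₀ (zz 2) = 0 from horth 0 2 (by decide), mul_zero, mul_zero, mul_zero, add_zero, add_zero] at hw
    exact zero_ne_one hw
  obtain ⟨s, hs⟩ := exists_norm hU.ne hU.invol (e := d⁻¹) (by rw [map_inv₀, hd, ← hf.herm])
  have hs0 : s ≠ 0 := fun e => by rw [e, zero_mul] at hs; exact inv_ne_zero hd0 hs.symm
  obtain ⟨P, hcol, hJ⟩ := exists_coords hU.geom (Equiv.refl (Fin 3)) (fun i => s • zz i) isUnit_one fun i j => by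
    rw [hf.smul_left, CfsgLib.Maximal.un_smul_right hf, ← mul_assoc, hs]
    rcases eq_or_ne i j with rfl | hij
    · rw [hnorm, inv_mul_cancel₀ hd0, Matrix.one_apply_eq]
    · rw [horth i j hij, mul_zero, Matrix.one_apply_ne hij]
  -- the monomial elements
  have hXn : ∀ n : ℕ, ∀ i, ((x ^ n : GL (Fin 3) F) : Matrix (Fin 3) (Fin 3) F) *ᵥ zz i =
      (ω ^ (i : ℕ)) ^ n • zz i := by
    intro n i
    induction n with
    | zero => simp
    | succ n ih => rw [pow_succ' x, Units.val_mul, ← Matrix.mulVec_mulVec, ih, Matrix.mulVec_smul, ← hXm, hzX,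
        smul_smul, ← pow_succ]
  have hYn : ∀ c : Fin 3, ∀ i, ((y ^ (c : ℕ) : GL (Fin 3) F) : Matrix (Fin 3) (Fin 3) F) *ᵥ zz i = zz (i + c) := by
    intro c i
    fin_cases c
    · simp
    · simp [← hYm, hzY]
    · show ((y ^ 2 : GL (Fin 3) F) : Matrix (Fin 3) (Fin 3) F) *ᵥ zz i = zz (i + 2)
      rw [sq, Units.val_mul, ← Matrix.mulVec_mulVec, ← hYm, hzY, hzY, add_assoc]; rfl
  let el : Fin 3 × Fin 3 × Fin 3 → GL (Fin 3) F := fun t =>
    sc z ^ (t.1 : ℕ) * x ^ (t.2.1 : ℕ) * y ^ (t.2.2 : ℕ)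
  have helR : ∀ t, el t ∈ R := fun t =>
    R.mul_mem (R.mul_mem (R.pow_mem hzR _) (R.pow_mem hx _)) (R.pow_mem hy _)
  have hel : ∀ t, ((P⁻¹ * el t * P : GL (Fin 3) F) : Matrix (Fin 3) (Fin 3) F) =
      Matrix.of fun i j => ι (heisMat t i j) := by
    intro t
    rw [← coordR_refl]
    refine coordR_of_cols _ P hcol fun p => ?_
    rw [Finset.sum_eq_single (p + t.2.2)]
    · rw [Matrix.mulVec_smul]
      have e1 : ((el t : GL (Fin 3) F) : Matrix (Fin 3) (Fin 3) F) *ᵥ zz p =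
          (ω ^ (t.1 : ℕ) * (ω ^ ((p + t.2.2 : Fin 3) : ℕ)) ^ (t.2.1 : ℕ)) • zz (p + t.2.2) := by
        simp only [el, Units.val_mul, ← Matrix.mulVec_mulVec, hYn, hXn, Matrix.mulVec_smul]
        rw [Units.val_pow_eq_pow_val, sc_val, smul_pow, one_pow, Matrix.smul_mulVec, Matrix.one_mulVec, smul_smul,
          mul_comm]
      rw [e1, Matrix.of_apply, heisMat, if_pos rfl, hιpow, smul_comm]
      congr 1
      rw [← pow_mul, ← pow_add]
      generalize p + t.2.2 = r
      rw [pow_eq_pow_mod _ hω3, Fin.val_add, Fin.val_mul, Nat.add_mod_mod, mul_comm]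
    · intro r _ hr
      simp [heisMat, hr, hι.zero]
    · simp
  refine ⟨ι, P, hι, hJ, fun r hr => ?_, fun t => ⟨el t, helR t, hel t⟩⟩
  let φ : Fin 3 × Fin 3 × Fin 3 → R := fun t => ⟨el t, helR t⟩
  have hφ : Function.Injective φ := fun a b e => heis_inj a b fun i j => by
    have h := congrArg (fun g : R => ((P⁻¹ * (g : GL (Fin 3) F) * P : GL (Fin 3) F) : Matrix (Fin 3) (Fin 3) F) i j) e
    simp only [φ, hel, Matrix.of_apply] at h
    exact hι.eq_iff.1 h
  obtain ⟨t, ht⟩ := (hφ.bijective_of_nat_card_le (by rw [hcard]; simp)).2 ⟨r, hr⟩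
  refine ⟨t, ?_⟩
  rw [← hel, show el t = r from congrArg Subtype.val ht]

/-- The 45 points. -/
def SSix (τ : F ≃+* F) (ι : Q₅ → F) : Set (Fin 3 → F) :=
  {x | let h := ∑ i, x i * τ (x i)
    let b : Fin 12 → F := fun k => ∑ i, x i * τ (ι (twelve k i))
    h ≠ 0 ∧ ((∃ s : Finset (Fin 12), s.card = 4 ∧ ∀ k, k ∈ s ↔ b k = 0) ∨
      ((∃ s : Finset (Fin 12), s.card = 2 ∧ ∀ k, k ∈ s ↔ b k * τ (b k) = h) ∧
        ∀ k l, k ≠ l → b k * τ (b k) = h → b l * τ (b l) = h →
          ((Matrix.of ![x, fun i => ι (twelve k i), fun i => ι (twelve l i)]).det * (b k * b l)) ^ 2 = -h))}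

theorem ssix_iff {ι : Q₅ → F} (h : Model τ ι) (x : Fin 3 → Q₅) : (fun i => ι (x i)) ∈ SSix τ ι ↔ PmSix x := by
  have hform : ∀ y : Fin 3 → Q₅, ∑ i, ι (x i) * τ (ι (y i)) = ι (qForm qId x y) := fun y => by
    rw [← h.form, qId_map h]
    simp [formOfGram, Fin.sum_univ_three, Matrix.one_apply]
  have hdet : ∀ a b : Fin 12, (Matrix.of ![fun i => ι (x i), fun i => ι (twelve a i), fun i => ι (twelve b i)]).det =
      ι (qDet ![x, twelve a, twelve b]) := fun a b => by
    rw [← h.det]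
    congr 1
    ext i j
    fin_cases i <;> rfl
  simp only [SSix, Set.mem_setOf_eq, hform, hdet]
  simp only [PmSix, sq, ← h.bar, ← h.mul, ← h.neg, h.eq_iff, h.eq_zero, ne_eq]
  refine and_congr Iff.rfl (or_congr ⟨?_, fun hc => ⟨_, hc, fun k => by simp⟩⟩ (and_congr ⟨?_, fun hc => ⟨_, hc, fun k => by simp⟩⟩ Iff.rfl))
  · rintro ⟨s, hs, hmem⟩
    rw [← hs]; congr 1; ext k; simp [hmem]
  · rintro ⟨s, hs, hmem⟩
    rw [← hs]; congr 1; ext k; simp [hmem]

/-- In `SU₃(5)` a maximal subgroup does not normalise `3^{1+2}`. -/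
theorem heis_five (hU : UForm 3 q τ) (hq : q = 5) {H : Subgroup (GL (Fin 3) F)}
    (hH : IsMaximalIn (GU 3 F q ⊓ specialLinear (Fin 3) F) H) {R : Subgroup (GL (Fin 3) F)}
    (hR : IsSymplecticTypeGroup 3 R) (habs : ActsAbsolutelyIrreducibly (matrixSet R)) (hGU : R ≤ GU 3 F q)
    (hcomm : ∀ x ∈ R, ∀ y ∈ R, x * y * x⁻¹ * y⁻¹ ∈ scalars (Fin 3) F)
    (hcard : Nat.card R = 27) (hcz : Nat.card (Subgroup.center R) = 3) : ¬ H ≤ subgroupNormalizer R := by
  classical
  intro hle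
  obtain ⟨ι, P, hι, hJ, hRt, htR⟩ := heis_coords hU hq hR habs hGU hcomm hcard hcz
  let W : Fin 12 → Fin 3 → F := fun k i => ι (twelve k i)
  have hNiso : ∀ g ∈ H, ∀ u v : Fin 3 → F,
      ∑ i, (((P⁻¹ * g * P : GL (Fin 3) F) : Matrix (Fin 3) (Fin 3) F) *ᵥ u) i *
        τ ((((P⁻¹ * g * P : GL (Fin 3) F) : Matrix (Fin 3) (Fin 3) F) *ᵥ v) i) = ∑ i, u i * τ (v i) := by
    intro g hg u v
    have hkey : ∀ a b : Fin 3 → F, h3 ((P : Matrix (Fin 3) (Fin 3) F) *ᵥ a) ((P : Matrix (Fin 3) (Fin 3) F) *ᵥ b) =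
        ∑ i, a i * τ (b i) := fun a b => by
      have h1 := coord_form hU.geom (Equiv.refl (Fin 3)) P a b
      simp only [Equiv.coe_refl, Function.comp_id] at h1
      rw [h1, hJ]
      simp [formOfGram, Matrix.one_apply]
    rw [← hkey, ← hkey, Matrix.mulVec_mulVec, Matrix.mulVec_mulVec, ← Units.val_mul,
      show P * (P⁻¹ * g * P) = g * P by group, Units.val_mul, ← Matrix.mulVec_mulVec, ← Matrix.mulVec_mulVec]
    exact (hH.1.le hg).1 _ _
  have hperm : ∀ g ∈ H, ∃ (π : Equiv.Perm (Fin 12)) (μ : Fin 12 → F), (∀ k, μ k * τ (μ k) = 1) ∧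
      ∀ k, ((P⁻¹ * g * P : GL (Fin 3) F) : Matrix (Fin 3) (Fin 3) F) *ᵥ W k = μ k • W (π k) := by
    intro g hg
    set N := ((P⁻¹ * g * P : GL (Fin 3) F) : Matrix (Fin 3) (Fin 3) F) with hN
    have hWn : ∀ k, ∑ i, W k i * τ (W k i) = 1 := fun k => by
      have h1 := hι.form qId (twelve k) (twelve k)
      rw [qId_map hι, twelve_norm, hι.one] at h1
      rw [← h1]
      simp [formOfGram, Matrix.one_apply, W]
    have key : ∀ k, ∃ (l : Fin 12) (μ : F), N *ᵥ W k = μ • W l := by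
      intro k
      obtain ⟨b, c, m, hbc, heig⟩ := twelve_eigen k
      obtain ⟨r, hr, hrm⟩ := htR (0, b, c)
      obtain ⟨⟨a', b', c'⟩, hr'⟩ := hRt _ ((Subgroup.mem_normalizer_iff.1 (hle hg) r).1 hr)
      have hconj : (Matrix.of fun i j => ι (heisMat (a', b', c') i j)) * N =
          N * Matrix.of fun i j => ι (heisMat (0, b, c) i j) := by
        rw [← hr', ← hrm, hN, ← Units.val_mul, ← Units.val_mul]
        congr 1
        group
      have hb' : b' ≠ 0 ∨ c' ≠ 0 := by
        by_contra hcon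
        push Not at hcon
        obtain ⟨rfl, rfl⟩ := hcon
        have hsc : (Matrix.of fun i j => ι (heisMat (a', 0, 0) i j) : Matrix (Fin 3) (Fin 3) F) =
            ι (cubePow a') • 1 := by
          ext i j
          rw [Matrix.of_apply, heis_scalar, Matrix.smul_apply, Matrix.one_apply, smul_eq_mul, apply_ite ι, hι.zero,
            mul_ite, mul_one, mul_zero]
        rw [hsc, Matrix.smul_mul, one_mul, ← mul_one N, ← Matrix.mul_smul, mul_one] at hconj
        have h1 := (P⁻¹ * g * P).isUnit.mul_left_cancel hconj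
        rw [← hsc] at h1
        have h2 := heis_inj (a', 0, 0) (0, b, c) fun i j => hι.eq_iff.1 (congrFun (congrFun h1 i) j)
        simp only [Prod.mk.injEq] at h2
        rcases hbc with h | h
        · exact h h2.2.1.symm
        · exact h h2.2.2.symm
      have himg : (Matrix.of fun i j => ι (heisMat (a', b', c') i j)) *ᵥ (N *ᵥ W k) = ι (cubePow m) • (N *ᵥ W k) := by
        rw [Matrix.mulVec_mulVec, hconj, ← Matrix.mulVec_mulVec, hι.apply,
          show (fun i => ι (qApply (heisMat (0, b, c)) (twelve k) i)) = ι (cubePow m) • W k from funext fun i => by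
            rw [heig i, hι.mul]; rfl, Matrix.mulVec_smul]
      have hne : N *ᵥ W k ≠ 0 := fun h0 => by
        have h1 := hWn k
        rw [Matrix.mulVec_injective_of_isUnit (P⁻¹ * g * P).isUnit (h0.trans (Matrix.mulVec_zero _).symm)] at h1
        simp at h1
      obtain ⟨l, t, hl, hrep⟩ := exists_rep hι hne
      rw [hrep, Matrix.mulVec_smul, hι.apply, smul_comm] at himg
      have himg' := smul_right_injective _ hl himg
      have hshift : ∀ i, qApply (heisMat (0, b', c')) (qRep t) i = qMul (cubePow (m - a')) (qRep t i) := by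
        intro i
        refine hι.eq_iff.1 ?_
        have h1 := congrFun himg' i
        simp only [Pi.smul_apply, smul_eq_mul] at h1
        have e : ∀ i j, heisMat (a', b', c') i j = qMul (cubePow a') (heisMat (0, b', c') i j) := by
          intro i j
          simp only [heisMat]
          split_ifs
          · rw [cubePow_add, zero_add]
          · exact Prod.ext (by simp [qMul]) (by simp [qMul])
        have h2 : ι (qApply (heisMat (a', b', c')) (qRep t) i) = ι (cubePow a') * ι (qApply (heisMat (0, b', c')) (qRep t) i) := by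
          simp only [qApply, e, hι.add, hι.mul]; ring
        rw [h2, show cubePow m = qMul (cubePow a') (cubePow (m - a')) by rw [cubePow_add]; congr 1; abel, hι.mul,
          mul_assoc] at h1
        rw [hι.mul]
        refine mul_left_cancel₀ (fun h0 => ?_) h1
        have : ∀ a, cubePow a ≠ 0 := by decide
        exact this a' (hι.eq_zero.1 h0)
      obtain ⟨k', hk'⟩ := heis_eigen b' c' hb' (m - a') t hshift
      obtain ⟨i, hi⟩ : ∃ i, W k' i ≠ 0 := by
        by_contra hcon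
        push Not at hcon
        have h1 := hWn k'
        simp [hcon] at h1
      refine ⟨k', l * (ι (qRep t i) / W k' i), ?_⟩
      rw [hrep, mul_smul]
      congr 1
      funext j
      have h1 := congrArg ι (hk' j i)
      rw [hι.mul, hι.mul] at h1
      simp only [Pi.smul_apply, smul_eq_mul, W] at hi ⊢
      field_simp
      linear_combination h1
    choose π μ hπ using key
    have hμ : ∀ k, μ k * τ (μ k) = 1 := fun k => by
      have h1 := hNiso g hg (W k) (W k)
      rw [← hN, hπ, hWn] at h1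
      simp only [Pi.smul_apply, smul_eq_mul, map_mul, Fin.sum_univ_three] at h1
      have h2 := hWn (π k)
      rw [Fin.sum_univ_three] at h2
      linear_combination h1 - μ k * τ (μ k) * h2
    have hinj : Function.Injective π := fun a b e => by
      by_contra hne
      obtain ⟨i, j, hij⟩ := twelve_distinct a b hne
      refine hij (hι.eq_iff.1 ?_)
      have h1 : μ b • (N *ᵥ W a) = μ a • (N *ᵥ W b) := by rw [hπ, hπ, e, smul_comm]
      rw [← Matrix.mulVec_smul, ← Matrix.mulVec_smul] at h1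
      have h2 := Matrix.mulVec_injective_of_isUnit (P⁻¹ * g * P).isUnit h1
      have hi := congrFun h2 i
      have hj := congrFun h2 j
      simp only [Pi.smul_apply, smul_eq_mul, W] at hi hj
      have hb0 : μ b ≠ 0 := fun h0 => by simpa [h0] using hμ b
      rw [hι.mul, hι.mul]
      refine mul_left_cancel₀ hb0 ?_
      linear_combination ι (twelve b j) * hi - ι (twelve b i) * hj
    exact ⟨Equiv.ofBijective π (Finite.injective_iff_bijective.1 hinj), μ, hμ, hπ⟩
  obtain ⟨hM1, hMd, hM3⟩ := sixExtra_facts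
  obtain ⟨h0, ha, hx₀, hy⟩ := six_witness
  refine config_not_maximal hU hH hι P qId (hJ.trans (qId_map hι).symm) (SSix τ ι) PmSix (ssix_iff hι) ?_ h0 ?_
    sixExtra hM1 hMd sixExtra_stable ?_ _ _ ha hx₀ hy
  · intro l x hl hx
    have hn : l * τ l ≠ 0 := mul_ne_zero hl (τ.map_ne_zero_iff.2 hl)
    have hh : ∑ i, (l • x) i * τ ((l • x) i) = (l * τ l) * ∑ i, x i * τ (x i) := by
      rw [Finset.mul_sum]
      exact Finset.sum_congr rfl fun i _ => by rw [Pi.smul_apply, smul_eq_mul, map_mul]; ring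
    have hb : ∀ w : Fin 3 → F, ∑ i, (l • x) i * τ (w i) = l * ∑ i, x i * τ (w i) := fun w => by
      rw [Finset.mul_sum]
      exact Finset.sum_congr rfl fun i _ => by rw [Pi.smul_apply, smul_eq_mul, mul_assoc]
    have hd : ∀ y w : Fin 3 → F, (Matrix.of ![l • x, y, w]).det = l * (Matrix.of ![x, y, w]).det := fun y w => by
      simp [Matrix.det_fin_three]; ring
    have hl6 : l ^ 6 = l * τ l := by rw [hU.pow, hq]; ring
    obtain ⟨h0', hc⟩ := hx
    refine ⟨by rw [hh]; exact mul_ne_zero hn h0', ?_⟩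
    simp only [hh, hb, hd]
    rcases hc with ⟨s, hs, hmem⟩ | ⟨⟨s, hs, hmem⟩, hD⟩
    · exact Or.inl ⟨s, hs, fun k => (hmem k).trans (by simp [hl])⟩
    · have hiff : ∀ k, (l * ∑ i, x i * τ (ι (twelve k i))) * τ (l * ∑ i, x i * τ (ι (twelve k i))) =
          (l * τ l) * ∑ i, x i * τ (x i) ↔
          (∑ i, x i * τ (ι (twelve k i))) * τ (∑ i, x i * τ (ι (twelve k i))) = ∑ i, x i * τ (x i) := fun k => by
        rw [map_mul, mul_mul_mul_comm]
        exact ⟨fun e => mul_left_cancel₀ hn e, fun e => by rw [e]⟩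
      refine Or.inr ⟨⟨s, hs, fun k => (hmem k).trans (hiff k).symm⟩, fun k k' hne hk hk' => ?_⟩
      have := hD k k' hne ((hiff k).1 hk) ((hiff k').1 hk')
      linear_combination l ^ 6 * this - (∑ i, x i * τ (x i)) * hl6
  · intro g hg x hx
    obtain ⟨π, μ, hμ, hπ⟩ := hperm g hg
    set N := ((P⁻¹ * g * P : GL (Fin 3) F) : Matrix (Fin 3) (Fin 3) F) with hN
    have hh : ∑ i, (N *ᵥ x) i * τ ((N *ᵥ x) i) = ∑ i, x i * τ (x i) := hNiso g hg x x
    have hb : ∀ k, ∑ i, (N *ᵥ x) i * τ (W (π k) i) = μ k * ∑ i, x i * τ (W k i) := fun k => by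
      have h1 := hNiso g hg x (W k)
      rw [← hN, hπ] at h1
      rw [← h1, Finset.mul_sum]
      refine Finset.sum_congr rfl fun i _ => ?_
      rw [Pi.smul_apply, smul_eq_mul, map_mul]
      linear_combination -((N *ᵥ x) i * τ (W (π k) i)) * hμ k
    have hdetN : N.det = 1 := by rw [hN, ← coordR_refl, det_frame]; exact val_det_one (hH.1.le hg).2
    have hd : ∀ k l, μ k * μ l * (Matrix.of ![N *ᵥ x, W (π k), W (π l)]).det =
        (Matrix.of ![x, W k, W l]).det := fun k l => by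
      have h1 : Matrix.of ![N *ᵥ x, μ k • W (π k), μ l • W (π l)] = Matrix.of ![x, W k, W l] * Nᵀ := by
        rw [← hπ, ← hπ]
        ext i j
        fin_cases i <;> simp [Matrix.mul_apply, Matrix.mulVec, dotProduct, mul_comm]
      have h2 := congrArg Matrix.det h1
      rw [Matrix.det_mul, Matrix.det_transpose, hdetN, mul_one] at h2
      rw [← h2]
      simp [Matrix.det_fin_three]; ring
    have hbk : ∀ k, (∑ i, (N *ᵥ x) i * τ (W (π k) i)) * τ (∑ i, (N *ᵥ x) i * τ (W (π k) i)) =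
        (∑ i, x i * τ (W k i)) * τ (∑ i, x i * τ (W k i)) := fun k => by
      rw [hb, map_mul, mul_mul_mul_comm, hμ, one_mul]
    obtain ⟨h0', hc⟩ := hx
    refine ⟨by rwa [hh], ?_⟩
    simp only [hh]
    rcases hc with ⟨s, hs, hmem⟩ | ⟨⟨s, hs, hmem⟩, hD⟩
    · refine Or.inl ⟨s.map π.toEmbedding, by rw [Finset.card_map, hs], fun j => ?_⟩
      obtain ⟨k, rfl⟩ := π.surjective j
      rw [Finset.mem_map_equiv, Equiv.symm_apply_apply, hmem, hb, mul_eq_zero]
      have hμ0 : μ k ≠ 0 := fun h0 => by simpa [h0] using hμ k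
      simp [hμ0, W]
    · refine Or.inr ⟨⟨s.map π.toEmbedding, by rw [Finset.card_map, hs], fun j => ?_⟩, fun j j' hne hj hj' => ?_⟩
      · obtain ⟨k, rfl⟩ := π.surjective j
        rw [Finset.mem_map_equiv, Equiv.symm_apply_apply, hmem]
        exact iff_of_eq (congrArg (· = _) (hbk k).symm)
      · obtain ⟨k, rfl⟩ := π.surjective j
        obtain ⟨l, rfl⟩ := π.surjective j'
        have := hD k l (fun e => hne (e ▸ rfl)) ((hbk k).symm.trans hj) ((hbk l).symm.trans hj')
        show ((Matrix.of ![N *ᵥ x, W (π k), W (π l)]).det *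
          ((∑ i, (N *ᵥ x) i * τ (W (π k) i)) * ∑ i, (N *ᵥ x) i * τ (W (π l) i))) ^ 2 = _
        rw [hb, hb, ← this]
        show _ = ((Matrix.of ![x, W k, W l]).det * ((∑ i, x i * τ (W k i)) * ∑ i, x i * τ (W l i))) ^ 2
        rw [← hd]; ring
  · intro g hg hgM
    obtain ⟨π, μ, -, hπ⟩ := hperm g hg
    obtain ⟨i, j, hij⟩ := hM3 (π 0)
    refine hij (hι.eq_iff.1 ?_)
    have h1 := hπ 0
    have hW0 : W 0 = Pi.single 0 1 := funext fun l => by
      fin_cases l <;> simp [W, twelve, hι.one, hι.zero]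
    rw [hgM, hW0, Matrix.mulVec_single_one] at h1
    have hi : ι (sixExtra i 0) = μ 0 * W (π 0) i := congrFun h1 i
    have hj : ι (sixExtra j 0) = μ 0 * W (π 0) j := congrFun h1 j
    rw [hι.mul, hι.mul, hi, hj]
    simp only [W]; ring

end CfsgLib.AschbacherForm.Cases
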