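import Cfsg.Agent.Lib.AschbacherForm.Cases.UnitNum
import Cfsg.Agent.Lib.AschbacherForm.Cases.SympTensorTools

/-!
Unitary groups over four elements: planes and two-dimensional tensor factors give way to orthogonal splittings.
-/

set_option autoImplicit false
set_option linter.unusedSectionVars false

namespace CfsgLib.AschbacherForm.Cases

open Cfsg Cfsg.Geo CfsgLib.Aschbacher
open CfsgLib.Maximal (un_add_right un_smul_right un_zero_left un_zero_right un_sum_left)
open scoped Matrix MatrixGroups Kronecker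

universe u
variable {F : Type u} [Field F] [Fintype F] {n q : ℕ} {τ : F ≃+* F}

local notation "hh" => hermForm n F q

theorem fixed_eq_one (hU : UForm n 2 τ) {x : F} (h : τ x = x) (h0 : x ≠ 0) : x = 1 := by
  rw [hU.pow, sq] at h
  exact mul_left_cancel₀ h0 (by rw [h, mul_one])

/-- In a hermitian plane over four elements the anisotropic points are an orthogonal pair. -/
theorem plane_aniso (hU : UForm n 2 τ) {V : Type*} [AddCommGroup V] [Module F V] {g : V → V → F}
    (hadd : ∀ x y v, g (x + y) v = g x v + g y v) (hsmul : ∀ (c : F) x v, g (c • x) v = c * g x v)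
    (hherm : ∀ v w, g v w = τ (g w v)) {w w' : V} (hw : g w w = 1) (hw' : g w' w' = 1) (ho : g w w' = 0)
    {a b : F} (h : g (a • w + b • w') (a • w + b • w') ≠ 0) : a = 0 ∨ b = 0 := by
  by_contra hab
  rw [not_or] at hab
  have hN : ∀ x : F, x ≠ 0 → x * τ x = 1 := fun x hx => fixed_eq_one hU (by rw [map_mul, hU.invol, mul_comm])
    (mul_ne_zero hx fun e => hx (τ.injective (by rw [e, map_zero])))
  have hr : ∀ (c : F) v x, g v (c • x) = τ c * g v x := fun c v x => by
    rw [hherm, hsmul, map_mul, ← hherm]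
  have hra : ∀ v x y, g v (x + y) = g v x + g v y := fun v x y => by
    rw [hherm, hadd, map_add, ← hherm, ← hherm]
  have ho' : g w' w = 0 := by rw [hherm, ho, map_zero]
  apply h
  simp only [hadd, hsmul, hra, hr, hw, hw', ho, ho', mul_zero, mul_one, add_zero, zero_add]
  rw [hN a hab.1, hN b hab.2]
  by_contra hne
  exact absurd (hU.two_iff.1 fun e => hne (by linear_combination e)) (by decide)

/-- An orthogonal family of anisotropic vectors is a frame. -/
theorem frame_of_orth (hU : UForm n q τ) (hn : 2 ≤ n) (u : Fin n → Fin n → F) (hne : ∀ i, hh (u i) (u i) ≠ 0)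
    (ho : ∀ i j, i ≠ j → hh (u i) (u j) = 0) :
    IsNondegenerateMDecomposition hh 1 fun i => Submodule.span F {u i} := by
  classical
  have hf := unitaryForm hU
  have hu0 : ∀ i, u i ≠ 0 := fun i e => hne i (by rw [e, un_zero_left hf])
  have hli : LinearIndependent F u := by
    refine Fintype.linearIndependent_iff.2 fun c hc i => ?_
    have h1 : hh (∑ j, c j • u j) (u i) = 0 := by rw [hc, un_zero_left hf]
    rw [un_sum_left hf, Finset.sum_eq_single i] at h1
    · rw [hf.smul_left] at h1; exact (mul_eq_zero.1 h1).resolve_right (hne i)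
    · intro j _ hj; rw [hf.smul_left, ho j i hj, mul_zero]
    · simp
  refine ⟨⟨hn, one_pos, fun i => finrank_span_singleton (hu0 i),
    hli.iSupIndep_span_singleton, ?_⟩, ?_, ?_⟩
  · rw [← Submodule.span_range_eq_iSup]
    exact hli.span_eq_top_of_card_eq_finrank' (by simp)
  · intro i w hw hw0
    obtain ⟨c, rfl⟩ := Submodule.mem_span_singleton.1 hw
    have hc : c ≠ 0 := fun e => hw0 (by rw [e, zero_smul])
    refine ⟨⟨u i, Submodule.mem_span_singleton_self _, ?_⟩, ⟨u i, Submodule.mem_span_singleton_self _, ?_⟩⟩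
    · rw [un_smul_right hf]
      exact mul_ne_zero (fun e => hc (τ.injective (by rw [e, map_zero]))) (hne i)
    · rw [hf.smul_left]; exact mul_ne_zero hc (hne i)
  · intro i j hij x hx y hy
    obtain ⟨c, rfl⟩ := Submodule.mem_span_singleton.1 hx
    obtain ⟨d, rfl⟩ := Submodule.mem_span_singleton.1 hy
    rw [hf.smul_left, un_smul_right hf, ho i j hij, mul_zero, mul_zero]

/-- Over four elements the stabiliser of planes stabilises a frame. -/
theorem frame_of_planes (hU : UForm n 2 τ) {t : ℕ} {D : Fin t → Submodule F (Fin n → F)}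
    (hD : IsNondegenerateMDecomposition (hermForm n F 2) 2 D) :
    ∃ D' : Fin n → Submodule F (Fin n → F), IsNondegenerateMDecomposition (hermForm n F 2) 1 D' ∧
      decompositionStabilizer D ⊓ GU n F 2 ≤ decompositionStabilizer D' := by
  classical
  have hf := unitaryForm hU
  have htn : t * 2 = n := (unit_eq_card hD).1
  have hn : 2 ≤ n := by have := hD.decomp.two_le; omega
  have hpair : ∀ i, ∃ w w', w ∈ D i ∧ w' ∈ D i ∧ hermForm n F 2 w w = 1 ∧ hermForm n F 2 w' w' = 1 ∧
      hermForm n F 2 w w' = 0 := by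
    intro i
    have hone : ∀ x, hermForm n F 2 x x ≠ 0 → hermForm n F 2 x x = 1 :=
      fun x hx => fixed_eq_one hU (hf.herm x x).symm hx
    have haniso : ∀ W : Submodule F (Fin n → F), IsNondegenerateOn (hermForm n F 2) W → W ≠ ⊥ →
        ∃ w ∈ W, hermForm n F 2 w w ≠ 0 := by
      intro W hW h0
      by_contra hcon
      push Not at hcon
      obtain ⟨w, hw, hw0⟩ := W.exists_mem_ne_zero_of_ne_bot h0
      obtain ⟨⟨x, hx, hne⟩, -⟩ := hW w hw hw0
      obtain ⟨θ, hθ⟩ := exists_theta hU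
      set b := hermForm n F 2 x w
      have h1 := hcon (x + (τ (θ / b)) • w) (W.add_mem hx (W.smul_mem _ hw))
      simp only [hf.add_left, un_add_right hf, hf.smul_left, un_smul_right hf, hcon x hx, hcon w hw,
        hf.herm w x, hU.invol, mul_zero, add_zero, zero_add] at h1
      rw [div_mul_cancel₀ _ hne, ← map_mul, div_mul_cancel₀ _ hne] at h1
      exact one_ne_zero (hθ ▸ h1)
    have hne : D i ≠ ⊥ := fun e => by
      have := hD.decomp.finrank_eq i
      rw [e, finrank_bot] at this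
      omega
    obtain ⟨w, hw, hww⟩ := haniso _ (hD.nondegenerate i) hne
    let L : D i →ₗ[F] F :=
      { toFun := fun x => hermForm n F 2 (x : Fin n → F) w
        map_add' := fun a b => hf.add_left _ _ _
        map_smul' := fun c a => hf.smul_left _ _ _ }
    obtain ⟨w', hw', hw'0⟩ : ∃ x ∈ LinearMap.ker L, x ≠ 0 := by
      refine (Submodule.ne_bot_iff _).1 fun e => ?_
      have h1 := L.finrank_range_add_finrank_ker
      rw [e, finrank_bot, hD.decomp.finrank_eq] at h1
      have h2 := (LinearMap.range L).finrank_le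
      rw [Module.finrank_self] at h2
      omega
    have hww' : hermForm n F 2 (w' : Fin n → F) w = 0 := hw'
    refine ⟨w, w', hw, w'.2, hone w hww, hone _ fun e => ?_, by rw [hf.herm, hww', map_zero]⟩
    obtain ⟨⟨x, hx, hne⟩, -⟩ := hD.nondegenerate i _ w'.2 fun e' => hw'0 (Subtype.ext e')
    apply hne
    have hli : LinearIndependent F ![(⟨w, hw⟩ : D i), w'] := by
      refine LinearIndependent.pair_iff.2 fun s s' hs => ?_
      have hs' : s • w + s' • (w' : Fin n → F) = 0 := congrArg Subtype.val hs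
      have h1 := congrArg (fun v => hermForm n F 2 v w) hs'
      simp only [hf.add_left, hf.smul_left, hww', un_zero_left hf, mul_zero, add_zero] at h1
      have hs0 : s = 0 := (mul_eq_zero.1 h1).resolve_right hww
      rw [hs0, zero_smul, zero_add, smul_eq_zero] at hs'
      exact ⟨hs0, hs'.resolve_right fun e' => hw'0 (Subtype.ext e')⟩
    have hsp : (⟨x, hx⟩ : D i) ∈ Submodule.span F (Set.range ![(⟨w, hw⟩ : D i), w']) := by
      rw [hli.span_eq_top_of_card_eq_finrank (by simp [hD.decomp.finrank_eq i])]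
      exact Submodule.mem_top
    rw [Matrix.range_cons_cons_empty] at hsp
    obtain ⟨s, s', hs⟩ := Submodule.mem_span_pair.1 hsp
    rw [show x = s • w + s' • (w' : Fin n → F) from (congrArg Subtype.val hs).symm, hf.add_left, hf.smul_left,
      hf.smul_left, e, hf.herm w (w' : Fin n → F), hww', map_zero, mul_zero, mul_zero, add_zero]
  choose w w' hw hw' h1 h1' ho using hpair
  let ε : Fin n ≃ Fin t × Fin 2 := (finCongr htn.symm).trans finProdFinEquiv.symm
  let v : Fin t × Fin 2 → Fin n → F := fun p => if p.2 = 0 then w p.1 else w' p.1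
  have hvmem : ∀ p, v p ∈ D p.1 := fun p => by
    by_cases h : p.2 = 0 <;> simp [v, h, hw, hw']
  have hvne : ∀ p, hermForm n F 2 (v p) (v p) = 1 := fun p => by
    by_cases h : p.2 = 0 <;> simp [v, h, h1, h1']
  have hvo : ∀ p p', p ≠ p' → hermForm n F 2 (v p) (v p') = 0 := by
    rintro ⟨i, b⟩ ⟨j, b'⟩ hne
    by_cases hij : i = j
    · subst hij
      have hbb : b ≠ b' := fun e => hne (by rw [e])
      have ho' : hermForm n F 2 (w' i) (w i) = 0 := by rw [hf.herm, ho, map_zero]
      fin_cases b <;> fin_cases b' <;> first | exact absurd rfl hbb | simp [v, ho, ho']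
    · exact hD.orthogonal i j hij _ (hvmem (i, b)) _ (hvmem (j, b'))
  let u : Fin n → Fin n → F := fun i => v (ε i)
  refine ⟨fun i => Submodule.span F {u i},
    frame_of_orth hU hn u (fun i => by rw [hvne]; exact one_ne_zero) fun i j hij => hvo _ _ fun e => hij (ε.injective e),
    ?_⟩
  rintro g ⟨⟨σ, hσ⟩, hgU⟩
  have himg : ∀ i, ∃ j, ∃ c : F, c ≠ 0 ∧ (g : Matrix (Fin n) (Fin n) F) *ᵥ u i = c • u j := by
    intro i
    set x := (g : Matrix (Fin n) (Fin n) F) *ᵥ u i with hx
    have hxm : x ∈ D (σ (ε i).1) := by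
      rw [← hσ]; exact ⟨_, hvmem _, Matrix.toLin'_apply _ _⟩
    have hxx : hermForm n F 2 x x ≠ 0 := by
      rw [hx, (CfsgLib.Maximal.mem_GU_iff g).1 hgU, hvne]; exact one_ne_zero
    set k := σ (ε i).1
    have hli : LinearIndependent F ![(⟨w k, hw k⟩ : D k), ⟨w' k, hw' k⟩] := by
      refine LinearIndependent.pair_iff.2 fun s s' hs => ?_
      have hs' : s • w k + s' • w' k = 0 := congrArg Subtype.val hs
      have a1 := congrArg (fun y => hermForm n F 2 y (w k)) hs'
      have a2 := congrArg (fun y => hermForm n F 2 y (w' k)) hs'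
      simp only [hf.add_left, hf.smul_left, un_zero_left hf, h1, h1', ho, hf.herm (w' k) (w k), map_zero, mul_zero,
        mul_one, add_zero, zero_add] at a1 a2
      exact ⟨a1, a2⟩
    have hsp : (⟨x, hxm⟩ : D k) ∈ Submodule.span F (Set.range ![(⟨w k, hw k⟩ : D k), ⟨w' k, hw' k⟩]) := by
      rw [hli.span_eq_top_of_card_eq_finrank (by simp [hD.decomp.finrank_eq k])]
      exact Submodule.mem_top
    rw [Matrix.range_cons_cons_empty] at hsp
    obtain ⟨s, s', hs⟩ := Submodule.mem_span_pair.1 hsp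
    have hs' : x = s • w k + s' • w' k := (congrArg Subtype.val hs).symm
    have hx0 : x ≠ 0 := fun e => hxx (by rw [e, un_zero_left hf])
    rcases plane_aniso hU hf.add_left hf.smul_left hf.herm (h1 k) (h1' k) (ho k) (hs' ▸ hxx) with rfl | rfl
    · refine ⟨ε.symm (k, 1), s', fun e => hx0 (by rw [hs', e]; simp), ?_⟩
      rw [hs', zero_smul, zero_add]; simp [u, v]
    · refine ⟨ε.symm (k, 0), s, fun e => hx0 (by rw [hs', e]; simp), ?_⟩
      rw [hs', zero_smul, add_zero]; simp [u, v]
  choose π c hc hπ using himg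
  have hinj : Function.Injective π := by
    intro i j hij
    by_contra hne
    have h2 := (CfsgLib.Maximal.mem_GU_iff g).1 hgU (u i) (u j)
    rw [hπ, hπ, hij, hf.smul_left, un_smul_right hf, hvne, hvo _ _ fun e => hne (ε.injective e), mul_one] at h2
    exact mul_ne_zero (hc i) (fun e => hc j (τ.injective (by rw [e, map_zero]))) h2
  refine ⟨Equiv.ofBijective π (Finite.injective_iff_bijective.1 hinj), fun i => ?_⟩
  rw [Submodule.map_span, Set.image_singleton, Matrix.toLin'_apply, hπ]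
  exact Submodule.span_singleton_smul_eq (IsUnit.mk0 _ (hc i)) _

theorem form_pure' {κ μ : Type} [Fintype κ] [Fintype μ] (σ : F ≃+* F) (S : Matrix κ κ F) (T : Matrix μ μ F)
    (a a' : κ → F) (b b' : μ → F) :
    formOfGram σ (S ⊗ₖ T) (fun p => a p.1 * b p.2) (fun p => a' p.1 * b' p.2) =
      formOfGram σ S a a' * formOfGram σ T b b' := by
  simp only [formOfGram, map_mul, Matrix.kroneckerMap_apply, Fintype.sum_prod_type, Finset.sum_mul, Finset.mul_sum]
  symm
  rw [Finset.sum_congr rfl fun p _ => Finset.sum_comm, Finset.sum_comm]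
  refine Finset.sum_congr rfl fun i _ => Finset.sum_congr rfl fun p _ => ?_
  rw [Finset.sum_comm]
  exact Finset.sum_congr rfl fun j _ => Finset.sum_congr rfl fun q _ => by ring

/-- Over four elements a two-dimensional tensor factor gives a splitting into two subspaces. -/
theorem halves_of_tensor {k : ℕ} (hU : UForm n 2 τ) (hk : 1 ≤ k) {e : Fin n ≃ Fin 2 × Fin k} {P : GL (Fin n) F}
    {f₁ : (Fin 2 → F) → (Fin 2 → F) → F} {f₂ : (Fin k → F) → (Fin k → F) → F}
    (hf₁ : IsUnitaryFormPow 2 f₁) (hf₂ : IsUnitaryFormPow 2 f₂)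
    (hT : IsTensorFormStructure (fun x : F => x ^ 2) (hermForm n F 2) f₁ f₂ e P) :
    ∃ D : Fin 2 → Submodule F (Fin n → F), IsNondegenerateMDecomposition (hermForm n F 2) k D ∧
      tensorProductSubgroup 2 k e P ⊓ GU n F 2 ≤ decompositionStabilizer D := by
  classical
  have hf := unitaryForm hU
  have hpow : (fun x : F => x ^ 2) = τ := funext fun x => (hU.pow x).symm
  rw [hpow] at hT
  have toU : ∀ {d : ℕ} {g : (Fin d → F) → (Fin d → F) → F}, IsUnitaryFormPow 2 g → IsUnitaryForm τ g :=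
    fun {d g} h => ⟨hU.ne, hU.invol, h.add_left, h.smul_left, fun v w => by rw [hU.pow]; exact h.herm v w,
      h.nondegenerate⟩
  have hu₁ := toU hf₁
  have hu₂ := toU hf₂
  have hone : ∀ {x : F}, τ x = x → x ≠ 0 → x = 1 := fixed_eq_one hU
  -- an orthogonal basis of the first factor
  obtain ⟨u0, hu00⟩ : ∃ u0, f₁ u0 u0 ≠ 0 := by
    by_contra hcon
    push Not at hcon
    let x : Fin 2 → F := Pi.single 0 1
    obtain ⟨y, hy⟩ := CfsgLib.Maximal.un_exists hu₁ x (by simp [x])
    obtain ⟨θ, hθ⟩ := exists_theta hU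
    have hyx : f₁ y x = 1 := by rw [hu₁.herm, hy, map_one]
    have h := hcon (x + τ θ • y)
    simp only [hu₁.add_left, un_add_right hu₁, hu₁.smul_left, un_smul_right hu₁, hcon, hy, hyx, hU.invol, mul_zero,
      mul_one, add_zero, zero_add] at h
    exact one_ne_zero (hθ ▸ h)
  have h00 : f₁ u0 u0 = 1 := hone (hu₁.herm u0 u0).symm hu00
  obtain ⟨u1, hu1, hu10⟩ : ∃ u1, f₁ u1 u0 = 0 ∧ u1 ≠ 0 := by
    obtain ⟨v, hv0, hv⟩ := exists_perp (ι := Fin 2) (by simp) (show 1 < Fintype.card (Fin 2) by simp)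
      ![CfsgLib.Maximal.fvec f₁ u0]
    exact ⟨v, by rw [← CfsgLib.Maximal.un_dot hu₁]; exact hv 0, hv0⟩
  have h01 : f₁ u0 u1 = 0 := by rw [hu₁.herm, hu1, map_zero]
  have hspan : ∀ x : Fin 2 → F, ∃ a b : F, x = a • u0 + b • u1 := by
    intro x
    have hli : LinearIndependent F ![u0, u1] := by
      refine LinearIndependent.pair_iff.2 fun s s' hs => ?_
      have a1 := congrArg (fun y => f₁ y u0) hs
      simp only [hu₁.add_left, hu₁.smul_left, un_zero_left hu₁, h00, hu1, mul_zero, mul_one, add_zero] at a1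
      rw [a1, zero_smul, zero_add, smul_eq_zero] at hs
      exact ⟨a1, hs.resolve_right hu10⟩
    have hsp : x ∈ Submodule.span F (Set.range ![u0, u1]) := by
      rw [hli.span_eq_top_of_card_eq_finrank (by simp)]; exact Submodule.mem_top
    rw [Matrix.range_cons_cons_empty] at hsp
    obtain ⟨a, b, hab⟩ := Submodule.mem_span_pair.1 hsp
    exact ⟨a, b, hab.symm⟩
  have h11 : f₁ u1 u1 = 1 := hone (hu₁.herm u1 u1).symm fun e' => by
    obtain ⟨x, hx⟩ := (hu₁.nondegenerate u1 hu10).1
    obtain ⟨a, b, rfl⟩ := hspan x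
    rw [hu₁.add_left, hu₁.smul_left, hu₁.smul_left, h01, e', mul_zero, mul_zero, add_zero] at hx
    exact hx rfl
  let ub : Fin 2 → Fin 2 → F := ![u0, u1]
  have hub : ∀ a b, f₁ (ub a) (ub b) = if a = b then 1 else 0 := by
    intro a b; fin_cases a <;> fin_cases b <;> simp [ub, h00, h11, h01, hu1]
  let L : Fin 2 → (Fin k → F) →ₗ[F] (Fin n → F) := fun a =>
    (Matrix.mulVecLin (P : Matrix (Fin n) (Fin n) F)) ∘ₗ (LinearMap.funLeft F F e) ∘ₗ
      { toFun := fun y p => ub a p.1 * y p.2
        map_add' := fun y y' => funext fun p => by simp [mul_add]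
        map_smul' := fun c y => funext fun p => by simp [mul_left_comm] }
  have hL : ∀ a y, L a y = (P : Matrix (Fin n) (Fin n) F) *ᵥ ((fun p => ub a p.1 * y p.2) ∘ e) := fun a y => rfl
  obtain ⟨c, hc, hT'⟩ := hT
  have hform : ∀ a b y y', hermForm n F 2 (L a y) (L b y') = if a = b then c * f₂ y y' else 0 := by
    intro a b y y'
    rw [hL, hL, hT', form_pure', ← unitary_eq_gram hu₁, ← unitary_eq_gram hu₂, hub]
    split_ifs <;> simp
  have hinj : ∀ a, Function.Injective (L a) := fun a => (injective_iff_map_eq_zero _).2 fun y hy => by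
    by_contra hne
    obtain ⟨x, hx⟩ := (hu₂.nondegenerate y hne).1
    have := hform a a x y
    rw [hy, if_pos rfl, un_zero_right hf] at this
    simp [hc, hx] at this
  let D : Fin 2 → Submodule F (Fin n → F) := fun a => LinearMap.range (L a)
  have horth : ∀ i j, i ≠ j → AreOrthogonalFor (hermForm n F 2) (D i) (D j) := by
    rintro i j hij _ ⟨a, rfl⟩ _ ⟨a', rfl⟩
    rw [hform, if_neg hij]
  have hnd : ∀ i, IsNondegenerateOn (hermForm n F 2) (D i) := by
    rintro i _ ⟨y, rfl⟩ h0
    obtain ⟨⟨x, hx⟩, ⟨z, hz⟩⟩ := hu₂.nondegenerate y fun e' => h0 (by rw [e', map_zero])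
    exact ⟨⟨_, ⟨x, rfl⟩, by rw [hform, if_pos rfl]; exact mul_ne_zero hc hx⟩,
      ⟨_, ⟨z, rfl⟩, by rw [hform, if_pos rfl]; exact mul_ne_zero hc hz⟩⟩
  have hdisj : ∀ i j, i ≠ j → Disjoint (D i) (D j) := fun i j hij => Submodule.disjoint_def.2 fun v hv hv' => by
    by_contra h0
    obtain ⟨⟨x, hx, hne⟩, -⟩ := hnd i v hv h0
    exact hne (horth i j hij x hx v hv')
  have hfr : ∀ i, Module.finrank F (D i) = k := fun i => by
    rw [LinearMap.finrank_range_of_inj (hinj i), Module.finrank_fin_fun]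
  have hsup : D 0 ⊔ D 1 = ⊤ := by
    refine Submodule.eq_top_of_finrank_eq ?_
    have h := Submodule.finrank_sup_add_finrank_inf_eq (D 0) (D 1)
    rw [(hdisj 0 1 (by decide)).eq_bot, finrank_bot, hfr, hfr, add_zero] at h
    rw [h, Module.finrank_fin_fun]
    have := Fintype.card_congr e
    simp at this
    omega
  refine ⟨D, ⟨⟨le_rfl, hk, hfr, ?_, ?_⟩, hnd, horth⟩, ?_⟩
  · intro i
    refine (hdisj i (1 - i) (by revert i; decide)).mono_right (iSup₂_le fun j hj => le_of_eq ?_)
    congr 1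
    revert i j; decide
  · refine top_unique (hsup ▸ sup_le (le_iSup D 0) (le_iSup D 1))
  rintro g ⟨hg, hgU⟩
  obtain ⟨_, ⟨kr, ⟨A, B, hk'⟩, rfl⟩, rfl⟩ := hg
  set G : GL (Fin n) F := P * glReindex e.symm kr * P⁻¹
  have hAB : coordR e P (G : Matrix (Fin n) (Fin n) F) =
      (A : Matrix (Fin 2) (Fin 2) F) ⊗ₖ (B : Matrix (Fin k) (Fin k) F) := by
    rw [← hk', coordR_gl]
    congr 1
    refine Units.ext ?_
    ext i j
    simp [G, glReindex, mul_assoc]
  have key : ∀ a y, Matrix.toLin' (G : Matrix (Fin n) (Fin n) F) (L a y) =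
      (P : Matrix (Fin n) (Fin n) F) *ᵥ
        ((fun p => ((A : Matrix (Fin 2) (Fin 2) F) *ᵥ ub a) p.1 * ((B : Matrix (Fin k) (Fin k) F) *ᵥ y) p.2) ∘ e) := by
    intro a y
    rw [Matrix.toLin'_apply, hL, coordR_mulVec, hAB, kron_pure]
  -- anisotropic vectors of the first factor stay anisotropic
  obtain ⟨y₀, hy₀⟩ : ∃ y₀, f₂ y₀ y₀ ≠ 0 := by
    by_contra hcon
    push Not at hcon
    let x : Fin k → F := Pi.single ⟨0, hk⟩ 1
    obtain ⟨y, hy⟩ := CfsgLib.Maximal.un_exists hu₂ x (by simp [x])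
    obtain ⟨θ, hθ⟩ := exists_theta hU
    have hyx : f₂ y x = 1 := by rw [hu₂.herm, hy, map_one]
    have h := hcon (x + τ θ • y)
    simp only [hu₂.add_left, un_add_right hu₂, hu₂.smul_left, un_smul_right hu₂, hcon, hy, hyx, hU.invol, mul_zero,
      mul_one, add_zero, zero_add] at h
    exact one_ne_zero (hθ ▸ h)
  have himg : ∀ a, ∃ b, ∃ l : F, l ≠ 0 ∧ (A : Matrix (Fin 2) (Fin 2) F) *ᵥ ub a = l • ub b := by
    intro a
    set x := (A : Matrix (Fin 2) (Fin 2) F) *ᵥ ub a with hx
    have hxx : f₁ x x ≠ 0 := by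
      intro e0
      have h1 := (CfsgLib.Maximal.mem_GU_iff G).1 hgU (L a y₀) (L a y₀)
      rw [hform, if_pos rfl, ← Matrix.toLin'_apply, key, hT', form_pure', ← unitary_eq_gram hu₁,
        ← unitary_eq_gram hu₂, e0, zero_mul, mul_zero] at h1
      exact mul_ne_zero hc hy₀ h1.symm
    obtain ⟨s, s', hs⟩ := hspan x
    have hx0 : x ≠ 0 := fun e' => hxx (by rw [e', un_zero_left hu₁])
    rcases plane_aniso hU hu₁.add_left hu₁.smul_left hu₁.herm h00 h11 h01 (hs ▸ hxx) with rfl | rfl
    · exact ⟨1, s', fun e' => hx0 (by rw [hs, e']; simp), by rw [hs]; simp [ub]⟩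
    · exact ⟨0, s, fun e' => hx0 (by rw [hs, e']; simp), by rw [hs]; simp [ub]⟩
  choose π l hl hπ using himg
  have hπinj : Function.Injective π := by
    intro i j hij
    by_contra hne
    have h1 : l j • ub i = l i • ub j := Matrix.mulVec_injective_of_isUnit A.isUnit (by
      rw [Matrix.mulVec_smul, Matrix.mulVec_smul, hπ, hπ, hij, smul_smul, smul_smul, mul_comm])
    have h2 := congrArg (fun z => f₁ z (ub i)) h1
    simp only [hu₁.smul_left, hub, if_pos, if_neg (Ne.symm hne), mul_one, mul_zero] at h2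
    exact hl j h2
  refine ⟨Equiv.ofBijective π (Finite.injective_iff_bijective.1 hπinj), fun a => ?_⟩
  have key' : ∀ y, Matrix.toLin' (G : Matrix (Fin n) (Fin n) F) (L a y) =
      L (π a) (l a • ((B : Matrix (Fin k) (Fin k) F) *ᵥ y)) := fun y => by
    rw [key, hL, hπ]
    congr 2
    funext p
    simp only [Pi.smul_apply, smul_eq_mul]
    ring
  refine le_antisymm ?_ ?_
  · rintro _ ⟨_, ⟨y, rfl⟩, rfl⟩
    exact ⟨_, (key' y).symm⟩
  · rintro _ ⟨y, rfl⟩
    refine ⟨L a ((l a)⁻¹ • ((↑B⁻¹ : Matrix (Fin k) (Fin k) F) *ᵥ y)), ⟨_, rfl⟩, ?_⟩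
    show Matrix.toLin' (G : Matrix (Fin n) (Fin n) F) _ = L (π a) y
    rw [key']
    congr 1
    rw [Matrix.mulVec_smul, smul_smul, mul_inv_cancel₀ (hl a), one_smul, Matrix.mulVec_mulVec, Units.mul_inv,
      Matrix.one_mulVec]

theorem su_frame_two (hU : UForm n q τ) (hq : q = 2) (hn : 4 ≤ n) {H : Subgroup (GL (Fin n) F)}
    (hH : IsMaximalIn (GU n F q ⊓ specialLinear (Fin n) F) H) {t : ℕ} {D : Fin t → Submodule F (Fin n → F)}
    (hD : IsNondegenerateMDecomposition hh 2 D) (hle : H ≤ decompositionStabilizer D) :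
    ∃ D' : Fin n → Submodule F (Fin n → F), IsNondegenerateMDecomposition hh 1 D' ∧
      H = decompositionStabilizer D' ⊓ (GU n F q ⊓ specialLinear (Fin n) F) := by
  subst hq
  obtain ⟨D', hD', hle'⟩ := frame_of_planes hU hD
  exact ⟨D', hD', su_eq_inf hH ((le_inf hle (hH.1.le.trans inf_le_left)).trans hle')
    (not_su_le_frame hU (by omega) (Or.inr hn) hD')⟩

theorem su_tensor_two {k : ℕ} (hU : UForm n q τ) (hq : q = 2) (hn : 4 ≤ n) (hk : 2 ≤ k)
    {H : Subgroup (GL (Fin n) F)} (hH : IsMaximalIn (GU n F q ⊓ specialLinear (Fin n) F) H)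
    {e : Fin n ≃ Fin 2 × Fin k} {P : GL (Fin n) F} {f₁ : (Fin 2 → F) → (Fin 2 → F) → F}
    {f₂ : (Fin k → F) → (Fin k → F) → F} (hf₁ : IsUnitaryFormPow q f₁) (hf₂ : IsUnitaryFormPow q f₂)
    (hT : IsTensorFormStructure (fun x : F => x ^ q) hh f₁ f₂ e P) (hle : H ≤ tensorProductSubgroup 2 k e P) :
    ∃ D : Fin 2 → Submodule F (Fin n → F), IsNondegenerateMDecomposition hh k D ∧
      H = decompositionStabilizer D ⊓ (GU n F q ⊓ specialLinear (Fin n) F) := by
  subst hq
  obtain ⟨D, hD, hle'⟩ := halves_of_tensor hU (by omega) hf₁ hf₂ hT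
  exact ⟨D, hD, su_eq_inf hH ((le_inf hle (hH.1.le.trans inf_le_left)).trans hle')
    (not_le_decomposition (rich_su hU (by omega)) hk hD.decomp)⟩

end CfsgLib.AschbacherForm.Cases
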